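import Cfsg.Agent.BMx.AbsMain
import Cfsg.Agent.S0000
import Cfsg.Agent.OrdDiv.Table
import Cfsg.Agent.S4368
import Cfsg.Agent.S1704
import Cfsg.Agent.S3331
import Cfsg.Agent.H332.BabyUpper
import Cfsg.Agent.H715.Mon.Exact

/-!
# The abstract boxes, unconditionally (helper77, for S5527)
-/

set_option autoImplicit false

namespace Cfsg.Agent.BMx.Abs

open Cfsg

theorem inp : Inp where
  base := ⟨OrdDiv.table, fun _ _ _ _ => S0000.result⟩
  h55 := fun _ _ _ _ h1 h2 => S4368.result h1 h2
  card := S1704.result.2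
  rank := H332.BabyUpper.baby_le
  c31 := fun x hx => by
    have : Finite BM := Nat.finite_of_card_ne_zero (by rw [S1704.result.2]; norm_num)
    exact H715.Mon.Exact.B.cent31 (fun _ _ _ X hX hC => S3331.result X hX hC) ⟨MulEquiv.refl _⟩ hx

theorem a31 : A31 := inp.a31
theorem a11 : A11 := inp.a11
theorem aM11 : AM11 := inp.aM11
theorem a17 : A17 := inp.a17
theorem aL33 : AL33 := inp.aL33

end Cfsg.Agent.BMx.Abs
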