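import Cfsg.Agent.BMx.AbsLin
import Cfsg.Agent.BMx.Iface
import Cfsg.Agent.ClassicalGeometry.PSL2Basic
import Cfsg.Agent.H113.PSL.Pass
import Cfsg.Agent.S0243
import Cfsg.Agent.S0249
import Cfsg.Agent.S2475

/-!
# Facts on `L_2(31)`, `PGL_2(11)`, `PGL_2(17)`, `L_3(3)` (helper77, for S5527)
-/

set_option autoImplicit false
set_option linter.unusedSectionVars false
set_option linter.style.haveILetI false

namespace Cfsg.Agent.BMx.Abs

open Subgroup Matrix

/-! ### `PGL_2(q)` -/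

section pgl

variable {F : Type} [Field F] [Fintype F]

/-- an element of `PGL_2` commuting with the image of `SL_2` is trivial -/
theorem eq_one_of_comm (z : ProjGenLinGroup (Fin 2) F)
    (h : ∀ g : SpecialLinearGroup (Fin 2) F, z * ProjGenLinGroup.mk (SpecialLinearGroup.toGL g) =
      ProjGenLinGroup.mk (SpecialLinearGroup.toGL g) * z) : z = 1 := by
  obtain ⟨A, rfl⟩ := ProjGenLinGroup.mk_surjective z
  have hdet : (A : Matrix (Fin 2) (Fin 2) F) 0 0 * (A : Matrix (Fin 2) (Fin 2) F) 1 1 -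
      (A : Matrix (Fin 2) (Fin 2) F) 0 1 * (A : Matrix (Fin 2) (Fin 2) F) 1 0 ≠ 0 := by
    rw [← det_fin_two]
    exact A.det_ne_zero
  have key : ∀ g : SpecialLinearGroup (Fin 2) F, ∃ u : F, u ≠ 0 ∧ ∀ i j,
      ((A : Matrix (Fin 2) (Fin 2) F) * (g : Matrix (Fin 2) (Fin 2) F)) i j * u =
        ((g : Matrix (Fin 2) (Fin 2) F) * (A : Matrix (Fin 2) (Fin 2) F)) i j := by
    intro g
    have h1 := h g
    rw [← map_mul, ← map_mul, ProjGenLinGroup.mk_eq_mk_iff] at h1
    obtain ⟨u, hu⟩ := h1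
    refine ⟨u, u.ne_zero, fun i j => ?_⟩
    have h2 : ((A * SpecialLinearGroup.toGL g * GeneralLinearGroup.scalar (Fin 2) u : GL (Fin 2) F) :
        Matrix (Fin 2) (Fin 2) F) i j = ((SpecialLinearGroup.toGL g * A : GL (Fin 2) F) :
        Matrix (Fin 2) (Fin 2) F) i j := by rw [hu]
    rw [Units.val_mul, GeneralLinearGroup.coe_scalar, scalar_apply, mul_diagonal] at h2
    exact h2
  obtain ⟨u, -, hu⟩ := key ⟨!![1, 1; 0, 1], by simp [det_fin_two]⟩
  obtain ⟨v, -, hv⟩ := key ⟨!![1, 0; 1, 1], by simp [det_fin_two]⟩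
  have u00 := hu 0 0
  have u01 := hu 0 1
  have u10 := hu 1 0
  have v01 := hv 0 1
  have v11 := hv 1 1
  simp [Matrix.mul_apply, Fin.sum_univ_two] at u00 u01 u10 v01 v11
  set a := (A : Matrix (Fin 2) (Fin 2) F) 0 0
  set b := (A : Matrix (Fin 2) (Fin 2) F) 0 1
  set c := (A : Matrix (Fin 2) (Fin 2) F) 1 0
  set d := (A : Matrix (Fin 2) (Fin 2) F) 1 1
  have hc : c = 0 := by
    by_contra hc
    have h1 : u = 1 := mul_left_cancel₀ hc (by rw [u10, mul_one])
    rw [h1, mul_one] at u00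
    exact hc (by linear_combination -u00)
  have hb : b = 0 := by
    by_contra hb
    have h1 : v = 1 := mul_left_cancel₀ hb (by rw [v01, mul_one])
    rw [h1, mul_one] at v11
    exact hb (by linear_combination -v11)
  have ha : a ≠ 0 := fun ha => hdet (by rw [ha, hb]; ring)
  have hu1 : u = 1 := mul_left_cancel₀ ha (by rw [u00, hc]; ring)
  have had : a = d := by
    rw [hu1, hb] at u01
    linear_combination u01
  rw [← ProjGenLinGroup.mk_scalar (n := Fin 2) (Units.mk0 a ha)]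
  congr 1
  ext i j
  rw [GeneralLinearGroup.coe_scalar]
  fin_cases i <;> fin_cases j
  · simp [a]
  · simpa using hb
  · simpa using hc
  · simpa using had.symm

theorem index_psl (hodd : Odd (Fintype.card F)) :
    (ProjectiveSpecialLinearGroup.toPGL (n := Fin 2) (R := F)).range.index = 2 := by
  rw [H113.PSL.Pass.index_range_toPGL le_rfl]
  obtain ⟨m, hm⟩ := hodd
  rw [hm, Nat.add_sub_cancel]
  exact Nat.gcd_eq_left (Dvd.intro _ rfl)

/-- a nontrivial normal subgroup of `PGL_2` contains `PSL_2` -/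
theorem psl_le (h4 : 4 ≤ Fintype.card F) (M : Subgroup (ProjGenLinGroup (Fin 2) F)) (hM : M.Normal) (hb : M ≠ ⊥) :
    (ProjectiveSpecialLinearGroup.toPGL (n := Fin 2) (R := F)).range ≤ M := by
  have hs : IsSimpleGroup (ProjectiveSpecialLinearGroup (Fin 2) F) :=
    ProjectiveSpecialLinearGroup.rank_two_simple (by rwa [Nat.card_eq_fintype_card])
  rcases hs.eq_bot_or_eq_top_of_normal (M.comap ProjectiveSpecialLinearGroup.toPGL) (hM.comap _) with h | h
  · exfalso
    apply hb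
    rw [eq_bot_iff]
    intro z hz
    refine mem_bot.2 (eq_one_of_comm z fun g => ?_)
    refine (commute_of_normal_of_disjoint M _ hM H113.PSL.Pass.range_toPGL_normal ?_ z _ hz ⟨(g : _), rfl⟩).eq
    rw [disjoint_def]
    rintro _ hx ⟨x, rfl⟩
    have h1 : x ∈ M.comap ProjectiveSpecialLinearGroup.toPGL := hx
    rw [h, mem_bot] at h1
    rw [h1, map_one]
  · rintro _ ⟨x, rfl⟩
    have h1 : x ∈ M.comap ProjectiveSpecialLinearGroup.toPGL := by rw [h]; trivial
    exact h1

theorem q2_pgl (h4 : 4 ≤ Fintype.card F) (hodd : Odd (Fintype.card F)) : Q2 (ProjGenLinGroup (Fin 2) F) := by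
  intro M hM
  by_cases hb : M = ⊥
  · exact Or.inl hb
  · right
    have h := index_dvd_of_le (psl_le h4 M hM hb)
    rwa [index_psl hodd] at h

end pgl

theorem f11 : Fact (Nat.Prime 11) := ⟨by norm_num⟩
theorem f17 : Fact (Nat.Prime 17) := ⟨by norm_num⟩
theorem f31 : Fact (Nat.Prime 31) := ⟨by norm_num⟩

theorem q2_11 : Q2 PGL211 := by
  have := f11
  exact q2_pgl (F := ZMod 11) (by simp) (by simp; decide)

theorem q2_17 : Q2 PGL217 := by
  have := f17
  exact q2_pgl (F := ZMod 17) (by simp) (by simp; decide)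

theorem card_11 : Nat.card PGL211 = 1320 := by
  have := f11
  have h := ClassicalGeometry.PSL2Basic.card_PGL2 (ZMod 11)
  rw [ZMod.card] at h
  exact h

theorem card_17 : Nat.card PGL217 = 4896 := by
  have := f17
  have h := ClassicalGeometry.PSL2Basic.card_PGL2 (ZMod 17)
  rw [ZMod.card] at h
  exact h

/-- in a subgroup of index two the centralisers of the elements of order 5 are 5-groups -/
def F5 (H : Type*) [Group H] : Prop :=
  ∀ M : Subgroup H, M.index = 2 → ∀ x ∈ M, ∀ y ∈ M, orderOf x = 5 → x * y = y * x → y ^ 5 = 1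

theorem F5.congr {H L : Type*} [Group H] [Group L] (e : H ≃* L) (h : F5 L) : F5 H := by
  intro M hM x hx y hy h5 hxy
  have h1 := h (M.map (e : H →* L)) (by rwa [index_map_equiv]) (e x) ⟨x, hx, rfl⟩ (e y) ⟨y, hy, rfl⟩
    (by rw [MulEquiv.orderOf_eq, h5]) (by rw [← map_mul, ← map_mul, hxy])
  rw [← map_pow] at h1
  exact (MulEquiv.map_eq_one_iff e).1 h1

theorem f5_11' : F5 (ProjGenLinGroup (Fin 2) (ZMod 11)) := by
  have := f11
  intro M hM x hx y hy h5 hxy
  have hMn : M.Normal := normal_of_index_eq_two hM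
  have h2 : Nat.card (ProjGenLinGroup (Fin 2) (ZMod 11)) = 1320 := card_11
  have hcM : Nat.card M = 660 := by
    have h1 := M.card_mul_index
    rw [hM, h2] at h1
    omega
  have hi := index_psl (F := ZMod 11) (by simp; decide)
  have hle := psl_le (F := ZMod 11) (by simp) M hMn (fun h => by rw [h, card_bot] at hcM; omega)
  have heq : (ProjectiveSpecialLinearGroup.toPGL (n := Fin 2) (R := ZMod 11)).range = M := by
    have hfin : Finite (ProjGenLinGroup (Fin 2) (ZMod 11)) := Finite.of_surjective _ ProjGenLinGroup.mk_surjective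
    apply eq_of_le_of_card_ge hle
    have h1 := (ProjectiveSpecialLinearGroup.toPGL (n := Fin 2) (R := ZMod 11)).range.card_mul_index
    rw [hi, h2] at h1
    omega
  rw [← heq] at hx hy
  obtain ⟨x, rfl⟩ := hx
  obtain ⟨y, rfl⟩ := hy
  have hinj := ProjectiveSpecialLinearGroup.toPGL_injective (n := Fin 2) (R := ZMod 11)
  have hx5 : orderOf x = 5 := (orderOf_injective _ hinj x).symm.trans h5
  have hc : Commute x y := hinj (by rw [map_mul, map_mul]; exact hxy)
  have hord : ∀ g : ProjectiveSpecialLinearGroup (Fin 2) (ZMod 11),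
      orderOf g ∣ 11 ∨ orderOf g ∣ 5 ∨ orderOf g ∣ 6 := by
    intro g
    have h1 := S2475.result (F := ZMod 11) 11 (by simp)
    have h2 : orderOf g ∈ Set.range (orderOf : ProjectiveSpecialLinearGroup (Fin 2) (ZMod 11) → ℕ) := ⟨g, rfl⟩
    rw [h1, ZMod.card] at h2
    exact h2
  have h6 : y ^ 5 = 1 := by
    by_contra h6
    have h7 : ¬ orderOf y ∣ 5 := fun h => h6 (orderOf_dvd_iff_pow_eq_one.1 h)
    have h8 : (orderOf x).Coprime (orderOf y) := by
      rw [hx5]
      rcases hord y with h | h | h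
      · exact Nat.Coprime.coprime_dvd_right h (by norm_num)
      · exact absurd h h7
      · exact Nat.Coprime.coprime_dvd_right h (by norm_num)
    have h9 := hord (x * y)
    rw [hc.orderOf_mul_eq_mul_orderOf_of_coprime h8, hx5] at h9
    rcases h9 with h | h | h
    · exact absurd ((Dvd.intro _ rfl).trans h) (by norm_num)
    · exact h7 ((Dvd.intro_left _ rfl).trans h)
    · exact absurd ((Dvd.intro _ rfl).trans h) (by norm_num)
  have h7 := congrArg (ProjectiveSpecialLinearGroup.toPGL (n := Fin 2) (R := ZMod 11)) h6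
  rw [map_pow, map_one] at h7
  exact h7

theorem f5_11 : F5 PGL211 := f5_11'

/-- an element of order 16 -/
theorem sixteen_17 : ∃ g : PGL217, g ^ 2 ^ 4 = 1 ∧ g ^ 2 ^ 3 ≠ 1 := by
  let A : GL (Fin 2) (ZMod 17) := ⟨!![3, 0; 0, 1], !![6, 0; 0, 1], by decide +kernel, by decide +kernel⟩
  let W : GL (Fin 2) (ZMod 17) := ⟨!![0, 1; 1, 0], !![0, 1; 1, 0], by decide +kernel, by decide +kernel⟩
  have h2 : ∀ B : GL (Fin 2) (ZMod 17), B ^ 2 ^ 3 = ((B * B) * (B * B)) * ((B * B) * (B * B)) := fun B => by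
    rw [show 2 ^ 3 = 8 from rfl]; simp only [pow_succ, pow_zero, one_mul, mul_assoc]
  have h3 : A ^ 2 ^ 4 = 1 := by
    rw [pow_succ 2 3, pow_mul, h2, pow_two]
    apply Units.ext
    simp only [Units.val_mul, Units.val_one]
    decide +kernel
  refine ⟨(A : PGL217), ?_, ?_⟩
  · rw [← QuotientGroup.mk_pow, h3, QuotientGroup.mk_one]
  · rw [← QuotientGroup.mk_pow, Ne, QuotientGroup.eq_one_iff, mem_center_iff]
    intro h
    have h1 := congrArg Units.val (h W)
    rw [h2] at h1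
    simp only [Units.val_mul] at h1
    revert h1
    decide +kernel

/-! ### `L_2(31)` -/

theorem simple_31 : IsSimpleGroup L231 := by
  have := f31
  exact ProjectiveSpecialLinearGroup.rank_two_simple (by simp)

theorem card_31 : Nat.card L231 = 14880 := by
  have := f31
  have h := ClassicalGeometry.PSL2Basic.card_PSL2_odd (ZMod 31) (by simp; decide)
  rw [ZMod.card] at h
  have h2 : Nat.card L231 * 2 = 31 * (31 ^ 2 - 1) := h
  omega

theorem ord_31 (g : L231) : orderOf g ∣ 31 ∨ orderOf g ∣ 15 ∨ orderOf g ∣ 16 := by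
  have := f31
  have h1 := S2475.result (F := ZMod 31) 31 (by simp)
  have h2 : orderOf g ∈ Set.range (orderOf : ProjectiveSpecialLinearGroup (Fin 2) (ZMod 31) → ℕ) := ⟨g, rfl⟩
  rw [h1, ZMod.card] at h2
  exact h2

/-! ### `L_3(3)` -/

theorem simple_33 : IsSimpleGroup L33 := by
  have : Fact (Nat.Prime 3) := ⟨Nat.prime_three⟩
  exact S0249.result (F := ZMod 3) 3 le_rfl

theorem card_33 : Nat.card L33 = 5616 := by
  have : Fact (Nat.Prime 3) := ⟨Nat.prime_three⟩
  have h := S0243.result (F := ZMod 3) (ZMod.card 3) 3 (by norm_num)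
  rw [Fin.prod_univ_three] at h
  have h2 : 1 * (2 * Nat.card L33) = 11232 := h.trans (by decide)
  clear h
  omega

/-- matrices of determinant one over the field with three elements -/
abbrev S33 : Type := SpecialLinearGroup (Fin 3) (ZMod 3)

def ma : S33 := ⟨!![1, 1, 0; 0, 1, 0; 0, 0, 1], by decide +kernel⟩
def mb : S33 := ⟨!![1, 0, 0; 0, 1, 1; 0, 0, 1], by decide +kernel⟩
def my : S33 := ⟨!![1, 0, 1; 0, 1, 0; 0, 0, 1], by decide +kernel⟩

def la : List S33 :=
  [⟨!![1, 0, 0; 0, 1, 0; 0, 0, 1], by decide +kernel⟩, ⟨!![1, 0, 0; 0, 2, 0; 0, 0, 2], by decide +kernel⟩,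
    ⟨!![1, 0, 0; 0, 0, 1; 0, 2, 0], by decide +kernel⟩, ⟨!![1, 0, 0; 0, 1, 0; 0, 2, 1], by decide +kernel⟩,
    ⟨!![1, 0, 0; 0, 2, 0; 0, 2, 2], by decide +kernel⟩, ⟨!![1, 0, 0; 0, 0, 2; 0, 1, 0], by decide +kernel⟩,
    ⟨!![1, 0, 0; 0, 1, 0; 0, 1, 1], by decide +kernel⟩, ⟨!![1, 0, 0; 0, 2, 0; 0, 1, 2], by decide +kernel⟩]

def lb : List S33 :=
  [⟨!![1, 0, 0; 0, 1, 0; 0, 0, 1], by decide +kernel⟩, ⟨!![1, 0, 0; 0, 2, 0; 0, 0, 2], by decide +kernel⟩,
    ⟨!![0, 2, 0; 1, 0, 0; 0, 0, 1], by decide +kernel⟩, ⟨!![1, 0, 0; 1, 1, 0; 0, 0, 1], by decide +kernel⟩,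
    ⟨!![1, 0, 0; 2, 2, 0; 0, 0, 2], by decide +kernel⟩, ⟨!![0, 1, 0; 1, 0, 0; 0, 0, 2], by decide +kernel⟩,
    ⟨!![1, 0, 0; 2, 1, 0; 0, 0, 1], by decide +kernel⟩, ⟨!![1, 0, 0; 1, 2, 0; 0, 0, 2], by decide +kernel⟩]

theorem chk_a : ∀ i < 3, ∀ j < 3, (i = 0 ∧ j = 0) ∨ ∃ c ∈ la, c * my = ma ^ i * my ^ j * c := by decide +kernel

theorem chk_b : ∀ i < 3, ∀ j < 3, (i = 0 ∧ j = 0) ∨ ∃ c ∈ lb, c * my = mb ^ i * my ^ j * c := by decide +kernel

theorem u33_sl : U33 S33 := by
  refine ⟨ma, mb, my, by decide +kernel, by decide +kernel, by decide +kernel, by decide +kernel, by decide +kernel,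
    by decide +kernel, by decide +kernel, fun i hi j hj => (chk_a i hi j hj).imp id ?_,
    fun i hi j hj => (chk_b i hi j hj).imp id ?_⟩
  · rintro ⟨c, -, hc⟩
    exact isConj_iff.2 ⟨c, mul_inv_eq_iff_eq_mul.2 hc⟩
  · rintro ⟨c, -, hc⟩
    exact isConj_iff.2 ⟨c, mul_inv_eq_iff_eq_mul.2 hc⟩

theorem u33 : U33 L33 := by
  have hinj : Function.Injective (QuotientGroup.mk' (center S33)) := by
    rw [injective_iff_map_eq_one]
    intro g hg
    rw [QuotientGroup.mk'_apply, QuotientGroup.eq_one_iff, Matrix.SpecialLinearGroup.mem_center_iff] at hg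
    obtain ⟨r, hr, hg⟩ := hg
    have h0 : ∀ r : ZMod 3, r ^ 3 = 1 → r = 1 := by decide
    have h1 : r = 1 := h0 r (by rwa [Fintype.card_fin] at hr)
    apply Subtype.ext
    rw [← hg, h1, map_one]
    rfl
  obtain ⟨a, b, y, -, -, -, h⟩ := u33_sl.map _ hinj
  exact ⟨a, b, y, h⟩

end Cfsg.Agent.BMx.Abs
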