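import Cfsg.Agent.BMx.AbsGrp
import Cfsg.Agent.BMx.AbsNum
import Cfsg.Agent.Cit.Eleven
import Cfsg.Agent.SporadicA.M11Facts2

/-!
# The abstract boxes `A31`, `A11`, `AM11`, `A17`, `AL33` from the inputs (helper77, for S5527)
-/

set_option autoImplicit false
set_option linter.unusedSectionVars false
set_option linter.style.haveILetI false

namespace Cfsg.Agent.BMx.Abs

open Subgroup Cfsg Cfsg.Agent.OrdDiv Cfsg.Agent.H940.Eng Cfsg.Agent.H940.Eng.D

section sub

variable {X : Type} [Group X] [Finite X] (B : Base) (hX : Amb X) {K : Subgroup X} (hK : K ≠ ⊤)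

include hX in
theorem Amb.not_sq {r : ℕ} (h : n_b % r ^ 2 ≠ 0) : ¬ r ^ 2 ∣ Nat.card X :=
  fun hd => h (Nat.mod_eq_zero_of_dvd (hd.trans hX.dvd))

theorem pg {A : Subgroup X} {p n : ℕ} (h : Nat.card A = p ^ n) : IsPGroup p A := IsPGroup.of_card h

include B hX hK

theorem kill17 (e : K ≃* PGL217) {R P : Subgroup X} (hRK : R ≤ K) (hR : Nat.card R = 17)
    (hNR : normalizer (R : Set X) ≤ K) (hPK : P ≤ K) (hP : Nat.card P = 9) (hNP : normalizer (P : Set X) ≤ K) :
    False := by
  have := f17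
  have : Fact (Nat.Prime 3) := ⟨Nat.prime_three⟩
  have hc : Nat.card K = 4896 := (Nat.card_congr e.toEquiv).trans card_17
  have hRp : IsPGroup 17 R := pg (n := 1) hR
  have hPp : IsPGroup 3 P := pg (n := 2) hP
  rcases cases (r := 17) (by norm_num) (by decide) hRK hR (hX.not_sq (by decide +kernel)) hNR hK (q2_17.congr e)
    (by rw [hc]; norm_num) with ⟨N, q, k, h⟩ | ⟨T, h⟩
  · have h1 := h.mem hX (h.modEq hRp hNR) (h.modEq hPp hNP) (L := [(2, 8)]) (by decide +kernel)
    simp only [List.mem_singleton, Prod.mk.injEq] at h1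
    obtain ⟨rfl, rfl⟩ := h1
    have : Fact (Nat.Prime 2) := ⟨Nat.prime_two⟩
    obtain ⟨f, hf⟩ := h.gl
    obtain ⟨g, hg1, hg2⟩ := sixteen_17
    have h2 := pow_eight (by simp) (f (e.symm g)) (by rw [← map_pow, ← map_pow, hg1, map_one, map_one])
    rw [← map_pow, ← map_pow, ← map_one f] at h2
    exact hg2 ((MulEquiv.map_eq_one_iff _).1 (hf h2))
  · have h1 := h.mem B hX hK hc (index_modEq hRK hRp (by rw [hR, hc]; norm_num) hNR)
      (index_modEq hPK hPp (by rw [hP, hc]; norm_num) hNP) (h.card_two (k := 2448) hc) (L := []) (by decide +kernel)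
    exact List.not_mem_nil h1

theorem kill13 (e : K ≃* L33) {R P : Subgroup X} (hRK : R ≤ K) (hR : Nat.card R = 13)
    (hNR : normalizer (R : Set X) ≤ K) (hPK : P ≤ K) (hP : Nat.card P = 27) (hNP : normalizer (P : Set X) ≤ K) :
    False := by
  have : Fact (Nat.Prime 13) := ⟨by norm_num⟩
  have : Fact (Nat.Prime 3) := ⟨Nat.prime_three⟩
  have hc : Nat.card K = 5616 := (Nat.card_congr e.toEquiv).trans card_33
  have hs : IsSimpleGroup K := (MulEquiv.isSimpleGroup_congr e).2 simple_33
  have hRp : IsPGroup 13 R := pg (n := 1) hR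
  have hPp : IsPGroup 3 P := pg (n := 3) hP
  rcases cases (r := 13) (by norm_num) (by decide) hRK hR (hX.not_sq (by decide +kernel)) hNR hK (Q2.of_simple hs)
    (by rw [hc]; norm_num) with ⟨N, q, k, h⟩ | ⟨T, h⟩
  · have h1 := h.mem hX (h.modEq hRp hNR) (h.modEq hPp hNP) (L := [(2, 12), (5, 4)]) (by decide +kernel)
    simp only [List.mem_cons, Prod.mk.injEq, List.not_mem_nil, or_false] at h1
    rcases h1 with ⟨rfl, rfl⟩ | ⟨rfl, rfl⟩
    · exact h.not_twelve hc (u33.congr e.symm) hPK hP hNP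
    · have : Fact (Nat.Prime 5) := ⟨Nat.prime_five⟩
      obtain ⟨f, hf⟩ := h.gl
      have h2 := card_dvd_of_injective f hf
      rw [hc, Matrix.card_GL_field, ZMod.card, Fin.prod_univ_four] at h2
      exact absurd h2 (by decide +kernel)
  · have h1 := h.mem B hX hK hc (index_modEq hRK hRp (by rw [hR, hc]; norm_num) hNR)
      (index_modEq hPK hPp (by rw [hP, hc]; norm_num) hNP) (ds := [5616])
      (by rw [(h.card_simple hs (by rw [hc]; norm_num)).2, hc]; simp) (L := []) (by decide +kernel)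
    exact List.not_mem_nil h1

theorem kill11 (H : H55) (e : K ≃* PGL211) {R P : Subgroup X} (hRK : R ≤ K) (hR : Nat.card R = 11)
    (hNR : normalizer (R : Set X) ≤ K) (hPK : P ≤ K) (hP : Nat.card P = 5) (hNP : normalizer (P : Set X) ≤ K) :
    False := by
  have := f11
  have : Fact (Nat.Prime 5) := ⟨Nat.prime_five⟩
  have hc : Nat.card K = 1320 := (Nat.card_congr e.toEquiv).trans card_11
  have hRp : IsPGroup 11 R := pg (n := 1) hR
  have hPp : IsPGroup 5 P := pg (n := 1) hP
  rcases cases (r := 11) (by norm_num) (by decide) hRK hR (hX.not_sq (by decide +kernel)) hNR hK (q2_11.congr e)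
    (by rw [hc]; norm_num) with ⟨N, q, k, h⟩ | ⟨T, h⟩
  · exact List.not_mem_nil (h.mem hX (h.modEq hRp hNR) (h.modEq hPp hNP) (L := []) (by decide +kernel))
  · have hm := index_modEq hPK hPp (by rw [hP, hc]; norm_num) hNP
    have h1 := h.mem B hX hK hc (index_modEq hRK hRp (by rw [hR, hc]; norm_num) hNR) hm (h.card_two (k := 660) hc)
      (L := [(10200960, 660), (13685760, 660)]) (by decide +kernel)
    have h2 : Nat.card (T.subgroupOf K) = 660 ∧ (Nat.card T = 10200960 ∨ Nat.card T = 13685760) := by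
      simp only [List.mem_cons, Prod.mk.injEq, List.not_mem_nil, or_false] at h1
      omega
    have hi : (T.subgroupOf K).index = 2 := by
      have h3 := (T.subgroupOf K).card_mul_index
      rw [h2.1, hc] at h3
      omega
    have h25 : ¬ 25 ∣ Nat.card X := by
      have h3 := h.card
      have h4 := K.index_mul_card
      rw [h2.1] at h3
      rw [hc] at h4
      omega
    have h5 := h.c55 hPK hP hNP h25 fun x hx y hy h5 hxy => congrArg Subtype.val
      (f5_11.congr e _ hi ⟨x, hx.1⟩ hx.2 ⟨y, hy.1⟩ hy.2 (by rw [orderOf_mk, h5]) (Subtype.ext hxy))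
    have h6 := (m22_of_c55 B H h.simple h.nab (by rcases h2.2 with h3 | h3 <;> rw [h3] <;> simp [l4]) h5).2
    omega

theorem killM11 (H : H55) (e : K ≃* Spor.M11) {R P : Subgroup X} (hRK : R ≤ K) (hR : Nat.card R = 11)
    (hNR : normalizer (R : Set X) ≤ K) (hPK : P ≤ K) (hP : Nat.card P = 5) (hNP : normalizer (P : Set X) ≤ K) :
    False := by
  have := f11
  have : Fact (Nat.Prime 5) := ⟨Nat.prime_five⟩
  have : Fact (Nat.Prime 3) := ⟨Nat.prime_three⟩
  have hM : IsM11 K := Cit.Eleven.isM11 ⟨e⟩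
  have hc : Nat.card K = 7920 := hM.2
  have hRp : IsPGroup 11 R := pg (n := 1) hR
  have hPp : IsPGroup 5 P := pg (n := 1) hP
  rcases cases (r := 11) (by norm_num) (by decide) hRK hR (hX.not_sq (by decide +kernel)) hNR hK (Q2.of_simple hM.1)
    (by rw [hc]; norm_num) with ⟨N, q, k, h⟩ | ⟨T, h⟩
  · exact List.not_mem_nil (h.mem hX (h.modEq hRp hNR) (h.modEq hPp hNP) (L := []) (by decide +kernel))
  · have hm := index_modEq hPK hPp (by rw [hP, hc]; norm_num) hNP
    obtain ⟨hKT, hd⟩ := h.card_simple hM.1 (by rw [hc]; norm_num)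
    rw [hc] at hd
    have h1 := h.mem B hX hK hc (index_modEq hRK hRp (by rw [hR, hc]; norm_num) hNR) hm (ds := [7920])
      (by rw [hd]; simp) (L := [(443520, 7920), (9196830720, 7920)]) (by decide +kernel)
    have h2 : Nat.card T = 443520 ∨ Nat.card T = 9196830720 := by
      simp only [List.mem_cons, Prod.mk.injEq, List.not_mem_nil, or_false] at h1
      omega
    have h25 : ¬ 25 ∣ Nat.card X := by
      have h3 := h.card
      have h4 := K.index_mul_card
      rw [hd] at h3
      rw [hc] at h4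
      omega
    have h5 := h.c55 hPK hP hNP h25 fun x hx y hy h5 hxy => by
      have h6 := SporadicA.M11Facts.card_centralizer_five hM (y := ⟨x, hx.1⟩) (by rw [orderOf_mk, h5])
      have h7 := pow_card_eq_one' (G := centralizer ({⟨x, hx.1⟩} : Set K))
        (x := ⟨⟨y, hy.1⟩, mem_centralizer_singleton_iff.2 (Subtype.ext hxy.symm)⟩)
      rw [h6] at h7
      exact congrArg Subtype.val (congrArg Subtype.val h7)
    obtain ⟨⟨e2⟩, -⟩ := m22_of_c55 B H h.simple h.nab (by rcases h2 with h3 | h3 <;> rw [h3] <;> simp [l4]) h5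
    obtain ⟨x, hx⟩ := exists_prime_orderOf_dvd_card' (G := K) 3 (by rw [hc]; norm_num)
    have h6 := SporadicA.M11Facts2.card_centralizer_three hM hx
    refine no_eighteen (H968.TwoM22.three.congr e2.symm) (x := inclusion hKT x)
      (by rw [orderOf_injective _ (inclusion_injective hKT), hx]) (D := (centralizer {x}).map (inclusion hKT)) ?_
      ((card_map_of_injective (inclusion_injective hKT)).trans h6)
    rintro _ ⟨d, hd, rfl⟩
    rw [mem_centralizer_singleton_iff, ← map_mul, ← map_mul, mem_centralizer_singleton_iff.1 hd]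

omit B hX hK in
/-- the Frobenius group `31 : 15` -/
theorem norm31 {H : Type} [Group H] [Finite H] (e : H ≃* L231) {R : Subgroup H} (hR : Nat.card R = 31) :
    Nat.card (normalizer (R : Set H)) = 465 := by
  have := f31
  have hc : Nat.card H = 14880 := (Nat.card_congr e.toEquiv).trans card_31
  have hs : IsSimpleGroup H := (MulEquiv.isSimpleGroup_congr e).2 simple_31
  have hi : R.index = 480 := by
    have h1 := R.card_mul_index
    rw [hR, hc] at h1
    omega
  let S : Sylow 31 H := (pg (n := 1) hR).toSylow (by rw [hi]; norm_num)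
  have h1 : (normalizer (R : Set H)).index ≡ 1 [MOD 31] := by
    have h2 := card_sylow_modEq_one 31 H
    rwa [S.card_eq_index_normalizer] at h2
  have h2 : (normalizer (R : Set H)).index ∣ 480 := hi ▸ index_dvd_of_le le_normalizer
  have h3 : (normalizer (R : Set H)).index ≠ 1 := by
    intro h3
    rcases hs.eq_bot_or_eq_top_of_normal R (normalizer_eq_top_iff.1 (index_eq_one.1 h3)) with h4 | h4
    · rw [h4, card_bot] at hR
      omega
    · rw [h4, card_top, hc] at hR
      omega
  have h4 : ∀ n ∈ Nat.divisors 480, n % 31 = 1 % 31 → n = 1 ∨ n = 32 := by decide +kernel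
  have h5 := (h4 _ (Nat.mem_divisors.2 ⟨h2, by norm_num⟩) h1).resolve_left h3
  have h6 := (normalizer (R : Set H)).card_mul_index
  rw [h5, hc] at h6
  omega

/-- only the order of the Thompson group is left -/
theorem th_of31 (e : K ≃* L231) {R : Subgroup X} (hRK : R ≤ K) (hR : Nat.card R = 31)
    (hNR : normalizer (R : Set X) ≤ K) :
    ∃ T : Subgroup X, K ≤ T ∧ IsSimpleGroup T ∧ (¬ ∀ a b : T, a * b = b * a) ∧ Nat.card T = 90745943887872000 ∧
      K.index = 6098517734400 := by
  have := f31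
  have hc : Nat.card K = 14880 := (Nat.card_congr e.toEquiv).trans card_31
  have hs : IsSimpleGroup K := (MulEquiv.isSimpleGroup_congr e).2 simple_31
  have hRp : IsPGroup 31 R := pg (n := 1) hR
  rcases cases (r := 31) (by norm_num) (by decide) hRK hR (hX.not_sq (by decide +kernel)) hNR hK (Q2.of_simple hs)
    (by rw [hc]; norm_num) with ⟨N, q, k, h⟩ | ⟨T, h⟩
  · exfalso
    have hn := norm31 e (R := R.subgroupOf K) ((Nat.card_congr (subgroupOfEquivOfLe hRK).toEquiv).trans hR)
    rw [← subgroupOf_normalizer_eq hRK] at hn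
    have key : ∀ s : ℕ, s.Prime → s ∣ 15 → s ∣ k := by
      intro s hs hs15
      have : Fact s.Prime := ⟨hs⟩
      obtain ⟨g, hg⟩ := exists_prime_orderOf_dvd_card' (G := (normalizer (R : Set X)).subgroupOf K) s
        (by rw [hn]; exact hs15.trans (by norm_num))
      have hg' : orderOf ((g : K) : X) = s := by rw [orderOf_coe, orderOf_coe, hg]
      refine h.dvd_of_frob (by norm_num) hR hNR hs hg' g.2 fun x hx hgx => ?_
      by_contra hx1
      have h1 : orderOf x = 31 := by
        refine orderOf_eq_prime ?_ hx1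
        have h2 := pow_card_eq_one' (G := R) (x := ⟨x, hx⟩)
        rw [hR] at h2
        exact congrArg Subtype.val h2
      have h2 : orderOf (((g : K) : X) * x) = s * 31 := by
        rw [(show Commute ((g : K) : X) x from hgx).orderOf_mul_eq_mul_orderOf_of_coprime, hg', h1]
        rw [hg', h1]
        exact Nat.Coprime.coprime_dvd_left hs15 (by norm_num)
      have h3 := ord_31 (e ((g : K) * ⟨x, hRK hx⟩))
      rw [MulEquiv.orderOf_eq, ← orderOf_coe] at h3
      change orderOf (((g : K) : X) * x) ∣ 31 ∨ orderOf (((g : K) : X) * x) ∣ 15 ∨ orderOf (((g : K) : X) * x) ∣ 16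
        at h3
      rw [h2] at h3
      have h4 := hs.two_le
      rcases h3 with h3 | h3 | h3 <;> have h5 := Nat.le_of_dvd (by norm_num) h3 <;> omega
    have h1 : 15 ∣ k := Nat.Coprime.mul_dvd_of_dvd_of_dvd (m := 3) (n := 5) (by norm_num)
      (key 3 Nat.prime_three (by norm_num)) (key 5 Nat.prime_five (by norm_num))
    have h2 := Nat.le_of_dvd h.pos h1
    obtain ⟨⟨f, hf, hkf⟩, h3⟩ := h.le hX
    have h4 : ∀ x ∈ l_b, 15 ≤ x.2 → x.1 = 2 := by decide +kernel
    have h5 := h3 (h4 _ hf (h2.trans hkf))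
    omega
  · obtain ⟨hKT, hd⟩ := h.card_simple hs (by rw [hc]; norm_num)
    rw [hc] at hd
    have h1 := h.mem B hX hK hc (index_modEq hRK hRp (by rw [hR, hc]; norm_num) hNR) (Nat.modEq_one (a := K.index))
      (ds := [14880]) (by rw [hd]; simp) (L := [(90745943887872000, 14880)]) (by decide +kernel)
    have h2 : Nat.card T = 90745943887872000 := by
      simp only [List.mem_singleton, Prod.mk.injEq] at h1
      exact h1.1
    have h3 := h.card
    rw [h2, hd] at h3
    exact ⟨T, hKT, h.simple, h.nab, h2, by omega⟩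

end sub

/-! ### the Baby Monster -/

/-- the inputs on the Baby Monster -/
structure Inp : Prop where
  base : Base
  h55 : H55
  card : Nat.card BM = n_b
  rank : PRankLE 2 14 BM
  c31 : ∀ x : BM, orderOf x = 31 → Nat.card (centralizer ({x} : Set BM)) = 31

theorem Inp.finite (I : Inp) : Finite BM := Nat.finite_of_card_ne_zero (by rw [I.card]; decide +kernel)

theorem Inp.amb (I : Inp) {X : Subgroup BM} (hX : X ≠ ⊤) : Amb X := by
  have := I.finite
  refine ⟨I.card ▸ card_subgroup_dvd_card X, fun h => hX ((card_eq_iff_eq_top X).1 (h.trans I.card.symm)),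
    fun A hA hA2 => ?_⟩
  rw [← card_map_of_injective X.subtype_injective]
  refine I.rank _ inferInstance ?_
  rintro _ ⟨a, ha, rfl⟩
  exact congrArg Subtype.val (hA2 a ha)

theorem Inp.coatom (I : Inp) {K : Subgroup BM} {k : ℕ} (hk : Nat.card K = k) (hne : k ≠ n_b)
    (h : ∀ X : Subgroup BM, K ≤ X → X ≠ ⊤ → K.subgroupOf X ≠ ⊤ → False) : IsCoatom K := by
  refine ⟨fun h1 => hne (by rw [← hk, h1, card_top, I.card]), fun X hX => ?_⟩
  by_contra h1
  exact h X hX.le h1 fun h2 => hX.not_ge (subgroupOf_eq_top.1 h2)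

theorem nt_sub {G : Type*} [Group G] {K : Subgroup G} {n : ℕ} (h : NT K n) {X : Subgroup G} (hKX : K ≤ X)
    (hX : X ≠ ⊤) : ∃ A : Subgroup X, A ≤ K.subgroupOf X ∧ Nat.card A = n ∧
      normalizer (A : Set X) ≤ K.subgroupOf X := by
  obtain ⟨A, hAK, hA, hN⟩ := h
  refine ⟨A.subgroupOf X, comap_mono hAK, (Nat.card_congr (subgroupOfEquivOfLe (hAK.trans hKX)).toEquiv).trans hA, ?_⟩
  rw [← subgroupOf_normalizer_eq (hAK.trans hKX)]
  exact fun x hx => hN X hKX hX ⟨x.2, hx⟩

/-- the test at 31 holds for every subgroup `L_2(31)` -/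
theorem Inp.nt31 (I : Inp) {K : Subgroup BM} (e : K ≃* L231) : NT K 31 := by
  have := I.finite
  have := f31
  have hc : Nat.card K = 14880 := (Nat.card_congr e.toEquiv).trans card_31
  obtain ⟨x, hx⟩ := exists_prime_orderOf_dvd_card' (G := K) 31 (by rw [hc]; norm_num)
  have hx' : orderOf (x : BM) = 31 := by rw [orderOf_coe, hx]
  have hRK : zpowers (x : BM) ≤ K := zpowers_le.2 x.2
  have hR : Nat.card (zpowers (x : BM)) = 31 := by rw [Nat.card_zpowers, hx']
  refine ⟨zpowers (x : BM), hRK, hR, fun X _ _ => inf_le_right.trans ?_⟩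
  set R := zpowers (x : BM) with hRdef
  have hn := norm31 e (R := R.subgroupOf K) ((Nat.card_congr (subgroupOfEquivOfLe hRK).toEquiv).trans hR)
  rw [← subgroupOf_normalizer_eq hRK, ← card_map_of_injective K.subtype_injective, subgroupOf_map_subtype] at hn
  have hC : Nat.card (centralizer (R : Set BM)) = 31 := by
    have h1 : centralizer (R : Set BM) = centralizer {(x : BM)} := by
      rw [hRdef, zpowers_eq_closure, centralizer_closure]
    rw [h1, I.c31 x hx']
  -- `|N(R)|` divides `930`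
  have h1 : Nat.card (normalizer (R : Set BM)) ∣ 31 * 30 := by
    have h2 : Nat.card (MulAut R) = 30 := by
      have : IsCyclic R := isCyclic_of_prime_card hR
      rw [IsCyclic.card_mulAut, hR]
      decide +kernel
    have h3 := R.normalizerMonoidHom.ker.card_mul_index
    rw [index_ker, normalizerMonoidHom_ker,
      Nat.card_congr (subgroupOfEquivOfLe (cent_le_norm R)).toEquiv, hC] at h3
    rw [← h3, ← h2]
    exact Nat.mul_dvd_mul_left _ (card_subgroup_dvd_card _)
  have h2 : 465 ∣ Nat.card (normalizer (R : Set BM)) := hn ▸ card_dvd_of_le inf_le_left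
  have h3 : (normalizer (R : Set BM)).index ≡ 1 [MOD 31] :=
    index_modEq (p := 31) le_normalizer (pg (n := 1) hR) (fun h => absurd (h.trans h1) (by rw [hR]; norm_num)) le_rfl
  have h4 : Nat.card (normalizer (R : Set BM)) = 465 := by
    obtain ⟨c, hc2⟩ := h2
    have h5 : c ∣ 2 := Nat.dvd_of_mul_dvd_mul_left (k := 465) (by norm_num) (by rw [← hc2]; exact h1)
    rcases (Nat.dvd_prime Nat.prime_two).1 h5 with rfl | rfl
    · exact hc2
    · exfalso
      have h6 := (normalizer (R : Set BM)).card_mul_index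
      rw [hc2, I.card] at h6
      have h7 : (normalizer (R : Set BM)).index = n_b / 930 := by
        rw [← h6, Nat.mul_div_cancel_left _ (by norm_num)]
      rw [h7] at h3
      exact absurd h3 (by decide +kernel)
  exact (eq_of_le_of_card_ge (inf_le_left (b := K)) (by rw [hn, h4])).ge.trans inf_le_right

theorem Inp.a31 (I : Inp) : A31 := by
  rintro K ⟨e⟩ h5
  have := I.finite
  have : Fact (Nat.Prime 5) := ⟨Nat.prime_five⟩
  have hc : Nat.card K = 14880 := (Nat.card_congr e.toEquiv).trans card_31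
  refine I.coatom hc (by decide +kernel) fun X hKX hX hK => ?_
  obtain ⟨R, h1, h2, h3⟩ := nt_sub (I.nt31 e) hKX hX
  obtain ⟨P, h4, h5, h6⟩ := nt_sub h5 hKX hX
  obtain ⟨T, -, -, -, -, h7⟩ := th_of31 I.base (I.amb hX) hK ((subgroupOfEquivOfLe hKX).trans e) h1 h2 h3
  have h8 := index_modEq (p := 5) h4 (pg (n := 1) h5)
    (by rw [h5, Nat.card_congr (subgroupOfEquivOfLe hKX).toEquiv, hc]; norm_num) h6
  rw [h7] at h8
  exact absurd h8 (by decide +kernel)

theorem Inp.a11 (I : Inp) : A11 := by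
  rintro K ⟨e⟩ h11 h5
  have := I.finite
  refine I.coatom ((Nat.card_congr e.toEquiv).trans card_11) (by decide +kernel) fun X hKX hX hK => ?_
  obtain ⟨R, h1, h2, h3⟩ := nt_sub h11 hKX hX
  obtain ⟨P, h4, h5, h6⟩ := nt_sub h5 hKX hX
  exact kill11 I.base (I.amb hX) hK I.h55 ((subgroupOfEquivOfLe hKX).trans e) h1 h2 h3 h4 h5 h6

theorem Inp.aM11 (I : Inp) : AM11 := by
  rintro K ⟨e⟩ h11 h5
  have := I.finite
  refine I.coatom (Cit.Eleven.isM11 ⟨e⟩).2 (by decide +kernel) fun X hKX hX hK => ?_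
  obtain ⟨R, h1, h2, h3⟩ := nt_sub h11 hKX hX
  obtain ⟨P, h4, h5, h6⟩ := nt_sub h5 hKX hX
  exact killM11 I.base (I.amb hX) hK I.h55 ((subgroupOfEquivOfLe hKX).trans e) h1 h2 h3 h4 h5 h6

theorem Inp.a17 (I : Inp) : A17 := by
  rintro K ⟨e⟩ h17 h9
  have := I.finite
  refine I.coatom ((Nat.card_congr e.toEquiv).trans card_17) (by decide +kernel) fun X hKX hX hK => ?_
  obtain ⟨R, h1, h2, h3⟩ := nt_sub h17 hKX hX
  obtain ⟨P, h4, h5, h6⟩ := nt_sub h9 hKX hX
  exact kill17 I.base (I.amb hX) hK ((subgroupOfEquivOfLe hKX).trans e) h1 h2 h3 h4 h5 h6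

theorem Inp.aL33 (I : Inp) : AL33 := by
  rintro K ⟨e⟩ h13 h27
  have := I.finite
  refine I.coatom ((Nat.card_congr e.toEquiv).trans card_33) (by decide +kernel) fun X hKX hX hK => ?_
  obtain ⟨R, h1, h2, h3⟩ := nt_sub h13 hKX hX
  obtain ⟨P, h4, h5, h6⟩ := nt_sub h27 hKX hX
  exact kill13 I.base (I.amb hX) hK ((subgroupOfEquivOfLe hKX).trans e) h1 h2 h3 h4 h5 h6

end Cfsg.Agent.BMx.Abs
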