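import Cfsg.Agent.BMx.AbsMain

/-!
# Every subgroup `L_2(31)` of the Baby Monster is maximal (helper77, for S5527)

The only row left by the sieve is the Thompson group, which has no element of order 16.
-/

set_option autoImplicit false

namespace Cfsg.Agent.BMx.Abs

open Subgroup Cfsg Cfsg.Agent.OrdDiv Cfsg.Agent.H940.Eng Cfsg.Agent.H940.Eng.D

set_option maxRecDepth 100000 in
theorem chk_th : ((cands l_th n_th).all fun g => ordN g != n_th || decide (g = .th)) = true := by decide +kernel

theorem isoTh_of_card (B : Base) {S : Type} [Group S] [Finite S] (hs : IsSimpleGroup S)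
    (hna : ¬ ∀ a b : S, a * b = b * a) (hc : Nat.card S = n_th) : Spor.IsoTh S := by
  obtain ⟨g, hg, hr, ho⟩ := exists_good B.table (B.known S hs) hna v_th (hc ▸ dvd_rfl)
  have h1 := List.all_eq_true.1 chk_th g hg
  rw [Bool.or_eq_true, bne_iff_ne, decide_eq_true_iff] at h1
  rcases h1 with h1 | rfl
  · exact absurd (ho.symm.trans hc) h1
  · exact hr

theorem sixteen_31 : ∃ g : L231, orderOf g = 16 := by
  have := f31
  have h1 := S2475.result (F := ZMod 31) 31 (by simp)
  have h2 : (16 : ℕ) ∈ Set.range (orderOf : Matrix.ProjectiveSpecialLinearGroup (Fin 2) (ZMod 31) → ℕ) := by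
    rw [h1, ZMod.card]
    exact Or.inr (Or.inr (by decide))
  exact h2

theorem Inp.a31' (I : Inp) (h16 : ∀ x : Spor.Th, orderOf x ≠ 16) (K : Subgroup BM) (h : Nonempty (K ≃* L231)) :
    IsCoatom K := by
  obtain ⟨e⟩ := h
  have := I.finite
  refine I.coatom ((Nat.card_congr e.toEquiv).trans card_31) (by decide +kernel) fun X hKX hX hK => ?_
  obtain ⟨R, h1, h2, h3⟩ := nt_sub (I.nt31 e) hKX hX
  let e' := (subgroupOfEquivOfLe hKX).trans e
  obtain ⟨T, hKT, hs, hna, hc, -⟩ := th_of31 I.base (I.amb hX) hK e' h1 h2 h3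
  obtain ⟨f⟩ := isoTh_of_card I.base hs hna hc
  obtain ⟨g, hg⟩ := sixteen_31
  refine h16 (f (inclusion hKT (e'.symm g))) ?_
  rw [MulEquiv.orderOf_eq, orderOf_injective _ (inclusion_injective hKT), MulEquiv.orderOf_eq, hg]

end Cfsg.Agent.BMx.Abs
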