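import Cfsg.Agent.BMx.AbsEnd
import Cfsg.Agent.BMx.AbsTh
import Cfsg.Agent.H653.ThE.Fields

/-!
# Every subgroup `L_2(31)` of the Baby Monster is maximal, unconditionally (helper77, for S5527)
-/

set_option autoImplicit false

namespace Cfsg.Agent.BMx.Abs

theorem a31' (K : Subgroup BM) (h : Nonempty (K ≃* L231)) : IsCoatom K := inp.a31' H653.ThE.no16 K h

/-- The assembly without the test at 5 for `L_2(31)`. -/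
theorem main_of' (c1 : ∃ K : Subgroup BM, Nonempty (K ≃* L231)) (c2 : C11) (c3 : CM11) (c4 : C17) (c5 : CL33) :
    (∃ M : Subgroup Cfsg.Spor.BabyMonster, IsCoatom M ∧ Nonempty (↥M ≃* Matrix.ProjectiveSpecialLinearGroup (Fin 2) (ZMod 31))) ∧
    (∃ M : Subgroup Cfsg.Spor.BabyMonster, IsCoatom M ∧ Nonempty (↥M ≃* GL (Fin 2) (ZMod 11) ⧸ Subgroup.center (GL (Fin 2) (ZMod 11)))) ∧
    (∃ M : Subgroup Cfsg.Spor.BabyMonster, IsCoatom M ∧ Nonempty (↥M ≃* ↥Cfsg.Spor.M11)) ∧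
    (∃ M : Subgroup Cfsg.Spor.BabyMonster, IsCoatom M ∧ Nonempty (↥M ≃* GL (Fin 2) (ZMod 17) ⧸ Subgroup.center (GL (Fin 2) (ZMod 17)))) ∧
    (∃ M : Subgroup Cfsg.Spor.BabyMonster, IsCoatom M ∧ Nonempty (↥M ≃* Matrix.ProjectiveSpecialLinearGroup (Fin 3) (ZMod 3))) := by
  obtain ⟨K1, h1⟩ := c1
  obtain ⟨K2, h2, t2, t2'⟩ := c2
  obtain ⟨K3, h3, t3, t3'⟩ := c3
  obtain ⟨K4, h4, t4, t4'⟩ := c4
  obtain ⟨K5, h5, t5, t5'⟩ := c5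
  exact ⟨⟨K1, a31' K1 h1, h1⟩, ⟨K2, a11 K2 h2 t2 t2', h2⟩, ⟨K3, aM11 K3 h3 t3 t3', h3⟩,
    ⟨K4, a17 K4 h4 t4 t4', h4⟩, ⟨K5, aL33 K5 h5 t5 t5', h5⟩⟩

end Cfsg.Agent.BMx.Abs
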