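import Cfsg.Agent.BMx.FastOps
import Cfsg.Agent.H819.U33.Base

/-!
# A fast evaluator for words in the 4371-dimensional model of the Baby Monster

`Reg x v` : the number `x` stores the image of the base vector under the word `v`.
`runW` runs a word; `eqF`, `neF`, `allEq`, `ordF`, `exec` are checks for `decide +kernel`.
-/

set_option autoImplicit false

namespace Cfsg.Agent.BMx.Fast

open Cfsg.Agent.Lib.PermNet Cfsg.Agent.Monster.VecEngine Cfsg.Agent.Monster.VecSpace
  Cfsg.Agent.BabyM.Conc Cfsg.Agent.BabyM.WordsInst Cfsg.Agent.H819.U33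

/-- run a letter -/
noncomputable def step (l : Ltr) : ℕ → (ℕ → Bool) → Bool :=
  Ltr.rec (motive := fun _ => ℕ → (ℕ → Bool) → Bool)
    (runP 0 gz 0)
    (runP 1 BabyM.ConcQ.gX0 0)
    (runP 2 BabyM.ConcQ.gX1 0)
    (runP 3 BabyM.ConcQ.gX2 0)
    (runP 4 BabyM.ConcQ.gX3 0)
    (runP 5 BabyM.ConcQ.gX4 0)
    (runP 6 BabyM.ConcQ.gX5 0)
    (runP 7 BabyM.ConcQ.gX6 0)
    (runP 8 BabyM.ConcQ.gX7 0)
    (runP 9 BabyM.ConcQ.gX8 0)
    (runP 10 BabyM.ConcQ.gX9 0)
    (runP 11 BabyM.ConcQ.gX10 0)
    (runP 12 BabyM.ConcQ.gZ0 0)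
    (runP 13 BabyM.ConcQ.gZ1 0)
    (runP 14 BabyM.ConcQ.gZ2 0)
    (runP 15 BabyM.ConcQ.gZ3 0)
    (runP 16 BabyM.ConcQ.gZ4 0)
    (runP 17 BabyM.ConcQ.gZ5 0)
    (runP 18 BabyM.ConcQ.gZ6 0)
    (runP 19 BabyM.ConcQ.gZ7 0)
    (runP 20 BabyM.ConcQ.gZ8 0)
    (runP 21 BabyM.ConcQ.gZ9 0)
    (runP 22 BabyM.ConcQ.gZ10 0)
    (runP 23 BabyM.ConcY.gy1 0)
    (runP 24 BabyM.ConcY.gy2 0)
    (runP 25 BabyM.ConcY.gy3 0)
    (runP 26 BabyM.ConcY.gy4 0)
    (runP 27 BabyM.ConcY.gy5 0)
    (runP 28 BabyM.ConcY.gy6 0)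
    (runP 29 BabyM.ConcY.gy7 0)
    (runP 30 BabyM.ConcY.gy8 0)
    (runP 31 BabyM.ConcY.gy9 0)
    (runP 32 BabyM.ConcY.gy10 0)
    (runP 33 BabyM.ConcP.gp 0)
    (runP 34 BabyM.ConcP.gh 0)
    (runP 35 BabyM.ConcT.gxi 0)
    (runP 36 BabyM.ConcPP.gp2 0)
    (runP 37 BabyM.ConcPP.gp3 0)
    (runP 38 BabyM.ConcPP.gp4 0)
    (runP 39 BabyM.ConcPP.gp5 0)
    (runP 40 BabyM.ConcPP.gp6 0)
    (runP 41 BabyM.ConcPP.gp7 0)
    (runP 42 BabyM.ConcPP.gp8 0)
    (runP 43 BabyM.ConcPP.gp9 0)
    (runP 44 BabyM.ConcPP.gp10 0)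
    (runP 45 BabyM.ConcP.ghi 0)
    (runP 46 BabyM.ConcT.gxii 0)
    (runP 47 BabyM.ConcT.gtau 0)
    (runP 48 BabyM.ConcT.gtaui 0) l

attribute [local irreducible] runP in
theorem step_eq (l : Ltr) : ∃ n, step l = runP n l.prog 0 := by
  cases l <;> exact ⟨_, rfl⟩

theorem saf_prog (l : Ltr) : saf l.prog U wt = true := by
  cases l <;> decide +kernel

/-- run a word, the first letter acts first -/
noncomputable def runW (w : List Ltr) : ℕ → (ℕ → Bool) → Bool :=
  List.rec (motive := fun _ => ℕ → (ℕ → Bool) → Bool) (fun x k => k x)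
    (fun l _ ih x k => step l x fun y => ih y k) w

/-- the positive entries of the base vector -/
noncomputable def xp : ℕ :=
  Nat.add (Nat.shiftLeft 128 73728) (Nat.add (Nat.shiftLeft 2816 38916) (Nat.add (Nat.shiftLeft 11712 24192) (Nat.add (Nat.shiftLeft 896 23652) (Nat.add (Nat.shiftLeft 384 23634) (Nat.add (Nat.shiftLeft 1664 23400) (Nat.add (Nat.shiftLeft 640 23112) (Nat.add (Nat.shiftLeft 128 23076) (Nat.add (Nat.shiftLeft 9344 23058) (Nat.add (Nat.shiftLeft 1280 17280) (Nat.add (Nat.shiftLeft 2176 11646) (Nat.add (Nat.shiftLeft 1152 3888) (Nat.add (Nat.shiftLeft 1024 3816) (Nat.add (Nat.shiftLeft 2560 3510) (Nat.shiftLeft 2304 252))))))))))))))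

/-- the negative entries of the base vector -/
noncomputable def xn : ℕ :=
  Nat.add (Nat.shiftLeft 11712 24210) (Nat.add (Nat.shiftLeft 768 23328) (Nat.add (Nat.shiftLeft 1536 23202) (Nat.add (Nat.shiftLeft 256 23184) (Nat.add (Nat.shiftLeft 1408 23130) (Nat.add (Nat.shiftLeft 2048 10944) (Nat.add (Nat.shiftLeft 1920 8802) (Nat.add (Nat.shiftLeft 2688 7560) (Nat.add (Nat.shiftLeft 512 3762) (Nat.add (Nat.shiftLeft 1792 2610) (Nat.shiftLeft 2432 1548))))))))))

/-- the base vector -/
noncomputable def x0 : ℕ := Nat.sub (Nat.add (bi one) xp) xn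

/-- `x` stores the image of the base vector under the word `v` -/
def Reg (x : ℕ) (v : List Ltr) : Prop := Rep x (ext ℚ U (W v (vecU ℚ U vB)))

/-- a bounded conjunction -/
noncomputable def allB (p : ℕ → Bool) (n : ℕ) : Bool :=
  Nat.rec (motive := fun _ => Bool) true (fun i ih => and (p i) ih) n

theorem allB_sound {p : ℕ → Bool} {n : ℕ} (h : allB p n = true) : ∀ i < n, p i = true := by
  induction n with
  | zero => intro i hi; omega
  | succ n ih =>
    have h' : and (p n) (allB p n) = true := h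
    rw [Bool.and_eq_true] at h'
    intro i hi
    rcases Nat.lt_succ_iff_lt_or_eq.1 hi with hi | rfl
    · exact ih h'.2 i hi
    · exact h'.1

theorem x0_chk : allB (fun i => decide ((fld 18 x0 i : ℤ) =
    (if U.testBit i = true then val vB i else 0) + 131072)) 6144 = true := by decide +kernel

theorem x0_lt : Nat.blt x0 (Nat.pow 2 (Nat.mul 18 6144)) = true := by decide +kernel

theorem fld_of_blt {W N n i : ℕ} (h : Nat.blt N (Nat.pow 2 (Nat.mul W n)) = true) (hi : n ≤ i) :
    fld W N i = 0 := fld_of_lt (Nat.blt_eq.mp h) hi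

theorem U_sml : sml U = true := by decide +kernel

attribute [irreducible] x0

theorem reg0 : Reg x0 [] := by
  intro i
  rw [W_nil]
  by_cases hi : i < 6144
  · have h1 := of_decide_eq_true (allB_sound x0_chk i hi)
    have h2 : ((fld 18 x0 i : ℤ) : ℚ) = (((if U.testBit i = true then val vB i else 0) + 131072 : ℤ) : ℚ) := by
      rw [h1]
    rw [if_pos hi]
    push_cast at h2
    rw [h2]
    refine congrArg (· + (131072 : ℚ)) ?_
    split_ifs with h3
    · exact (ext_apply_of_true ℚ h3 (vecU ℚ U vB)).symm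
    · exact (ext_apply_of_not ℚ h3 (vecU ℚ U vB)).symm
  · rw [if_neg hi, fld_of_blt x0_lt (not_lt.1 hi), Nat.cast_zero]

theorem vB_sum : Monster.PlaneArith.sumIs 13 30 423845888 (Monster.PlaneArith.mul vB vB) = true := by
  decide +kernel

theorem neg_val_sgn_le (s i : ℕ) : -(val (.sgn s) i) ≤ 1 := by
  rw [val_sgn, neg_neg]
  unfold bt
  split_ifs <;> norm_num

theorem vB_len : dotW ℚ U wt (vecU ℚ U vB) (vecU ℚ U vB) < 1073741824 := by
  have h1 := Monster.PlaneArith.sumIs_sound (by norm_num) vB_sum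
  have h2 : dotW ℚ U wt (vecU ℚ U vB) (vecU ℚ U vB) = ∑ i ∈ Finset.range (2 ^ 13),
      if U.testBit i then (2 : ℚ) ^ (-(val wt i)) * ((val vB i : ℚ) * (val vB i : ℚ)) else 0 :=
    sum_lane U_lt (fun i => (2 : ℚ) ^ (-(val wt i)) * ((val vB i : ℚ) * (val vB i : ℚ)))
  have h3 : ∀ i, (if U.testBit i then (2 : ℚ) ^ (-(val wt i)) * ((val vB i : ℚ) * (val vB i : ℚ)) else 0) ≤
      2 * ((val (Monster.PlaneArith.mul vB vB) i : ℤ) : ℚ) := by
    intro i
    rw [Monster.PlaneArith.val_mul, Int.cast_mul]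
    have h4 := mul_self_nonneg (val vB i : ℚ)
    split_ifs
    · refine mul_le_mul_of_nonneg_right ?_ h4
      have h5 : -(val wt i) ≤ 1 := neg_val_sgn_le _ i
      exact (zpow_le_zpow_right₀ (by norm_num) h5).trans (by norm_num)
    · exact mul_nonneg (by norm_num) h4
  have h6 := Finset.sum_le_sum (s := Finset.range (2 ^ 13)) fun i _ => h3 i
  rw [← h2, ← Finset.mul_sum, ← Int.cast_sum, h1] at h6
  refine lt_of_le_of_lt h6 ?_
  norm_num

theorem short_W (v : List Ltr) : Short U wt (ext ℚ U (W v (vecU ℚ U vB))) where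
  supp := ind_ext ℚ U _
  len := by
    rw [wform_eq, res_ext]
    exact lt_of_eq_of_lt (dotW_wordE ℚ two_ne_zero (good_progs v) _ _) vB_len

theorem step_sound {x : ℕ} {v : List Ltr} (hx : Reg x v) (l : Ltr) (k : ℕ → Bool)
    (h : step l x k = true) : ∃ y, Reg y (v ++ [l]) ∧ k y = true := by
  obtain ⟨n, hn⟩ := step_eq l
  rw [hn] at h
  obtain ⟨y, hy, hk⟩ := runP_sound n l.prog (saf_prog l) (short_W v) hx 0 k h
  refine ⟨y, ?_, hk⟩
  unfold Reg
  rw [W_append, W_single, LinearEquiv.mul_apply, E_apply, ← sem_ext ℚ (good_prog l).pres]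
  exact hy

theorem runW_sound {x : ℕ} {v : List Ltr} (hx : Reg x v) (w : List Ltr) (k : ℕ → Bool)
    (h : runW w x k = true) : ∃ y, Reg y (v ++ w) ∧ k y = true := by
  induction w generalizing x v with
  | nil => exact ⟨x, by rwa [List.append_nil], h⟩
  | cons l w ih =>
    have h' : step l x (fun y => runW w y k) = true := h
    obtain ⟨y, hy, hk⟩ := step_sound hx l _ h'
    obtain ⟨z, hz, hk'⟩ := ih hy hk
    exact ⟨z, by rwa [List.append_assoc] at hz, hk'⟩

/-- words with the same register are equal -/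
theorem Reg.eq {x : ℕ} {v w : List Ltr} (hv : Reg x v) (hw : Reg x w) : g v = g w := by
  have h1 : W v (vecU ℚ U vB) = W w (vecU ℚ U vB) := by
    funext i
    have h2 := (hv i.1).symm.trans (hw i.1)
    have h3 := sml_sound U_sml i.1 i.2
    rw [if_pos h3, if_pos h3, ext_coe, ext_coe] at h2
    linarith
  rw [v_eq, map_smul, map_smul] at h1
  have h2 := smul_right_injective V (show (16 : ℚ) ≠ 0 by norm_num) h1
  have h3 : (W w)⁻¹ * W v = 1 := by
    apply base.eq_one BabyM.Instance.all BabyM.Instance.ok _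
      (BabyM.Inst.M.G.mul_mem (BabyM.Inst.M.G.inv_mem (BabyM.InstMem.W_mem_G _)) (BabyM.InstMem.W_mem_G _))
    rw [LinearEquiv.mul_apply, h2]
    exact (W w).symm_apply_apply _
  rw [inv_mul_eq_one] at h3
  unfold g
  rw [show BM.StageW.Wg v = BM.StageW.Wg w from Subtype.ext h3.symm]

theorem W_eq_of_g {v w : List Ltr} (h : g v = g w) : W v = W w :=
  congrArg Subtype.val (inv_injective h)

/-- equal words have the same register -/
theorem Reg.unique {x y : ℕ} {v w : List Ltr} (hv : Reg x v) (hw : Reg y w) (h : g v = g w) : x = y := by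
  apply fld_ext h18
  intro i
  have h1 := hv i
  have h2 := hw i
  rw [W_eq_of_g h, ← h2] at h1
  exact_mod_cast h1

theorem Reg.ne {x y : ℕ} {v w : List Ltr} (hv : Reg x v) (hw : Reg y w) (h : x ≠ y) : g v ≠ g w :=
  fun h1 => h (hv.unique hw h1)

theorem Reg.of_g {x : ℕ} {v w : List Ltr} (hv : Reg x v) (h : g v = g w) : Reg x w := by
  unfold Reg
  rwa [← W_eq_of_g h]

/-- continue from a register given as a number -/
theorem Reg.next {x y : ℕ} {v w : List Ltr} (hx : Reg x v) (h : runW w x (fun z => Nat.beq z y) = true) :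
    Reg y (v ++ w) := by
  obtain ⟨z, hz, hk⟩ := runW_sound hx w _ h
  rwa [Nat.eq_of_beq_eq_true hk] at hz

theorem ne_of_not_beq {x y : ℕ} (h : not (Nat.beq x y) = true) : x ≠ y := by
  rintro rfl
  rw [Nat.beq_refl] at h
  exact absurd h (by simp)

theorem g_flatten (L : List (List Ltr)) : g L.flatten = (L.map g).prod := by
  induction L with
  | nil => exact g_nil
  | cons w L ih => rw [List.flatten_cons, g_append, ih, List.map_cons, List.prod_cons]

/-! ### Checks -/

/-- equality of two words -/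
noncomputable def eqF (v w : List Ltr) : Bool := runW v x0 fun y => runW w x0 fun z => Nat.beq y z

theorem eq_of_eqF {v w : List Ltr} (h : eqF v w = true) : g v = g w := by
  obtain ⟨y, hy, hk⟩ := runW_sound reg0 v _ h
  obtain ⟨z, hz, hk'⟩ := runW_sound reg0 w _ hk
  rw [Nat.eq_of_beq_eq_true hk'] at hy
  exact hy.eq hz

/-- inequality of two words -/
noncomputable def neF (v w : List Ltr) : Bool := runW v x0 fun y => runW w x0 fun z => not (Nat.beq y z)

theorem ne_of_neF {v w : List Ltr} (h : neF v w = true) : g v ≠ g w := by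
  obtain ⟨y, hy, hk⟩ := runW_sound reg0 v _ h
  obtain ⟨z, hz, hk'⟩ := runW_sound reg0 w _ hk
  exact hy.ne hz (ne_of_not_beq hk')

/-- a list of equalities -/
noncomputable def allEq (L : List (List Ltr × List Ltr)) : Bool :=
  List.rec (motive := fun _ => Bool) true (fun p _ ih => and (eqF p.1 p.2) ih) L

theorem eq_of_allEq {L : List (List Ltr × List Ltr)} (h : allEq L = true) : ∀ p ∈ L, g p.1 = g p.2 := by
  induction L with
  | nil => intro p hp; exact absurd hp (by simp)
  | cons q L ih =>
    have h' : and (eqF q.1 q.2) (allEq L) = true := h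
    rw [Bool.and_eq_true] at h'
    intro p hp
    rcases List.mem_cons.1 hp with rfl | hp
    · exact eq_of_eqF h'.1
    · exact ih h'.2 p hp

/-- run a word `n` times -/
noncomputable def runN (w : List Ltr) (n : ℕ) : ℕ → (ℕ → Bool) → Bool :=
  Nat.rec (motive := fun _ => ℕ → (ℕ → Bool) → Bool) (fun x k => k x)
    (fun _ ih x k => runW w x fun y => ih y k) n

theorem pw_succ' (w : List Ltr) (n : ℕ) : pw w (n + 1) = w ++ pw w n := by
  induction n with
  | zero => simp [pw]
  | succ n ih => rw [pw, ih, List.append_assoc, ← pw, ih]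

theorem runN_sound {x : ℕ} {v : List Ltr} (hx : Reg x v) (w : List Ltr) (n : ℕ) (k : ℕ → Bool)
    (h : runN w n x k = true) : ∃ y, Reg y (v ++ pw w n) ∧ k y = true := by
  induction n generalizing x v with
  | zero => exact ⟨x, by rwa [pw, List.append_nil], h⟩
  | succ n ih =>
    have h' : runW w x (fun y => runN w n y k) = true := h
    obtain ⟨y, hy, hk⟩ := runW_sound hx w _ h'
    obtain ⟨z, hz, hk'⟩ := ih hy hk
    exact ⟨z, by rwa [pw_succ', ← List.append_assoc], hk'⟩

/-- `w ^ n = 1` -/
noncomputable def powF (w : List Ltr) (n : ℕ) : Bool := runN w n x0 fun y => Nat.beq y x0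

theorem pow_of_powF {w : List Ltr} {n : ℕ} (h : powF w n = true) : g w ^ n = 1 := by
  obtain ⟨y, hy, hk⟩ := runN_sound reg0 w n _ h
  rw [Nat.eq_of_beq_eq_true hk] at hy
  rw [← g_pw, ← g_nil]
  exact hy.eq reg0

/-- the powers come back to the start exactly after `n + 1` more steps -/
noncomputable def ordA (w : List Ltr) (n : ℕ) : ℕ → Bool :=
  Nat.rec (motive := fun _ => ℕ → Bool) (fun x => runW w x fun y => Nat.beq y x0)
    (fun _ ih x => runW w x fun y => and (not (Nat.beq y x0)) (ih y)) n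

theorem ordA_sound (w : List Ltr) (n m : ℕ) {x : ℕ} (hx : Reg x (pw w m)) (h : ordA w n x = true) :
    g w ^ (m + n + 1) = 1 ∧ ∀ j, m < j → j < m + n + 1 → g w ^ j ≠ 1 := by
  induction n generalizing m x with
  | zero =>
    obtain ⟨y, hy, hk⟩ := runW_sound hx w _ h
    rw [Nat.eq_of_beq_eq_true hk] at hy
    refine ⟨?_, fun j h1 h2 => by omega⟩
    rw [← g_pw, ← g_nil]
    exact Reg.eq hy reg0
  | succ n ih =>
    obtain ⟨y, hy, hk⟩ := runW_sound hx w _ h
    rw [Bool.and_eq_true] at hk
    obtain ⟨h1, h2⟩ := ih (m + 1) (x := y) hy hk.2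
    refine ⟨by rwa [show m + (n + 1) + 1 = m + 1 + n + 1 by omega], fun j h3 h4 => ?_⟩
    rcases Nat.lt_or_ge (m + 1) j with h5 | h5
    · exact h2 j h5 (by omega)
    · rw [show j = m + 1 by omega, ← g_pw, ← g_nil]
      exact Reg.ne hy reg0 (ne_of_not_beq hk.1)

/-- the order of a word, for every `n > 0` -/
noncomputable def ordF (w : List Ltr) (n : ℕ) : Bool := and (Nat.blt 0 n) (ordA w (Nat.pred n) x0)

theorem orderOf_of_ordF {w : List Ltr} {n : ℕ} (h : ordF w n = true) : orderOf (g w) = n := by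
  unfold ordF at h
  rw [Bool.and_eq_true] at h
  have h0 : 0 < n := Nat.blt_eq.mp h.1
  obtain ⟨h1, h2⟩ := ordA_sound w (Nat.pred n) 0 reg0 h.2
  have h3 : 0 + Nat.pred n + 1 = n := by rw [Nat.pred_eq_sub_one]; omega
  rw [h3] at h1 h2
  exact (orderOf_eq_iff h0).2 ⟨h1, fun j h4 h5 => h2 j h5 h4⟩

/-! ### A register machine -/

/-- instructions; register `0` holds the base vector, `run src w` appends a register -/
inductive Ins : Type
  | run (src : ℕ) (w : List Ltr) : Ins
  | eq (a b : ℕ) : Ins
  | ne (a b : ℕ) : Ins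

/-- write a register -/
noncomputable def upd (R : ℕ → ℕ) (n y i : ℕ) : ℕ := Bool.rec (R i) y (Nat.beq i n)

/-- run a program with `n` registers `R` -/
noncomputable def execA (P : List Ins) : ℕ → (ℕ → ℕ) → Bool :=
  List.rec (motive := fun _ => ℕ → (ℕ → ℕ) → Bool) (fun _ _ => true)
    (fun I _ ih n R => Ins.rec (motive := fun _ => Bool)
      (fun s w => and (Nat.blt s n) (runW w (R s) fun y => ih (Nat.succ n) (upd R n y)))
      (fun a b => and (and (Nat.blt a n) (Nat.blt b n)) (and (Nat.beq (R a) (R b)) (ih n R)))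
      (fun a b => and (and (Nat.blt a n) (Nat.blt b n)) (and (not (Nat.beq (R a) (R b))) (ih n R))) I) P

/-- run a program -/
noncomputable def exec (P : List Ins) : Bool := execA P 1 fun _ => x0

/-- the words of the registers after a program -/
noncomputable def wordsA (P : List Ins) : List (List Ltr) → List (List Ltr) :=
  List.rec (motive := fun _ => List (List Ltr) → List (List Ltr)) (fun L => L)
    (fun I _ ih L => Ins.rec (motive := fun _ => List (List Ltr))
      (fun s w => ih (L ++ [L.getD s [] ++ w])) (fun _ _ => ih L) (fun _ _ => ih L) I) P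

/-- the words of the registers -/
noncomputable def words (P : List Ins) : List (List Ltr) := wordsA P [[]]

/-- the word of a register -/
noncomputable def word (P : List Ins) (a : ℕ) : List Ltr := (words P).getD a []

theorem wordsA_getD (P : List Ins) (L : List (List Ltr)) {a : ℕ} (ha : a < L.length) :
    (wordsA P L).getD a [] = L.getD a [] := by
  induction P generalizing L with
  | nil => rfl
  | cons I P ih =>
    cases I with
    | run s w =>
      show (wordsA P (L ++ [L.getD s [] ++ w])).getD a [] = _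
      rw [ih _ (by rw [List.length_append]; omega), List.getD_append _ _ _ _ ha]
    | eq _ _ => exact ih L ha
    | ne _ _ => exact ih L ha

theorem execA_sound (P : List Ins) (L : List (List Ltr)) (R : ℕ → ℕ)
    (hR : ∀ a < L.length, Reg (R a) (L.getD a [])) (h : execA P L.length R = true) :
    (∀ a b, Ins.eq a b ∈ P → g ((wordsA P L).getD a []) = g ((wordsA P L).getD b [])) ∧
    (∀ a b, Ins.ne a b ∈ P → g ((wordsA P L).getD a []) ≠ g ((wordsA P L).getD b [])) := by
  induction P generalizing L R with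
  | nil => exact ⟨fun a b h => absurd h (by simp), fun a b h => absurd h (by simp)⟩
  | cons I P ih =>
    cases I with
    | run s w =>
      have h' : and (Nat.blt s L.length)
        (runW w (R s) fun y => execA P (L.length + 1) (upd R L.length y)) = true := h
      rw [Bool.and_eq_true] at h'
      obtain ⟨y, hy, hk⟩ := runW_sound (hR s (Nat.blt_eq.mp h'.1)) w _ h'.2
      have h1 := ih (L ++ [L.getD s [] ++ w]) (upd R L.length y) (fun a ha => by
        rw [List.length_append, List.length_singleton] at ha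
        unfold upd
        rcases Nat.lt_succ_iff_lt_or_eq.1 ha with h2 | rfl
        · have h3 : Nat.beq a L.length = false := by
            rw [← Bool.not_eq_true]
            exact fun h4 => absurd (Nat.eq_of_beq_eq_true h4) (by omega)
          rw [h3, List.getD_append _ _ _ _ h2]
          exact hR a h2
        · rw [Nat.beq_refl, List.getD_append_right _ _ _ _ le_rfl, Nat.sub_self]
          exact hy) (by rwa [List.length_append, List.length_singleton])
      exact ⟨fun a b hab => h1.1 a b (by simpa using hab), fun a b hab => h1.2 a b (by simpa using hab)⟩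
    | eq c d =>
      have h' : and (and (Nat.blt c L.length) (Nat.blt d L.length))
        (and (Nat.beq (R c) (R d)) (execA P L.length R)) = true := h
      rw [Bool.and_eq_true, Bool.and_eq_true, Bool.and_eq_true] at h'
      have h1 := ih L R hR h'.2.2
      refine ⟨fun a b hab => ?_, fun a b hab => h1.2 a b (by simpa using hab)⟩
      rcases List.mem_cons.1 hab with h2 | h2
      · injection h2 with h3 h4
        subst h3 h4
        have ha := Nat.blt_eq.mp h'.1.1
        have hb := Nat.blt_eq.mp h'.1.2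
        rw [wordsA_getD _ _ ha, wordsA_getD _ _ hb]
        have h5 := hR a ha
        rw [Nat.eq_of_beq_eq_true h'.2.1] at h5
        exact h5.eq (hR b hb)
      · exact h1.1 a b h2
    | ne c d =>
      have h' : and (and (Nat.blt c L.length) (Nat.blt d L.length))
        (and (not (Nat.beq (R c) (R d))) (execA P L.length R)) = true := h
      rw [Bool.and_eq_true, Bool.and_eq_true, Bool.and_eq_true] at h'
      have h1 := ih L R hR h'.2.2
      refine ⟨fun a b hab => h1.1 a b (by simpa using hab), fun a b hab => ?_⟩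
      rcases List.mem_cons.1 hab with h2 | h2
      · injection h2 with h3 h4
        subst h3 h4
        have ha := Nat.blt_eq.mp h'.1.1
        have hb := Nat.blt_eq.mp h'.1.2
        rw [wordsA_getD _ _ ha, wordsA_getD _ _ hb]
        exact (hR a ha).ne (hR b hb) (ne_of_not_beq h'.2.1)
      · exact h1.2 a b h2

theorem exec_sound {P : List Ins} (h : exec P = true) :
    (∀ a b, Ins.eq a b ∈ P → g (word P a) = g (word P b)) ∧
    (∀ a b, Ins.ne a b ∈ P → g (word P a) ≠ g (word P b)) :=
  execA_sound P [[]] (fun _ => x0) (fun a ha => by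
    have : a = 0 := by simpa using ha
    subst this
    exact reg0) h

theorem exec_eq {P : List Ins} (h : exec P = true) {a b : ℕ} (hab : Ins.eq a b ∈ P) :
    g (word P a) = g (word P b) := (exec_sound h).1 a b hab

theorem exec_ne {P : List Ins} (h : exec P = true) {a b : ℕ} (hab : Ins.ne a b ∈ P) :
    g (word P a) ≠ g (word P b) := (exec_sound h).2 a b hab

end Cfsg.Agent.BMx.Fast
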