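import Mathlib

/-!
# Fields of bits of a natural number

`fld W N i` is the `i`-th digit of `N` in base `2 ^ W`.
-/

set_option autoImplicit false

namespace Cfsg.Agent.BMx.Fast

/-- the `i`-th digit in base `2 ^ W` -/
def fld (W N i : ℕ) : ℕ := N / 2 ^ (W * i) % 2 ^ W

theorem testBit_fld (W N i j : ℕ) :
    (fld W N i).testBit j = (decide (j < W) && N.testBit (W * i + j)) := by
  unfold fld
  rw [Nat.testBit_mod_two_pow, Nat.testBit_div_two_pow, Nat.add_comm j]

theorem fld_lt (W N i : ℕ) : fld W N i < 2 ^ W := Nat.mod_lt _ (by positivity)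

theorem fld_ext {W : ℕ} (hW : 0 < W) {A B : ℕ} (h : ∀ i, fld W A i = fld W B i) : A = B := by
  apply Nat.eq_of_testBit_eq
  intro p
  have h1 := congrArg (fun x => Nat.testBit x (p % W)) (h (p / W))
  simp only [testBit_fld, Nat.mod_lt p hW, decide_true, Bool.true_and, Nat.div_add_mod] at h1
  exact h1

theorem fld_and (W A B i : ℕ) : fld W (A &&& B) i = fld W A i &&& fld W B i := by
  apply Nat.eq_of_testBit_eq
  intro j
  simp only [testBit_fld, Nat.testBit_and]
  cases decide (j < W) <;> simp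

theorem fld_or (W A B i : ℕ) : fld W (A ||| B) i = fld W A i ||| fld W B i := by
  apply Nat.eq_of_testBit_eq
  intro j
  simp only [testBit_fld, Nat.testBit_or]
  cases decide (j < W) <;> simp

theorem fld_xor (W A B i : ℕ) : fld W (A ^^^ B) i = fld W A i ^^^ fld W B i := by
  apply Nat.eq_of_testBit_eq
  intro j
  simp only [testBit_fld, Nat.testBit_xor]
  cases decide (j < W) <;> simp

theorem fld_shiftRight (W N d i : ℕ) : fld W (N >>> (W * d)) i = fld W N (i + d) := by
  apply Nat.eq_of_testBit_eq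
  intro j
  simp only [testBit_fld, Nat.testBit_shiftRight]
  congr 2
  ring

theorem fld_shiftLeft (W N d i : ℕ) :
    fld W (N <<< (W * d)) i = if d ≤ i then fld W N (i - d) else 0 := by
  apply Nat.eq_of_testBit_eq
  intro j
  rw [testBit_fld, Nat.testBit_shiftLeft]
  split_ifs with h
  · obtain ⟨e, rfl⟩ := Nat.exists_eq_add_of_le h
    rw [testBit_fld, Nat.add_sub_cancel_left, Nat.mul_add, Nat.add_assoc, Nat.add_sub_cancel_left]
    simp
  · rw [Nat.zero_testBit]
    by_cases hj : j < W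
    · have h1 : W * (i + 1) ≤ W * d := Nat.mul_le_mul_left _ (by omega)
      have h2 : ¬ (W * i + j ≥ W * d) := by rw [Nat.mul_add] at h1; omega
      simp [h2]
    · simp [hj]

theorem fld_zero (W i : ℕ) : fld W 0 i = 0 := by simp [fld]

theorem fld_of_lt {W N n i : ℕ} (h : N < 2 ^ (W * n)) (hi : n ≤ i) : fld W N i = 0 := by
  unfold fld
  rw [Nat.div_eq_of_lt (lt_of_lt_of_le h (Nat.pow_le_pow_right (by norm_num)
    (Nat.mul_le_mul_left _ hi))), Nat.zero_mod]

/-- the number with given digits -/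
def enc (W : ℕ) (u : ℕ → ℕ) (n : ℕ) : ℕ := ∑ i ∈ Finset.range n, u i * 2 ^ (W * i)

theorem enc_succ (W : ℕ) (u : ℕ → ℕ) (n : ℕ) :
    enc W u (n + 1) = u 0 + 2 ^ W * enc W (fun i => u (i + 1)) n := by
  unfold enc
  rw [Finset.sum_range_succ', Finset.mul_sum, Nat.add_comm]
  congr 1
  · simp
  · refine Finset.sum_congr rfl fun i _ => ?_
    rw [Nat.mul_add, pow_add]
    ring

theorem fld_enc (W : ℕ) (u : ℕ → ℕ) (n : ℕ) (hu : ∀ i < n, u i < 2 ^ W) (i : ℕ) :
    fld W (enc W u n) i = if i < n then u i else 0 := by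
  induction n generalizing u i with
  | zero => simp [enc, fld_zero]
  | succ n ih =>
    have h0 := hu 0 (by omega)
    rw [enc_succ]
    cases i with
    | zero =>
      unfold fld
      rw [Nat.mul_zero, pow_zero, Nat.div_one, Nat.add_mul_mod_self_left, Nat.mod_eq_of_lt h0,
        if_pos (by omega)]
    | succ i =>
      have h1 := ih (fun i => u (i + 1)) (fun i hi => hu _ (by omega)) i
      have h2 : fld W (u 0 + 2 ^ W * enc W (fun i => u (i + 1)) n) (i + 1) =
          fld W (enc W (fun i => u (i + 1)) n) i := by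
        unfold fld
        rw [Nat.mul_add, Nat.mul_one, Nat.add_comm (W * i), pow_add, ← Nat.div_div_eq_div_mul,
          Nat.add_mul_div_left _ _ (by positivity), Nat.div_eq_of_lt h0, Nat.zero_add]
      rw [h2, h1]
      simp

theorem enc_fld {W : ℕ} (hW : 0 < W) {N n : ℕ} (h : N < 2 ^ (W * n)) : enc W (fld W N) n = N := by
  apply fld_ext hW
  intro i
  rw [fld_enc W _ n (fun i _ => fld_lt W N i)]
  split_ifs with hi
  · rfl
  · exact (fld_of_lt h (by omega)).symm

theorem lt_pow_of_le {W : ℕ} (hW : 0 < W) {N n : ℕ} (h : N ≤ n) : N < 2 ^ (W * n) :=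
  lt_of_lt_of_le Nat.lt_two_pow_self (Nat.pow_le_pow_right (by norm_num)
    (le_trans h (Nat.le_mul_of_pos_left _ hW)))

theorem fld_add_sub {W : ℕ} (hW : 0 < W) (A B C : ℕ) (u : ℕ → ℕ) (hu : ∀ i, u i < 2 ^ W)
    (h : ∀ i, fld W A i + fld W B i = fld W C i + u i) (i : ℕ) : fld W (A + B - C) i = u i := by
  have hA : A < 2 ^ (W * (A + B + C)) := lt_pow_of_le hW (by omega)
  have hB : B < 2 ^ (W * (A + B + C)) := lt_pow_of_le hW (by omega)
  have hC : C < 2 ^ (W * (A + B + C)) := lt_pow_of_le hW (by omega)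
  have h1 : A + B = C + enc W u (A + B + C) := by
    have h2 : enc W (fld W A) (A + B + C) + enc W (fld W B) (A + B + C) =
        enc W (fld W C) (A + B + C) + enc W u (A + B + C) := by
      unfold enc
      rw [← Finset.sum_add_distrib, ← Finset.sum_add_distrib]
      refine Finset.sum_congr rfl fun j _ => ?_
      rw [← Nat.add_mul, ← Nat.add_mul, h j]
    rwa [enc_fld hW hA, enc_fld hW hB, enc_fld hW hC] at h2
  have h3 : A + B - C = enc W u (A + B + C) := by omega
  rw [h3, fld_enc W u _ (fun j _ => hu j)]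
  split_ifs with hi
  · rfl
  · have h4 := h i
    rw [fld_of_lt hA (by omega), fld_of_lt hB (by omega)] at h4
    omega

theorem fld_add {W : ℕ} (hW : 0 < W) (A B : ℕ) (h : ∀ i, fld W A i + fld W B i < 2 ^ W) (i : ℕ) :
    fld W (A + B) i = fld W A i + fld W B i := by
  have := fld_add_sub hW A B 0 (fun i => fld W A i + fld W B i) h
    (fun i => by rw [fld_zero, Nat.zero_add]) i
  rwa [Nat.sub_zero] at this

theorem fld_mul {W : ℕ} (hW : 0 < W) (S c : ℕ) (h : ∀ i, fld W S i * c < 2 ^ W) (i : ℕ) :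
    fld W (S * c) i = fld W S i * c := by
  have hS : S < 2 ^ (W * S) := lt_pow_of_le hW le_rfl
  have h1 : S * c = enc W (fun i => fld W S i * c) S := by
    conv_lhs => rw [← enc_fld hW hS]
    unfold enc
    rw [Finset.sum_mul]
    refine Finset.sum_congr rfl fun j _ => ?_
    ring
  rw [h1, fld_enc W _ _ (fun j _ => h j)]
  split_ifs with hi
  · rfl
  · rw [fld_of_lt hS (by omega), Nat.zero_mul]

theorem fld_half {W : ℕ} (hW : 0 < W) (N : ℕ) (h : ∀ i, fld W N i % 2 = 0) (i : ℕ) :
    fld W (N >>> 1) i = fld W N i / 2 := by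
  have hN : N < 2 ^ (W * N) := lt_pow_of_le hW le_rfl
  have h1 : N = 2 * enc W (fun i => fld W N i / 2) N := by
    conv_lhs => rw [← enc_fld hW hN]
    unfold enc
    rw [Finset.mul_sum]
    refine Finset.sum_congr rfl fun j _ => ?_
    have := h j
    show fld W N j * 2 ^ (W * j) = 2 * (fld W N j / 2 * 2 ^ (W * j))
    rw [← Nat.mul_assoc]
    congr 1
    omega
  have h2 : N >>> 1 = enc W (fun i => fld W N i / 2) N := by
    rw [Nat.shiftRight_eq_div_pow, pow_one]
    omega
  rw [h2, fld_enc W _ _ (fun j _ => lt_of_le_of_lt (Nat.div_le_self _ _) (fld_lt W N j))]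
  split_ifs with hi
  · rfl
  · rw [fld_of_lt hN (by omega)]

/-- the number whose first `n` digits are `1` -/
noncomputable def ones (W n : ℕ) : ℕ :=
  Nat.div (Nat.sub (Nat.pow 2 (Nat.mul W n)) 1) (Nat.sub (Nat.pow 2 W) 1)

theorem fld_ones {W : ℕ} (hW : 0 < W) (n i : ℕ) : fld W (ones W n) i = if i < n then 1 else 0 := by
  have h2 : 2 ≤ 2 ^ W := by
    calc 2 = 2 ^ 1 := rfl
      _ ≤ 2 ^ W := Nat.pow_le_pow_right (by norm_num) hW
  have h1 : ones W n = enc W (fun _ => 1) n := by
    show (2 ^ (W * n) - 1) / (2 ^ W - 1) = _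
    rw [pow_mul, ← Nat.geomSum_eq h2]
    unfold enc
    refine Finset.sum_congr rfl fun j _ => ?_
    rw [Nat.one_mul, pow_mul]
  rw [h1, fld_enc W _ _ (fun _ _ => by omega)]

theorem xor_full {W a : ℕ} (h : a < 2 ^ W) : a ^^^ (2 ^ W - 1) = 2 ^ W - 1 - a := by
  apply Nat.eq_of_testBit_eq
  intro j
  rw [Nat.testBit_xor, Nat.testBit_two_pow_sub_one, show 2 ^ W - 1 - a = 2 ^ W - (a + 1) by omega,
    Nat.testBit_two_pow_sub_succ h]
  by_cases hj : j < W
  · simp [hj]
  · have : a.testBit j = false :=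
      Nat.testBit_lt_two_pow (lt_of_lt_of_le h (Nat.pow_le_pow_right (by norm_num) (by omega)))
    simp [hj, this]

theorem and_full {W a : ℕ} (h : a < 2 ^ W) : a &&& (2 ^ W - 1) = a := by
  rw [Nat.and_two_pow_sub_one_eq_mod, Nat.mod_eq_of_lt h]

/-! ### Spreading a mask -/

/-- the bits that stay at step `k` -/
noncomputable def mk (k : ℕ) : ℕ :=
  Nat.mul (ones (Nat.mul 36 (Nat.pow 2 k)) (Nat.pow 2 (Nat.sub 12 k))) (Nat.sub (Nat.pow 2 (Nat.pow 2 k)) 1)

/-- the shift at step `k` -/
noncomputable def sh (k : ℕ) : ℕ := Nat.mul 17 (Nat.pow 2 k)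

/-- step `k` of the spreading -/
noncomputable def stp (k x : ℕ) : ℕ :=
  (fun lo => Nat.lor lo (Nat.shiftLeft (Nat.xor x lo) (sh k))) (Nat.land x (mk k))

/-- the first two arguments only separate the terms -/
noncomputable def salt (_l _c x : ℕ) : ℕ := x

/-- bit `i` of `x` goes to bit `18 i` -/
noncomputable def spr (l c x : ℕ) : ℕ :=
  stp 0 (stp 1 (stp 2 (stp 3 (stp 4 (stp 5 (stp 6 (stp 7 (stp 8 (stp 9 (stp 10 (stp 11 (stp 12
    (salt l c x)))))))))))))

theorem testBit_mk (k H R : ℕ) (hR : R < 36 * 2 ^ k) :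
    (mk k).testBit (36 * 2 ^ k * H + R) = (decide (H < 2 ^ (12 - k)) && decide (R < 2 ^ k)) := by
  have hW : 0 < 36 * 2 ^ k := by positivity
  have h1 : 2 ^ 2 ^ k - 1 < 2 ^ (36 * 2 ^ k) :=
    lt_of_lt_of_le (Nat.sub_lt (by positivity) one_pos)
      (Nat.pow_le_pow_right (by norm_num) (by omega))
  have h2 := fld_mul hW (ones (36 * 2 ^ k) (2 ^ (12 - k))) (2 ^ 2 ^ k - 1) (fun i => by
    rw [fld_ones hW]; split_ifs
    · rwa [Nat.one_mul]
    · rw [Nat.zero_mul]; positivity) H
  have h3 := congrArg (fun x => Nat.testBit x R) h2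
  simp only [testBit_fld, hR, decide_true, Bool.true_and, fld_ones hW] at h3
  refine Eq.trans h3 ?_
  split_ifs with h
  · simp [h, Nat.testBit_two_pow_sub_one]
  · simp [h]

/-- the invariant of the spreading -/
def SpInv (k M x : ℕ) : Prop := ∀ H R, R < 18 * 2 ^ k →
  x.testBit (18 * 2 ^ k * H + R) = (decide (R < 2 ^ k) && M.testBit (2 ^ k * H + R))

theorem spInv_stp {k M x : ℕ} (hk : k ≤ 12) (hM : ∀ p, 8192 ≤ p → M.testBit p = false) (h : SpInv (k + 1) M x) :
    SpInv k M (stp k x) := by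
  have hb : 2 ^ k * 2 ^ (12 - k) = 4096 := by
    rw [← pow_add, show k + (12 - k) = 12 by omega]; norm_num
  have hx : ∀ H R, R < 36 * 2 ^ k → x.testBit (36 * 2 ^ k * H + R) =
      (decide (R < 2 * 2 ^ k) && M.testBit (2 * (2 ^ k * H) + R)) := by
    intro H R hR
    have := h H R (by rw [pow_succ]; omega)
    rw [pow_succ, show 18 * (2 ^ k * 2) = 36 * 2 ^ k by ring, show 2 ^ k * 2 * H = 2 * (2 ^ k * H) by ring,
      Nat.mul_comm (2 ^ k) 2] at this
    exact this
  have hH : ∀ H R, M.testBit (2 * (2 ^ k * H) + R) = true → H < 2 ^ (12 - k) := by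
    intro H R h1
    by_contra h2
    have h3 : 2 ^ k * 2 ^ (12 - k) ≤ 2 ^ k * H := Nat.mul_le_mul_left _ (by omega)
    rw [hM _ (by omega)] at h1
    exact absurd h1 (by simp)
  have hlo : ∀ H R, R < 36 * 2 ^ k → (x &&& mk k).testBit (36 * 2 ^ k * H + R) =
      (decide (R < 2 ^ k) && M.testBit (2 * (2 ^ k * H) + R)) := by
    intro H R hR
    rw [Nat.testBit_and, hx H R hR, testBit_mk k H R hR]
    cases h1 : M.testBit (2 * (2 ^ k * H) + R)
    · simp
    · have h2 := hH H R h1
      by_cases h3 : R < 2 ^ k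
      · have h4 : R < 2 * 2 ^ k := by omega
        simp [h2, h3, h4]
      · simp [h3]
  have hhi : ∀ H R, R < 36 * 2 ^ k → (x ^^^ (x &&& mk k)).testBit (36 * 2 ^ k * H + R) =
      (decide (2 ^ k ≤ R ∧ R < 2 * 2 ^ k) && M.testBit (2 * (2 ^ k * H) + R)) := by
    intro H R hR
    rw [Nat.testBit_xor, hlo H R hR, hx H R hR]
    cases M.testBit (2 * (2 ^ k * H) + R)
    · simp
    · by_cases h3 : R < 2 ^ k
      · have h4 : R < 2 * 2 ^ k := by omega
        have h5 : ¬ 2 ^ k ≤ R := by omega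
        simp [h3, h4, h5]
      · have h5 : 2 ^ k ≤ R := by omega
        simp [h3, h5]
  intro H' R hR
  show ((x &&& mk k) ||| ((x ^^^ (x &&& mk k)) <<< (17 * 2 ^ k))).testBit _ = _
  rw [Nat.testBit_or, Nat.testBit_shiftLeft]
  have ha : 0 < 2 ^ k := by positivity
  generalize 2 ^ k = a at *
  obtain ⟨H, rfl | rfl⟩ := Nat.even_or_odd' H'
  · have e1 : 18 * a * (2 * H) + R = 36 * a * H + R := by ring
    have e2 : a * (2 * H) + R = 2 * (a * H) + R := by ring
    rw [e1, e2, hlo H R (by omega)]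
    have h0 : (decide (36 * a * H + R ≥ 17 * a) &&
        (x ^^^ (x &&& mk k)).testBit (36 * a * H + R - 17 * a)) = false := by
      by_cases h1 : 17 * a ≤ R
      · rw [show 36 * a * H + R - 17 * a = 36 * a * H + (R - 17 * a) by omega, hhi _ _ (by omega)]
        have : ¬ (a ≤ R - 17 * a ∧ R - 17 * a < 2 * a) := by omega
        simp [this]
      · cases H with
        | zero =>
          have : ¬ (36 * a * 0 + R ≥ 17 * a) := by omega
          simp only [this, decide_false, Bool.false_and]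
        | succ H =>
          rw [show 36 * a * (H + 1) + R - 17 * a = 36 * a * H + (19 * a + R) by
            rw [Nat.mul_add]; omega, hhi _ _ (by omega)]
          have : ¬ (a ≤ 19 * a + R ∧ 19 * a + R < 2 * a) := by omega
          simp only [this, decide_false, Bool.false_and, Bool.and_false]
    rw [h0, Bool.or_false]
  · have e1 : 18 * a * (2 * H + 1) + R = 36 * a * H + (18 * a + R) := by ring
    have e2 : a * (2 * H + 1) + R = 2 * (a * H) + (a + R) := by ring
    rw [e1, e2, hlo H _ (by omega), show 36 * a * H + (18 * a + R) - 17 * a = 36 * a * H + (a + R) by omega,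
      hhi _ _ (by omega)]
    have h1 : ¬ (18 * a + R < a) := by omega
    have h2 : 36 * a * H + (18 * a + R) ≥ 17 * a := by omega
    have h3 : (a ≤ a + R ∧ a + R < 2 * a) ↔ R < a := by omega
    simp only [h1, h2, h3, decide_false, decide_true, Bool.false_and, Bool.true_and, Bool.false_or]

theorem spInv_top {M : ℕ} (hM : ∀ p, 8192 ≤ p → M.testBit p = false) : SpInv 13 M M := by
  intro H R _
  rw [show 2 ^ 13 = 8192 by norm_num]
  cases H with
  | zero =>
    by_cases h : R < 8192
    · simp [h]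
    · rw [hM (18 * 8192 * 0 + R) (by omega)]
      simp [h]
  | succ H =>
    rw [hM (18 * 8192 * (H + 1) + R) (by omega), hM (8192 * (H + 1) + R) (by omega), Bool.and_false]

theorem fld_spr (l c : ℕ) {M : ℕ} (hM : ∀ p, 8192 ≤ p → M.testBit p = false) (i : ℕ) :
    fld 18 (spr l c M) i = if M.testBit i then 1 else 0 := by
  have h : SpInv 0 M (spr l c M) :=
    spInv_stp (by norm_num) hM <| spInv_stp (by norm_num) hM <| spInv_stp (by norm_num) hM <|
    spInv_stp (by norm_num) hM <| spInv_stp (by norm_num) hM <| spInv_stp (by norm_num) hM <|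
    spInv_stp (by norm_num) hM <| spInv_stp (by norm_num) hM <| spInv_stp (by norm_num) hM <|
    spInv_stp (by norm_num) hM <| spInv_stp (by norm_num) hM <| spInv_stp (by norm_num) hM <|
    spInv_stp (by norm_num) hM <| spInv_top hM
  apply Nat.eq_of_testBit_eq
  intro j
  rw [testBit_fld]
  by_cases hj : j < 18
  · have h1 := h i j (by omega)
    rw [pow_zero, Nat.mul_one, Nat.one_mul] at h1
    rw [h1]
    cases j with
    | zero => cases M.testBit i <;> simp
    | succ j => split_ifs <;> simp [Nat.testBit_succ]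
  · obtain ⟨j, rfl⟩ : ∃ j', j = j' + 1 := ⟨j - 1, by omega⟩
    split_ifs <;> simp [hj, Nat.testBit_succ]

end Cfsg.Agent.BMx.Fast
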