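import Cfsg.Agent.BMx.FastFld
import Cfsg.Agent.Monster.VecSpace

/-!
# Programs of `VecEngine` on one natural number

A vector on `6144` lanes is stored in one natural number: lane `i` holds `f i + 2 ^ 17` in the bits
`18 i, …, 18 i + 17`.  No field overflows since the programs are isometries up to the weights followed by `saf`.
-/

set_option autoImplicit false

namespace Cfsg.Agent.BMx.Fast

open Cfsg.Agent.Lib.PermNet Cfsg.Agent.Monster.VecEngine Cfsg.Agent.Monster.VecSpace

/-! ### The operations -/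

/-- the full fields of a spread mask -/
noncomputable def fu (S : ℕ) : ℕ := Nat.mul S 262143

/-- the bias on a spread mask -/
noncomputable def bi (S : ℕ) : ℕ := Nat.mul S 131072

/-- `1` in all lanes -/
noncomputable def one : ℕ := ones 18 6144

/-- half the bias in all lanes -/
noncomputable def qq : ℕ := Nat.mul one 65536

/-- a masked swap -/
noncomputable def stg (M d P : ℕ) : ℕ :=
  (fun t => Nat.xor P (Nat.xor t (Nat.shiftLeft t d))) (Nat.land (Nat.xor (Nat.shiftRight P d) P) M)

/-- a network -/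
noncomputable def netF (l : ℕ) (N : Net) : ℕ → ℕ → ℕ :=
  Net.rec (motive := fun _ => ℕ → ℕ → ℕ) (fun _ x => x)
    (fun M d _ ih c x => ih (Nat.succ c) (stg (fu (spr l c M)) (Nat.mul 18 d) x)) N

/-- sign change -/
noncomputable def negF (S x : ℕ) : ℕ := Nat.add (Nat.xor x (fu S)) S

/-- doubling -/
noncomputable def dblF (S x : ℕ) : ℕ := Nat.sub (Nat.add x (Nat.land x (fu S))) (bi S)

/-- the shifted full mask of a butterfly -/
noncomputable def fu2 (S e : ℕ) : ℕ := Nat.shiftLeft (fu S) e

/-- the constant of a butterfly -/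
noncomputable def bc (S e : ℕ) : ℕ := Nat.add (bi S) (Nat.mul (Nat.shiftLeft S e) 131071)

/-- butterfly -/
noncomputable def bflyF (S e x : ℕ) : ℕ :=
  Nat.sub (Nat.add (Nat.xor x (fu2 S e))
    (Nat.lor (Nat.land (Nat.shiftRight x e) (fu S)) (Nat.shiftLeft (Nat.land x (fu S)) e))) (bc S e)

/-- halving -/
noncomputable def halfF (x : ℕ) : ℕ := Nat.add (Nat.shiftRight x 1) qq

/-- run a program; the numbers `l` and `c` only separate the terms of different masks -/
noncomputable def runP (l : ℕ) (P : Prog) : ℕ → ℕ → (ℕ → Bool) → Bool :=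
  Prog.rec (motive := fun _ => ℕ → ℕ → (ℕ → Bool) → Bool) (fun _ x k => seqB x k)
    (fun N _ ih c x k => ih (Nat.pred c) (netF l N c x) k)
    (fun M _ ih c x k => ih (Nat.succ c) (negF (spr l c M) x) k)
    (fun M _ ih c x k => ih (Nat.succ c) (dblF (spr l c M) x) k)
    (fun _ ih c x k => Bool.rec false (ih c (halfF x) k) (Nat.beq (Nat.land x one) 0))
    (fun M d _ ih c x k => ih (Nat.succ c) (bflyF (spr l c M) (Nat.mul 18 d) x) k) P

/-! ### The representation -/

/-- `N` stores the lanes `< 6144` of `f` -/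
def Rep (N : ℕ) (f : ℕ → ℚ) : Prop :=
  ∀ i, (fld 18 N i : ℚ) = if i < 6144 then f i + 131072 else 0

/-- all entries are small -/
def Bd (f : ℕ → ℚ) : Prop := ∀ i, -131072 < f i ∧ f i < 131072

/-- `S` is the mask `M` spread -/
def Sp (S M : ℕ) : Prop := ∀ i, fld 18 S i = if M.testBit i then 1 else 0

theorem sp_spr (l c : ℕ) {M : ℕ} (hM : ∀ i, M.testBit i = true → i < 6144) : Sp (spr l c M) M :=
  fld_spr l c fun p hp => by
    by_contra h
    have := hM p (by simpa using h)
    omega

theorem h18 : 0 < 18 := by norm_num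

theorem fld_lt' (N i : ℕ) : fld 18 N i < 262144 := fld_lt 18 N i

theorem Sp.mul {S M : ℕ} (h : Sp S M) {c : ℕ} (hc : c < 262144) (i : ℕ) :
    fld 18 (S * c) i = if M.testBit i then c else 0 := by
  rw [fld_mul h18 S c (fun j => by rw [h j]; split_ifs <;> omega), h i]
  split_ifs <;> omega

theorem Sp.and_fu {S M : ℕ} (h : Sp S M) (x i : ℕ) :
    fld 18 (x &&& fu S) i = if M.testBit i then fld 18 x i else 0 := by
  show fld 18 (x &&& S * 262143) i = _
  rw [fld_and, h.mul (by norm_num)]
  split_ifs
  · exact and_full (W := 18) (fld_lt 18 x i)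
  · exact Nat.and_zero _

theorem Sp.xor_fu {S M : ℕ} (h : Sp S M) (x i : ℕ) :
    fld 18 (x ^^^ fu S) i = if M.testBit i then 262143 - fld 18 x i else fld 18 x i := by
  show fld 18 (x ^^^ S * 262143) i = _
  rw [fld_xor, h.mul (by norm_num)]
  split_ifs
  · exact xor_full (W := 18) (fld_lt 18 x i)
  · exact Nat.xor_zero _

theorem Sp.shift {S M : ℕ} (h : Sp S M) (d : ℕ) : Sp (S <<< (18 * d)) (M <<< d) := by
  intro i
  rw [fld_shiftLeft, Nat.testBit_shiftLeft]
  by_cases hd : d ≤ i
  · rw [if_pos hd, h]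
    simp [hd]
  · simp [hd]

theorem fld_one (i : ℕ) : fld 18 one i = if i < 6144 then 1 else 0 := fld_ones h18 6144 i

attribute [irreducible] one

theorem fld_mul_of (S c : ℕ) (hc : c < 262144) (hS : ∀ i, fld 18 S i = if i < 6144 then 1 else 0) (i : ℕ) :
    fld 18 (Nat.mul S c) i = if i < 6144 then c else 0 := by
  show fld 18 (S * c) i = _
  rw [fld_mul h18 _ _ (fun j => by rw [hS]; split_ifs <;> omega), hS]
  split_ifs <;> omega

theorem not_both {M d i : ℕ} (h : M &&& (M >>> d) = 0) (h1 : M.testBit i = true) :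
    ¬ (d ≤ i ∧ M.testBit (i - d) = true) := by
  rintro ⟨h2, h3⟩
  have := testBit_and_shift h (i - d) h3
  rw [Nat.sub_add_cancel h2, h1] at this
  exact absurd this (by simp)

theorem fld_stg {S M d : ℕ} (h : Sp S M) (hM : M &&& (M >>> d) = 0) (x i : ℕ) :
    fld 18 (stg (fu S) (18 * d) x) i = fld 18 x (tau M d i) := by
  show fld 18 (x ^^^ ((((x >>> (18 * d)) ^^^ x) &&& fu S) ^^^
    ((((x >>> (18 * d)) ^^^ x) &&& fu S) <<< (18 * d)))) i = _
  rw [fld_xor, fld_xor, fld_shiftLeft, h.and_fu, h.and_fu, fld_xor, fld_xor, fld_shiftRight, fld_shiftRight]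
  unfold tau
  by_cases h1 : M.testBit i = true
  · have h2 := not_both hM h1
    rw [if_pos h1, if_pos h1]
    have h3 : (if d ≤ i then (if M.testBit (i - d) = true then
        fld 18 x (i - d + d) ^^^ fld 18 x (i - d) else 0) else 0) = 0 := by
      split_ifs with h4 h5
      · exact absurd ⟨h4, h5⟩ h2
      · rfl
      · rfl
    rw [h3, Nat.xor_zero, Nat.xor_comm (fld 18 x (i + d)), ← Nat.xor_assoc, Nat.xor_self, Nat.zero_xor]
  · rw [if_neg h1, if_neg h1, Nat.zero_xor]
    by_cases h2 : d ≤ i ∧ M.testBit (i - d) = true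
    · rw [if_pos h2.1, if_pos h2.2, if_pos h2, Nat.sub_add_cancel h2.1, ← Nat.xor_assoc, Nat.xor_self,
        Nat.zero_xor]
    · rw [if_neg h2]
      have h3 : (if d ≤ i then (if M.testBit (i - d) = true then
          fld 18 x (i - d + d) ^^^ fld 18 x (i - d) else 0) else 0) = 0 := by
        split_ifs with h4 h5
        · exact absurd ⟨h4, h5⟩ h2
        · rfl
        · rfl
      rw [h3, Nat.xor_zero]

theorem fld_netF (l : ℕ) {N : Net} (h : N.ok 6144 = true) (c x i : ℕ) :
    fld 18 (netF l N c x) i = fld 18 x (N.perm i) := by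
  induction N generalizing c x with
  | nil => rfl
  | cons M d N ih =>
    obtain ⟨h1, h2, h3⟩ := Net.ok_cons h
    show fld 18 (netF l N (c + 1) (stg (fu (spr l c M)) (18 * d) x)) i = _
    rw [ih h3, fld_stg (sp_spr l c fun j hj => by have := lt_of_testBit h2 hj; omega) h1, Net.perm_cons,
      Equiv.Perm.mul_apply, stagePerm_apply h1]

theorem rep_net (l : ℕ) {N : Net} (h : N.ok 6144 = true) (c : ℕ) {x : ℕ} {f : ℕ → ℚ} (hx : Rep x f) :
    Rep (netF l N c x) (lcomp ℚ N.perm f) := by
  intro i
  rw [fld_netF l h, hx]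
  by_cases hi : i < 6144
  · rw [if_pos hi, if_pos (perm_lt h hi)]
    rfl
  · rw [if_neg hi, perm_eq_of_le h (by omega), if_neg hi]

theorem rep_neg {S M : ℕ} (h : Sp S M) (hM : ∀ i, M.testBit i = true → i < 6144) {x : ℕ} {f : ℕ → ℚ}
    (hx : Rep x f) (hb : Bd f) : Rep (negF S x) (lneg ℚ M f) := by
  have hpos : ∀ i, M.testBit i = true → 0 < fld 18 x i := by
    intro i hi
    have h1 := hx i
    rw [if_pos (hM i hi)] at h1
    have h2 := (hb i).1
    have h3 : (0 : ℚ) < fld 18 x i := by linarith
    exact_mod_cast h3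
  intro i
  show ((fld 18 ((x ^^^ fu S) + S) i : ℕ) : ℚ) =
    if i < 6144 then (if M.testBit i then - f i else f i) + 131072 else 0
  rw [fld_add h18 _ _ (fun j => by
    rw [h.xor_fu, h j]
    have := fld_lt' x j
    split_ifs with h1
    · have := hpos j h1
      omega
    · omega), h.xor_fu, h i]
  have h1 := hx i
  have h2 := fld_lt' x i
  by_cases h3 : M.testBit i = true
  · rw [if_pos h3, if_pos h3, if_pos h3, if_pos (hM i h3)]
    rw [if_pos (hM i h3)] at h1
    rw [Nat.cast_add, Nat.cast_sub (by omega), h1]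
    push_cast
    ring
  · rw [if_neg h3, if_neg h3, if_neg h3, Nat.add_zero, h1]

theorem rep_dbl {S M : ℕ} (h : Sp S M) (hM : ∀ i, M.testBit i = true → i < 6144) {x : ℕ} {f : ℕ → ℚ}
    (hx : Rep x f) (hb : Bd (ldbl ℚ M f)) : Rep (dblF S x) (ldbl ℚ M f) := by
  have hr : ∀ i, M.testBit i = true → 131072 < 2 * fld 18 x i ∧ 2 * fld 18 x i < 393216 := by
    intro i hi
    have h1 := hx i
    rw [if_pos (hM i hi)] at h1
    have h2 : -131072 < (if M.testBit i then 2 * f i else f i) ∧
        (if M.testBit i then 2 * f i else f i) < 131072 := hb i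
    rw [if_pos hi] at h2
    have h3 : (131072 : ℚ) < 2 * fld 18 x i := by linarith
    have h4 : (2 : ℚ) * fld 18 x i < 393216 := by linarith
    exact ⟨by exact_mod_cast h3, by exact_mod_cast h4⟩
  intro i
  show ((fld 18 (x + (x &&& fu S) - S * 131072) i : ℕ) : ℚ) =
    if i < 6144 then (if M.testBit i then 2 * f i else f i) + 131072 else 0
  rw [fld_add_sub h18 _ _ _ (fun j => if M.testBit j then 2 * fld 18 x j - 131072 else fld 18 x j)
    (fun j => by
      have := fld_lt' x j
      split_ifs with h1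
      · have := hr j h1
        omega
      · omega)
    (fun j => by
      rw [h.and_fu, h.mul (by norm_num)]
      split_ifs with h1
      · have := hr j h1
        omega
      · omega)]
  have h1 := hx i
  by_cases h3 : M.testBit i = true
  · rw [if_pos h3, if_pos h3, if_pos (hM i h3)]
    rw [if_pos (hM i h3)] at h1
    rw [Nat.cast_sub (by have := hr i h3; omega), Nat.cast_mul, h1]
    push_cast
    ring
  · rw [if_neg h3, if_neg h3, h1]

theorem rep_half {x : ℕ} {f : ℕ → ℚ} (hx : Rep x f) (he : x &&& one = 0) :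
    Rep (halfF x) ((2 : ℚ)⁻¹ • f) := by
  have hz : ∀ i, ¬ i < 6144 → fld 18 x i = 0 := by
    intro i hi
    have h1 := hx i
    rw [if_neg hi] at h1
    exact_mod_cast h1
  have hev : ∀ i, fld 18 x i % 2 = 0 := by
    intro i
    by_cases hi : i < 6144
    · have h1 := congrArg (fun y => fld 18 y i) he
      simp only [fld_and, fld_one, if_pos hi, fld_zero, Nat.and_one_is_mod] at h1
      exact h1
    · rw [hz i hi]
  have hq : ∀ i, fld 18 qq i = if i < 6144 then 65536 else 0 := by
    intro i
    unfold qq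
    exact fld_mul_of one 65536 (by norm_num) fld_one i
  intro i
  show ((fld 18 ((x >>> 1) + qq) i : ℕ) : ℚ) = if i < 6144 then (2 : ℚ)⁻¹ * f i + 131072 else 0
  rw [fld_add h18 _ _ (fun j => by
    rw [fld_half h18 x hev, hq]
    have := fld_lt' x j
    split_ifs <;> omega), fld_half h18 x hev, hq]
  by_cases hi : i < 6144
  · have h1 := hx i
    rw [if_pos hi] at h1
    rw [if_pos hi, if_pos hi]
    have h2 : fld 18 x i = 2 * (fld 18 x i / 2) := by have := hev i; omega
    rw [h2] at h1
    push_cast at h1 ⊢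
    linarith
  · rw [if_neg hi, if_neg hi, hz i hi]
    simp

theorem rep_bfly {S M d : ℕ} (h : Sp S M) (hM : M &&& (M >>> d) = 0)
    (hL : ∀ i, M.testBit i = true → i + d < 6144) {x : ℕ} {f : ℕ → ℚ}
    (hx : Rep x f) (hb : Bd (lbfly ℚ M d f)) : Rep (bflyF S (18 * d) x) (lbfly ℚ M d f) := by
  have hv : ∀ i, lbfly ℚ M d f i = if M.testBit i then f i + f (i + d) else
      if d ≤ i ∧ M.testBit (i - d) then f (i - d) - f i else f i := fun _ => rfl
  have hr1 : ∀ i, M.testBit i = true →
      131072 < fld 18 x i + fld 18 x (i + d) ∧ fld 18 x i + fld 18 x (i + d) < 393216 := by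
    intro i hi
    have h0 := hL i hi
    have h1 := hx i
    have h2 := hx (i + d)
    rw [if_pos (by omega)] at h1 h2
    have h3 := hb i
    rw [hv, if_pos hi] at h3
    have h4 : (131072 : ℚ) < fld 18 x i + fld 18 x (i + d) := by linarith
    have h5 : (fld 18 x i : ℚ) + fld 18 x (i + d) < 393216 := by linarith
    exact ⟨by exact_mod_cast h4, by exact_mod_cast h5⟩
  have hr2 : ∀ i, d ≤ i ∧ M.testBit (i - d) = true →
      fld 18 x i < fld 18 x (i - d) + 131072 ∧ fld 18 x (i - d) < fld 18 x i + 131072 := by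
    intro i hi
    have h0 := hL _ hi.2
    have h1 := hx i
    have h2 := hx (i - d)
    rw [if_pos (by omega)] at h1 h2
    have h3 := hb i
    rw [hv, if_neg (fun h4 => not_both hM h4 hi), if_pos hi] at h3
    have h4 : (fld 18 x i : ℚ) < fld 18 x (i - d) + 131072 := by linarith
    have h5 : (fld 18 x (i - d) : ℚ) < fld 18 x i + 131072 := by linarith
    exact ⟨by exact_mod_cast h4, by exact_mod_cast h5⟩
  have hs := h.shift d
  have ht : ∀ j, (M <<< d).testBit j = true ↔ d ≤ j ∧ M.testBit (j - d) = true := by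
    intro j
    rw [Nat.testBit_shiftLeft]
    simp
  have hfu : fu2 S (18 * d) = fu (S <<< (18 * d)) := by
    show (S * 262143) <<< (18 * d) = (S <<< (18 * d)) * 262143
    rw [Nat.shiftLeft_eq, Nat.shiftLeft_eq]
    ring
  have hc : ∀ j, fld 18 (bc S (18 * d)) j = if M.testBit j then 131072 else
      if d ≤ j ∧ M.testBit (j - d) then 131071 else 0 := by
    intro j
    show fld 18 (S * 131072 + (S <<< (18 * d)) * 131071) j = _
    rw [fld_add h18 _ _ (fun j => by
      rw [h.mul (by norm_num), hs.mul (by norm_num)]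
      split_ifs <;> omega), h.mul (by norm_num), hs.mul (by norm_num)]
    simp only [ht]
    by_cases h1 : M.testBit j = true
    · rw [if_pos h1, if_neg (not_both hM h1), if_pos h1]
    · rw [if_neg h1, if_neg h1, Nat.zero_add]
  have hA : ∀ j, fld 18 (x ^^^ fu2 S (18 * d)) j =
      if d ≤ j ∧ M.testBit (j - d) then 262143 - fld 18 x j else fld 18 x j := by
    intro j
    rw [hfu, hs.xor_fu]
    simp only [ht]
  have hB : ∀ j, fld 18 (((x >>> (18 * d)) &&& fu S) ||| ((x &&& fu S) <<< (18 * d))) j =
      if M.testBit j then fld 18 x (j + d) else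
      if d ≤ j ∧ M.testBit (j - d) then fld 18 x (j - d) else 0 := by
    intro j
    rw [fld_or, h.and_fu, fld_shiftLeft, h.and_fu, fld_shiftRight]
    by_cases h1 : M.testBit j = true
    · rw [if_pos h1, if_pos h1]
      have h2 := not_both hM h1
      have h3 : (if d ≤ j then (if M.testBit (j - d) = true then fld 18 x (j - d) else 0) else 0) = 0 := by
        split_ifs with h4 h5
        · exact absurd ⟨h4, h5⟩ h2
        · rfl
        · rfl
      rw [h3, Nat.or_zero]
    · rw [if_neg h1, if_neg h1, Nat.zero_or]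
      by_cases h2 : d ≤ j
      · simp only [h2, true_and, if_true]
      · simp only [h2, false_and, if_false]
  intro i
  show ((fld 18 ((x ^^^ fu2 S (18 * d)) +
    (((x >>> (18 * d)) &&& fu S) ||| ((x &&& fu S) <<< (18 * d))) - bc S (18 * d)) i : ℕ) : ℚ) = _
  rw [fld_add_sub h18 _ _ _ (fun j => if M.testBit j then fld 18 x j + fld 18 x (j + d) - 131072 else
      if d ≤ j ∧ M.testBit (j - d) then fld 18 x (j - d) + 131072 - fld 18 x j else fld 18 x j)
    (fun j => by
      have := fld_lt' x j
      split_ifs with h1 h2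
      · have := hr1 j h1
        omega
      · have := hr2 j h2
        omega
      · omega)
    (fun j => by
      rw [hA, hB, hc]
      have := fld_lt' x j
      by_cases h1 : M.testBit j = true
      · have := hr1 j h1
        rw [if_neg (not_both hM h1), if_pos h1, if_pos h1, if_pos h1]
        omega
      · rw [if_neg h1, if_neg h1, if_neg h1]
        by_cases h2 : d ≤ j ∧ M.testBit (j - d) = true
        · have := hr2 j h2
          rw [if_pos h2, if_pos h2, if_pos h2, if_pos h2]
          omega
        · rw [if_neg h2, if_neg h2, if_neg h2, if_neg h2]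
          omega), hv]
  have h1 := hx i
  by_cases h3 : M.testBit i = true
  · have h0 := hL i h3
    have h2 := hx (i + d)
    rw [if_pos (by omega)] at h1 h2
    rw [if_pos h3, if_pos h3, if_pos (by omega), Nat.cast_sub (by have := hr1 i h3; omega), Nat.cast_add,
      h1, h2]
    push_cast
    ring
  · rw [if_neg h3, if_neg h3]
    by_cases h4 : d ≤ i ∧ M.testBit (i - d) = true
    · have h0 := hL _ h4.2
      have h2 := hx (i - d)
      rw [if_pos (by omega)] at h1 h2
      rw [if_pos h4, if_pos h4, if_pos (by omega), Nat.cast_sub (by have := hr2 i h4; omega), Nat.cast_add,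
        h1, h2]
      push_cast
      ring
    · rw [if_neg h4, if_neg h4, h1]

/-! ### The static check -/

/-- the sign plane -/
noncomputable def sgnP (x : Pl) : ℕ := Pl.rec (motive := fun _ => ℕ) (fun s => s) (fun _ _ ih => ih) x

theorem val_neg_of_sgnP (x : Pl) (i : ℕ) (h : (sgnP x).testBit i = true) : val x i < 0 := by
  induction x with
  | sgn s =>
    have h' : s.testBit i = true := h
    rw [val_sgn, bt, if_pos h']
    norm_num
  | cons p L ih =>
    have h1 := ih h
    have h2 : bt p i ≤ 1 := by unfold bt; split_ifs <;> norm_num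
    rw [val_cons]
    omega

/-- the weights on the lanes of `U` are at most `4` -/
noncomputable def le4 (U : ℕ) (w : Pl) : Bool :=
  Nat.beq (Nat.land U (sgnP (Monster.VecEngine.add w (.cons U (.cons U (.cons 0 (.sgn U)))) 0))) U

theorem le4_sound {U : ℕ} {w : Pl} (h : le4 U w = true) (i : ℕ) (hi : U.testBit i = true) : val w i ≤ 4 := by
  have h1 : U &&& sgnP (Monster.VecEngine.add w (.cons U (.cons U (.cons 0 (.sgn U)))) 0) = U :=
    Nat.eq_of_beq_eq_true h
  have h2 := congrArg (fun y => Nat.testBit y i) h1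
  simp only [Nat.testBit_and, hi, Bool.true_and] at h2
  have h3 := val_neg_of_sgnP _ i h2
  have h4 : bt U i = 1 := by unfold bt; rw [if_pos hi]
  have h5 : bt 0 i = 0 := by simp [bt]
  rw [val_add] at h3
  simp only [val_cons, val_sgn, h4, h5] at h3
  omega

/-- the mask is on the lanes `< 6144` -/
noncomputable def sml (M : ℕ) : Bool := Nat.beq (Nat.shiftRight M 6144) 0

theorem sml_sound {M : ℕ} (h : sml M = true) (i : ℕ) (hi : M.testBit i = true) : i < 6144 := by
  have h1 : M >>> (6144 - 0) = 0 := Nat.eq_of_beq_eq_true h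
  exact lt_of_testBit h1 hi

/-- follow the mask `U` and the weights `w` through a program -/
noncomputable def saf (P : Prog) : ℕ → Pl → Bool :=
  Prog.rec (motive := fun _ => ℕ → Pl → Bool)
    (fun U w => le4 U w)
    (fun N _ ih U w => and (le4 U w) (and (N.ok 6144) (seqB (N.app U) fun U' => go (mapNet N w) fun w' => ih U' w')))
    (fun M _ ih U w => and (le4 U w) (and (sml M) (ih U w)))
    (fun M _ ih U w => and (le4 U w) (and (sml M)
      (go (Monster.VecEngine.add w (.cons 0 (.cons M (.sgn 0))) 0) fun w' => ih U w')))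
    (fun _ ih U w => and (le4 U w) (go (Monster.VecEngine.add w (.cons 0 (.sgn U)) 0) fun w' => ih U w'))
    (fun M d _ ih U w => and (le4 U w) (and (Net.ok 6144 (.cons M d .nil))
      (and (Nat.beq (Nat.land M (Nat.xor U (Nat.shiftRight U d))) 0)
      (and (eqP (norm (msk U (mapStage M d w))) (norm (msk U w)))
        (go (addLS w 0 (Nat.lor M (Nat.shiftLeft M d))) fun w' => ih U w'))))) P

theorem le4_of_saf {P : Prog} {U : ℕ} {w : Pl} (h : saf P U w = true) : le4 U w = true := by
  cases P with
  | nil => exact h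
  | perm N P => exact (Bool.and_eq_true_iff.1 h).1
  | neg M P => exact (Bool.and_eq_true_iff.1 h).1
  | dbl M P => exact (Bool.and_eq_true_iff.1 h).1
  | half P => exact (Bool.and_eq_true_iff.1 h).1
  | bfly M d P => exact (Bool.and_eq_true_iff.1 h).1

/-- the vector is supported on `U` and short -/
structure Short (U : ℕ) (w : Pl) (f : ℕ → ℚ) : Prop where
  supp : ind ℚ U f = f
  len : wform ℚ U w f f < 1073741824

theorem Short.bd {U : ℕ} {w : Pl} {f : ℕ → ℚ} (h : Short U w f) (h4 : le4 U w = true) : Bd f := by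
  intro i
  by_cases hi : U.testBit i = true
  · have h1 : (2 : ℚ) ^ (-(val w i)) * (f i * f i) ≤ wform ℚ U w f f :=
      Finset.single_le_sum (f := fun j : Lane U => (2 : ℚ) ^ (-(val w j.1)) * (f j.1 * f j.1))
        (fun j _ => mul_nonneg (by positivity) (mul_self_nonneg _)) (Finset.mem_univ (α := Lane U) ⟨i, hi⟩)
    have h2 : (2 : ℚ) ^ (-4 : ℤ) ≤ (2 : ℚ) ^ (-(val w i)) :=
      zpow_le_zpow_right₀ (by norm_num) (by have := le4_sound h4 i hi; omega)
    have h3 : (2 : ℚ) ^ (-4 : ℤ) * (f i * f i) ≤ (2 : ℚ) ^ (-(val w i)) * (f i * f i) :=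
      mul_le_mul_of_nonneg_right h2 (mul_self_nonneg _)
    have h5 : (2 : ℚ) ^ (-4 : ℤ) = 1 / 16 := by norm_num
    have h6 := h.len
    rw [h5] at h3
    have h7 : f i * f i < 131072 * 131072 := by linarith
    constructor <;> nlinarith
  · have h1 := congrFun h.supp i
    unfold ind at h1
    rw [if_neg hi] at h1
    rw [← h1]
    norm_num

theorem runP_sound (l : ℕ) (P : Prog) {U : ℕ} {w : Pl} (hs : saf P U w = true) {f : ℕ → ℚ}
    (hf : Short U w f) {x : ℕ} (hx : Rep x f) (c : ℕ) (k : ℕ → Bool) (h : runP l P c x k = true) :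
    ∃ y, Rep y (sem ℚ P f) ∧ k y = true := by
  induction P generalizing U w f x c with
  | nil =>
    have h' : seqB x k = true := h
    rw [seqB_eq] at h'
    exact ⟨x, hx, h'⟩
  | perm N P ih =>
    have hs' : and (le4 U w) (and (N.ok 6144)
      (seqB (N.app U) fun U' => go (mapNet N w) fun w' => saf P U' w')) = true := hs
    rw [Bool.and_eq_true, Bool.and_eq_true, seqB_eq] at hs'
    obtain ⟨-, h1, h2⟩ := hs'
    refine ih (go_true h2) (f := lcomp ℚ N.perm f) ⟨?_, ?_⟩ (rep_net l h1 c hx) (Nat.pred c) h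
    · rw [ind_lcomp ℚ h1, hf.supp]
    · rw [wform_norm, wform_lcomp ℚ h1]
      exact hf.len
  | neg M P ih =>
    have hs' : and (le4 U w) (and (sml M) (saf P U w)) = true := hs
    rw [Bool.and_eq_true, Bool.and_eq_true] at hs'
    obtain ⟨h0, h1, h2⟩ := hs'
    refine ih h2 (f := lneg ℚ M f) ⟨?_, ?_⟩
      (rep_neg (sp_spr l c (sml_sound h1)) (sml_sound h1) hx (hf.bd h0)) (Nat.succ c) h
    · rw [ind_lneg, hf.supp]
    · rw [wform_lneg]
      exact hf.len
  | dbl M P ih =>
    have hs' : and (le4 U w) (and (sml M)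
      (go (Monster.VecEngine.add w (.cons 0 (.cons M (.sgn 0))) 0) fun w' => saf P U w')) = true := hs
    rw [Bool.and_eq_true, Bool.and_eq_true] at hs'
    obtain ⟨-, h1, h2⟩ := hs'
    have h3 := go_true h2
    have h4 : Short U (norm (Monster.VecEngine.add w (.cons 0 (.cons M (.sgn 0))) 0)) (ldbl ℚ M f) := by
      constructor
      · rw [ind_ldbl, hf.supp]
      · rw [wform_norm, wform_ldbl ℚ two_ne_zero]
        exact hf.len
    exact ih h3 h4 (rep_dbl (sp_spr l c (sml_sound h1)) (sml_sound h1) hx (h4.bd (le4_of_saf h3)))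
      (Nat.succ c) h
  | half P ih =>
    have hs' : and (le4 U w) (go (Monster.VecEngine.add w (.cons 0 (.sgn U)) 0) fun w' => saf P U w') = true := hs
    rw [Bool.and_eq_true] at hs'
    have h' : (Bool.rec false (runP l P c (halfF x) k) (Nat.beq (Nat.land x one) 0) : Bool) = true := h
    cases h1 : Nat.beq (Nat.land x one) 0 with
    | false => rw [h1] at h'; exact absurd h' (by simp)
    | true =>
      rw [h1] at h'
      refine ih (go_true hs'.2) (f := (2 : ℚ)⁻¹ • f) ⟨?_, ?_⟩ (rep_half hx (Nat.eq_of_beq_eq_true h1)) c h'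
      · funext i
        have h2 := congrFun hf.supp i
        unfold ind at h2 ⊢
        rw [Pi.smul_apply, ← h2]
        split_ifs <;> simp
      · rw [wform_norm, wform_half ℚ two_ne_zero]
        exact hf.len
  | bfly M d P ih =>
    have hs' : and (le4 U w) (and (Net.ok 6144 (.cons M d .nil))
      (and (Nat.beq (Nat.land M (Nat.xor U (Nat.shiftRight U d))) 0)
      (and (eqP (norm (msk U (mapStage M d w))) (norm (msk U w)))
        (go (addLS w 0 (Nat.lor M (Nat.shiftLeft M d))) fun w' => saf P U w')))) = true := hs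
    rw [Bool.and_eq_true, Bool.and_eq_true, Bool.and_eq_true, Bool.and_eq_true] at hs'
    obtain ⟨-, h1, h2, h3, h4⟩ := hs'
    obtain ⟨hM, hL, -⟩ := Net.ok_cons h1
    have h5 := go_true h4
    have hw : ∀ i, U.testBit i = true → val w (tau M d i) = val w i := by
      intro i hi
      have h6 : val (norm (msk U (mapStage M d w))) i = val (norm (msk U w)) i := by rw [eq_of_eqP h3]
      rw [val_norm, val_norm, val_msk, val_msk, if_pos hi, if_pos hi, val_mapStage hM] at h6
      exact h6
    have h6 : Short U (norm (addLS w 0 (Nat.lor M (Nat.shiftLeft M d)))) (lbfly ℚ M d f) := by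
      constructor
      · rw [ind_lbfly ℚ h2, hf.supp]
      · rw [wform_norm, wform_lbfly ℚ two_ne_zero hM h2 w hw]
        exact hf.len
    exact ih h5 h6 (rep_bfly (sp_spr l c fun j hj => by have := lt_of_testBit hL hj; omega) hM
      (fun j hj => lt_of_testBit hL hj) hx (h6.bd (le4_of_saf h5))) (Nat.succ c) h

end Cfsg.Agent.BMx.Fast
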