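import Cfsg.Agent.H904.SylOne
import Mathlib.GroupTheory.Sylow

/-!
# `p`-central elements (helper94, for S5527)

* `exists_sylow_le` : a subgroup whose order is divisible by the full power of `p` contains a Sylow subgroup;
* `conj_mem` : if `Q` is a `p`-group with `C(Q) ≤ Z`, every `p`-central element is conjugate into `Z`;
* `card_norm` : `|N(⟨x⟩)| = |C(x)| e`, `e ∣ p - 1`.
-/

set_option autoImplicit false

namespace Cfsg.Agent.BMx.LocAbs

open Subgroup

variable {G : Type*} [Group G]

theorem cent_zp (x : G) : centralizer ((zpowers x : Subgroup G) : Set G) = centralizer ({x} : Set G) := by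
  ext g
  rw [mem_centralizer_iff, mem_centralizer_singleton_iff]
  constructor
  · intro h
    exact (h x (mem_zpowers x)).symm
  · rintro h _ ⟨k, rfl⟩
    exact ((show Commute g x from h).zpow_right k).eq.symm

theorem card_cent_conj {x y : G} (h : IsConj x y) :
    Nat.card (centralizer ({x} : Set G)) = Nat.card (centralizer ({y} : Set G)) := by
  obtain ⟨g, rfl⟩ := isConj_iff.1 h
  refine Nat.card_congr
    { toFun := fun c => ⟨g * c * g⁻¹, ?_⟩
      invFun := fun c => ⟨g⁻¹ * c * g, ?_⟩
      left_inv := fun c => Subtype.ext (by simp only; group)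
      right_inv := fun c => Subtype.ext (by simp only; group) }
  · have h1 := mem_centralizer_singleton_iff.1 c.2
    rw [mem_centralizer_singleton_iff]
    calc g * c * g⁻¹ * (g * x * g⁻¹) = g * (c * x) * g⁻¹ := by group
      _ = g * (x * c) * g⁻¹ := by rw [h1]
      _ = _ := by group
  · have h1 := mem_centralizer_singleton_iff.1 c.2
    rw [mem_centralizer_singleton_iff]
    calc g⁻¹ * c * g * x = g⁻¹ * (c * (g * x * g⁻¹)) * g := by group
      _ = g⁻¹ * ((g * x * g⁻¹) * c) * g := by rw [h1]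
      _ = _ := by group

theorem card_cent_map {H : Type*} [Group H] (e : G ≃* H) (x : G) :
    Nat.card (centralizer ({e x} : Set H)) = Nat.card (centralizer ({x} : Set G)) := by
  refine Nat.card_congr
    { toFun := fun c => ⟨e.symm c, ?_⟩
      invFun := fun c => ⟨e c, ?_⟩
      left_inv := fun c => Subtype.ext (e.apply_symm_apply _)
      right_inv := fun c => Subtype.ext (e.symm_apply_apply _) }
  · have h1 := mem_centralizer_singleton_iff.1 c.2
    rw [mem_centralizer_singleton_iff]
    apply e.injective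
    rw [map_mul, map_mul, e.apply_symm_apply, h1]
  · have h1 := mem_centralizer_singleton_iff.1 c.2
    rw [mem_centralizer_singleton_iff, ← map_mul, h1, map_mul]

variable [Finite G]

theorem zp_eq {x y : G} (h : x ∈ zpowers y) (ho : orderOf x = orderOf y) : zpowers x = zpowers y :=
  eq_of_le_of_card_ge (zpowers_le.2 h) (by rw [Nat.card_zpowers, Nat.card_zpowers, ho])

theorem exists_sylow_le {p n : ℕ} [hp : Fact p.Prime] (hG : ¬ p ^ (n + 1) ∣ Nat.card G) {H : Subgroup G}
    (h : p ^ n ∣ Nat.card H) : ∃ T : Sylow p G, (T : Subgroup G) ≤ H ∧ Nat.card T = p ^ n := by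
  obtain ⟨K, hK⟩ := Sylow.exists_subgroup_card_pow_prime p h
  have h1 : Nat.card (K.map H.subtype) = p ^ n := by rw [card_map_of_injective H.subtype_injective, hK]
  have h2 : ¬ p ∣ (K.map H.subtype).index := by
    intro h3
    apply hG
    rw [← (K.map H.subtype).card_mul_index, h1, pow_succ]
    exact Nat.mul_dvd_mul_left _ h3
  exact ⟨(IsPGroup.of_card h1).toSylow h2, map_subtype_le K, h1⟩

/-- **`p`-central elements** -/
theorem conj_mem {p n : ℕ} [hp : Fact p.Prime] (hG : ¬ p ^ (n + 1) ∣ Nat.card G) {Q Z : Subgroup G} (hQ : IsPGroup p Q)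
    (hZ : ∀ c : G, (∀ u ∈ Q, u * c = c * u) → c ∈ Z) {x : G} (hx : p ^ n ∣ Nat.card (centralizer ({x} : Set G))) :
    ∃ g : G, g * x * g⁻¹ ∈ Z := by
  obtain ⟨T, hT, -⟩ := exists_sylow_le hG hx
  obtain ⟨S, hS⟩ := hQ.exists_le_sylow
  obtain ⟨g, hg⟩ := MulAction.exists_smul_eq G T S
  refine ⟨g, hZ _ fun u hu => ?_⟩
  have h1 : u ∈ ((g • T : Sylow p G) : Subgroup G) := by rw [hg]; exact hS hu
  rw [Sylow.coe_subgroup_smul, Subgroup.mem_pointwise_smul_iff_inv_smul_mem] at h1
  have h2 := mem_centralizer_singleton_iff.1 (hT h1)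
  have h3 : (MulAut.conj g)⁻¹ • u = g⁻¹ * u * g := by
    rw [MulAut.smul_def, MulAut.conj_inv_apply]
  rw [h3] at h2
  calc u * (g * x * g⁻¹) = g * (g⁻¹ * u * g * x) * g⁻¹ := by group
    _ = g * (x * (g⁻¹ * u * g)) * g⁻¹ := by rw [h2]
    _ = _ := by group

theorem card_norm {p : ℕ} (hp : p.Prime) {x : G} (hx : orderOf x = p) :
    ∃ e, e ∣ p - 1 ∧ Nat.card (normalizer ((zpowers x : Subgroup G) : Set G)) =
      Nat.card (centralizer ({x} : Set G)) * e := by
  have := Fact.mk hp
  obtain ⟨e, he, h⟩ := H904.SylOne.card_nc (P := zpowers x) (p := p) (by rw [Nat.card_zpowers, hx])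
  exact ⟨e, he, by rw [h, cent_zp]⟩

theorem mem_norm {x g : G} (h : g * x * g⁻¹ ∈ zpowers x) : g ∈ normalizer ((zpowers x : Subgroup G) : Set G) := by
  refine mem_normalizer_fintype ?_
  rintro _ ⟨k, rfl⟩
  show g * x ^ k * g⁻¹ ∈ zpowers x
  rw [← conj_zpow]
  exact zpow_mem h k

/-- a real element of order 3 -/
theorem card_norm_three {x : G} (hx : orderOf x = 3) (h : IsConj x x⁻¹) :
    Nat.card (normalizer ((zpowers x : Subgroup G) : Set G)) = Nat.card (centralizer ({x} : Set G)) * 2 := by
  obtain ⟨e, he, h1⟩ := card_norm Nat.prime_three hx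
  rcases (Nat.dvd_prime Nat.prime_two).1 he with rfl | rfl
  · exfalso
    obtain ⟨g, hg⟩ := isConj_iff.1 h
    rw [mul_one, ← cent_zp] at h1
    have h2 := eq_of_le_of_card_ge (Subgroup.centralizer_le_normalizer ((zpowers x : Subgroup G) : Set G)) h1.le
    have h3 : g ∈ normalizer ((zpowers x : Subgroup G) : Set G) := mem_norm (by rw [hg]; exact inv_mem (mem_zpowers x))
    rw [← h2, cent_zp, mem_centralizer_singleton_iff] at h3
    rw [h3, mul_inv_cancel_right] at hg
    have h4 : x ^ 2 = 1 := by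
      rw [pow_two]
      nth_rewrite 1 [hg]
      exact inv_mul_cancel x
    have h5 := orderOf_dvd_of_pow_eq_one h4
    rw [hx] at h5
    norm_num at h5
  · exact h1

end Cfsg.Agent.BMx.LocAbs
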