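import Cfsg.Agent.BMx.FrBaer
import Cfsg.Agent.BMx.Glue
import Cfsg.Agent.BMx.Loc3

/-!
# The frame at the class 3B of the Baby Monster (helper88, for S5527)

`frame3 : Frame1 (g wy1) gen3 M3`, `gen3 i = g (wgen3 i)`, `card3`.
-/

set_option autoImplicit false
set_option maxRecDepth 100000
set_option linter.unusedSectionVars false

namespace Cfsg.Agent.BMx.Fr3

open Subgroup Matrix Cfsg.Agent.BMx.Baer Cfsg.Agent.H863.U33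
open Cfsg.Agent.H819.U33 (g g_append)
open Cfsg.Agent.BabyM.Conc (Ltr)

/-- the eighteen matrices -/
def M3 : Fin 18 → Matrix (Fin 9) (Fin 9) (ZMod 3) := ![
  !![1, 0, 0, 0, 0, 0, 0, 0, 0; 0, 1, 0, 0, 0, 0, 0, 0, 2; 0, 0, 1, 0, 0, 0, 0, 0, 0; 0, 0, 0, 1, 0, 0, 0, 0, 0; 0, 0, 0, 0, 1, 0, 0, 0, 0; 0, 0, 0, 0, 0, 1, 0, 0, 0; 0, 0, 0, 0, 0, 0, 1, 0, 0; 0, 0, 0, 0, 0, 0, 0, 1, 0; 0, 0, 0, 0, 0, 0, 0, 0, 1],
  !![1, 0, 0, 0, 0, 0, 0, 0, 1; 0, 1, 0, 0, 0, 0, 0, 0, 0; 0, 0, 1, 0, 0, 0, 0, 0, 0; 0, 0, 0, 1, 0, 0, 0, 0, 0; 0, 0, 0, 0, 1, 0, 0, 0, 0; 0, 0, 0, 0, 0, 1, 0, 0, 0; 0, 0, 0, 0, 0, 0, 1, 0, 0; 0, 0, 0, 0, 0, 0, 0, 1, 0; 0, 0, 0, 0, 0, 0, 0, 0, 1],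
  !![1, 0, 0, 0, 0, 0, 0, 0, 0; 0, 1, 0, 0, 0, 0, 0, 0, 0; 0, 0, 1, 0, 0, 0, 0, 0, 0; 0, 0, 0, 1, 0, 0, 0, 0, 1; 0, 0, 0, 0, 1, 0, 0, 0, 0; 0, 0, 0, 0, 0, 1, 0, 0, 0; 0, 0, 0, 0, 0, 0, 1, 0, 0; 0, 0, 0, 0, 0, 0, 0, 1, 0; 0, 0, 0, 0, 0, 0, 0, 0, 1],
  !![1, 0, 0, 0, 0, 0, 0, 0, 0; 0, 1, 0, 0, 0, 0, 0, 0, 0; 0, 0, 1, 0, 0, 0, 0, 0, 2; 0, 0, 0, 1, 0, 0, 0, 0, 0; 0, 0, 0, 0, 1, 0, 0, 0, 0; 0, 0, 0, 0, 0, 1, 0, 0, 0; 0, 0, 0, 0, 0, 0, 1, 0, 0; 0, 0, 0, 0, 0, 0, 0, 1, 0; 0, 0, 0, 0, 0, 0, 0, 0, 1],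
  !![1, 0, 0, 0, 0, 0, 0, 0, 0; 0, 1, 0, 0, 0, 0, 0, 0, 0; 0, 0, 1, 0, 0, 0, 0, 0, 0; 0, 0, 0, 1, 0, 0, 0, 0, 0; 0, 0, 0, 0, 1, 0, 0, 0, 0; 0, 0, 0, 0, 0, 1, 0, 0, 2; 0, 0, 0, 0, 0, 0, 1, 0, 0; 0, 0, 0, 0, 0, 0, 0, 1, 0; 0, 0, 0, 0, 0, 0, 0, 0, 1],
  !![1, 0, 0, 0, 0, 0, 0, 0, 0; 0, 1, 0, 0, 0, 0, 0, 0, 0; 0, 0, 1, 0, 0, 0, 0, 0, 0; 0, 0, 0, 1, 0, 0, 0, 0, 0; 0, 0, 0, 0, 1, 0, 0, 0, 1; 0, 0, 0, 0, 0, 1, 0, 0, 0; 0, 0, 0, 0, 0, 0, 1, 0, 0; 0, 0, 0, 0, 0, 0, 0, 1, 0; 0, 0, 0, 0, 0, 0, 0, 0, 1],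
  !![1, 0, 0, 0, 0, 0, 0, 0, 0; 0, 1, 0, 0, 0, 0, 0, 0, 0; 0, 0, 1, 0, 0, 0, 0, 0, 0; 0, 0, 0, 1, 0, 0, 0, 0, 0; 0, 0, 0, 0, 1, 0, 0, 0, 0; 0, 0, 0, 0, 0, 1, 0, 0, 0; 0, 0, 0, 0, 0, 0, 1, 0, 0; 0, 0, 0, 0, 0, 0, 0, 1, 1; 0, 0, 0, 0, 0, 0, 0, 0, 1],
  !![1, 0, 0, 0, 0, 0, 0, 0, 0; 0, 1, 0, 0, 0, 0, 0, 0, 0; 0, 0, 1, 0, 0, 0, 0, 0, 0; 0, 0, 0, 1, 0, 0, 0, 0, 0; 0, 0, 0, 0, 1, 0, 0, 0, 0; 0, 0, 0, 0, 0, 1, 0, 0, 0; 0, 0, 0, 0, 0, 0, 1, 0, 2; 0, 0, 0, 0, 0, 0, 0, 1, 0; 0, 0, 0, 0, 0, 0, 0, 0, 1],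
  !![2, 0, 0, 0, 0, 0, 0, 0, 0; 0, 2, 0, 0, 0, 0, 0, 0, 0; 0, 0, 2, 0, 0, 0, 0, 0, 0; 0, 0, 0, 2, 0, 0, 0, 0, 0; 0, 0, 0, 0, 2, 0, 0, 0, 0; 0, 0, 0, 0, 0, 2, 0, 0, 0; 0, 0, 0, 0, 0, 0, 2, 0, 0; 0, 0, 0, 0, 0, 0, 0, 2, 0; 0, 0, 0, 0, 0, 0, 0, 0, 1],
  !![1, 0, 0, 0, 0, 0, 0, 0, 0; 0, 1, 0, 0, 0, 0, 0, 0, 0; 0, 0, 1, 0, 0, 0, 0, 0, 0; 0, 0, 0, 1, 0, 0, 0, 0, 0; 0, 0, 0, 0, 2, 0, 0, 0, 0; 0, 0, 0, 0, 0, 2, 0, 0, 0; 0, 0, 0, 0, 0, 0, 2, 0, 0; 0, 0, 0, 0, 0, 0, 0, 2, 0; 0, 0, 0, 0, 0, 0, 0, 0, 1],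
  !![0, 0, 0, 0, 1, 0, 0, 0, 0; 0, 0, 0, 0, 0, 1, 0, 0, 0; 0, 0, 0, 0, 0, 0, 1, 0, 0; 0, 0, 0, 0, 0, 0, 0, 1, 0; 1, 0, 0, 0, 0, 0, 0, 0, 0; 0, 1, 0, 0, 0, 0, 0, 0, 0; 0, 0, 1, 0, 0, 0, 0, 0, 0; 0, 0, 0, 1, 0, 0, 0, 0, 0; 0, 0, 0, 0, 0, 0, 0, 0, 1],
  !![2, 0, 0, 0, 0, 0, 0, 0, 0; 0, 2, 0, 0, 0, 0, 0, 0, 0; 0, 0, 1, 0, 0, 0, 0, 0, 0; 0, 0, 0, 1, 0, 0, 0, 0, 0; 0, 0, 0, 0, 2, 0, 0, 0, 0; 0, 0, 0, 0, 0, 2, 0, 0, 0; 0, 0, 0, 0, 0, 0, 1, 0, 0; 0, 0, 0, 0, 0, 0, 0, 1, 0; 0, 0, 0, 0, 0, 0, 0, 0, 1],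
  !![0, 0, 0, 2, 0, 0, 0, 0, 0; 0, 0, 2, 0, 0, 0, 0, 0, 0; 0, 2, 0, 0, 0, 0, 0, 0, 0; 2, 0, 0, 0, 0, 0, 0, 0, 0; 0, 0, 0, 0, 0, 0, 0, 1, 0; 0, 0, 0, 0, 0, 0, 1, 0, 0; 0, 0, 0, 0, 0, 1, 0, 0, 0; 0, 0, 0, 0, 1, 0, 0, 0, 0; 0, 0, 0, 0, 0, 0, 0, 0, 1],
  !![0, 0, 1, 2, 0, 0, 0, 0, 0; 0, 0, 1, 1, 0, 0, 0, 0, 0; 2, 2, 0, 0, 0, 0, 0, 0, 0; 1, 2, 0, 0, 0, 0, 0, 0, 0; 0, 0, 0, 0, 0, 0, 1, 2, 0; 0, 0, 0, 0, 0, 0, 1, 1, 0; 0, 0, 0, 0, 2, 2, 0, 0, 0; 0, 0, 0, 0, 1, 2, 0, 0, 0; 0, 0, 0, 0, 0, 0, 0, 0, 1],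
  !![0, 1, 0, 0, 0, 0, 0, 0, 0; 2, 0, 0, 0, 0, 0, 0, 0, 0; 0, 0, 0, 2, 0, 0, 0, 0, 0; 0, 0, 1, 0, 0, 0, 0, 0, 0; 0, 0, 0, 0, 0, 1, 0, 0, 0; 0, 0, 0, 0, 2, 0, 0, 0, 0; 0, 0, 0, 0, 0, 0, 0, 2, 0; 0, 0, 0, 0, 0, 0, 1, 0, 0; 0, 0, 0, 0, 0, 0, 0, 0, 1],
  !![0, 0, 1, 0, 0, 0, 0, 0, 0; 0, 0, 1, 2, 0, 0, 0, 0, 0; 0, 2, 0, 0, 0, 0, 0, 0, 0; 2, 1, 0, 0, 0, 0, 0, 0, 0; 0, 0, 0, 0, 1, 1, 0, 0, 0; 0, 0, 0, 0, 2, 0, 0, 0, 0; 0, 0, 0, 0, 0, 0, 1, 1, 0; 0, 0, 0, 0, 0, 0, 0, 1, 0; 0, 0, 0, 0, 0, 0, 0, 0, 1],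
  !![1, 0, 0, 0, 2, 1, 0, 0, 0; 1, 2, 0, 0, 1, 0, 0, 0, 0; 0, 0, 2, 1, 0, 0, 0, 1, 0; 0, 0, 0, 1, 0, 0, 1, 2, 0; 0, 1, 0, 0, 2, 2, 0, 0, 0; 1, 1, 0, 0, 0, 1, 0, 0, 0; 0, 0, 2, 2, 0, 0, 2, 0, 0; 0, 0, 2, 0, 0, 0, 1, 1, 0; 0, 0, 0, 0, 0, 0, 0, 0, 1],
  !![1, 1, 1, 1, 0, 0, 0, 0, 0; 0, 1, 1, 0, 0, 0, 0, 0, 0; 1, 1, 2, 2, 0, 0, 0, 0, 0; 0, 2, 1, 0, 0, 0, 0, 0, 0; 0, 0, 0, 0, 1, 1, 2, 2, 0; 0, 0, 0, 0, 0, 1, 2, 0, 0; 0, 0, 0, 0, 2, 2, 2, 2, 0; 0, 0, 0, 0, 0, 1, 1, 0, 0; 0, 0, 0, 0, 0, 0, 0, 0, 2]]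

/-- the numerical data -/
def D3 : Num 3 9 where
  F := !![0, 1, 0, 0, 0, 0, 0, 0, 0; 2, 0, 0, 0, 0, 0, 0, 0, 0; 0, 0, 0, 2, 0, 0, 0, 0, 0; 0, 0, 1, 0, 0, 0, 0, 0, 0; 0, 0, 0, 0, 0, 1, 0, 0, 0; 0, 0, 0, 0, 2, 0, 0, 0, 0; 0, 0, 0, 0, 0, 0, 0, 2, 0; 0, 0, 0, 0, 0, 0, 1, 0, 0; 0, 0, 0, 0, 0, 0, 0, 0, 0]
  c := ![0, 0, 2, 0, 0, 0, 2, 0, 0]
  h := 2
  l := 8
  R := !![0, 2, 0, 0, 0, 0, 0, 0, 0; 1, 0, 0, 0, 0, 0, 0, 0, 0; 0, 0, 0, 1, 0, 0, 0, 0, 0; 0, 0, 2, 0, 0, 0, 0, 0, 0; 0, 0, 0, 0, 0, 2, 0, 0, 0; 0, 0, 0, 0, 1, 0, 0, 0, 0; 0, 0, 0, 0, 0, 0, 0, 1, 0; 0, 0, 0, 0, 0, 0, 2, 0, 0; 0, 0, 0, 0, 0, 0, 0, 0, 0]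

theorem fact3 : Fact (1 < 3) := ⟨by norm_num⟩

attribute [local instance] fact3

theorem D3_ok : D3.Ok := by
  unfold Num.Ok
  decide +kernel

section abs

variable {G : Type} [Group G] {y : G} {e : Fin 8 → G} {t : G} {w : Fin 6 → G} {k : Fin 2 → G} {n : G}

/-- the generators of the extraspecial group -/
def aa (y : G) (e : Fin 8 → G) : Fin 9 → G := Fin.snoc (α := fun _ => G) e y

theorem aa_l : aa y e D3.l = y := Fin.snoc_last (α := fun _ => G) _ _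

theorem aa_cast (i : Fin 8) : aa y e i.castSucc = e i := Fin.snoc_castSucc (α := fun _ => G) _ _ _

theorem rel (h : TB y e t w k n) : Rel D3 (aa y e) where
  prime := Nat.prime_three
  ok := D3_ok
  pow i := by
    refine Fin.lastCases ?_ (fun i => ?_) i
    · exact (congrArg (· ^ 3) (aa_l (y := y) (e := e))).trans h.y3
    · rw [aa_cast]; exact h.e3 i
  ne := by rw [aa_l]; exact h.y1
  cen i := by
    rw [aa_l]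
    refine Fin.lastCases ?_ (fun i => ?_) i
    · rw [show aa y e (Fin.last 8) = y from aa_l]
    · rw [aa_cast]; exact h.ey i
  com i j hij := by
    have h1 : ∀ i j : Fin 8, D3.F i.castSucc j.castSucc = fm i j := by decide +kernel
    have h2 : ∀ j : Fin 9, D3.F (Fin.last 8) j = 0 := by decide +kernel
    rw [aa_l]
    induction j using Fin.lastCases with
    | last => exact absurd hij (not_lt.2 (Fin.le_last i))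
    | cast j =>
      induction i using Fin.lastCases with
      | last =>
        rw [h2, pw_zero, one_mul, aa_cast]
        exact (aa_l (y := y) (e := e)).symm ▸ (h.ey j).symm
      | cast i => rw [h1, aa_cast, aa_cast]; exact h.ee i j

theorem nf_eq (u : Fin 9 → ZMod 3) : Baer.nf (aa y e) u = H863.U33.nf y e (fun i => u i.castSucc) (u 8) := by
  unfold Baer.nf H863.U33.nf
  simp only [List.ofFn_succ, List.ofFn_zero, List.prod_cons, List.prod_nil, mul_one, mul_assoc]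
  rfl

theorem nf_y (h : TB y e t w k n) (v : Fin 8 → ZMod 3) (b c : ZMod 3) :
    H863.U33.nf y e v b * pw y c = H863.U33.nf y e v (b + c) := by
  have h1 := pw_add h.y3 b c
  unfold H863.U33.nf
  rw [mul_assoc]
  exact congrArg _ h1.symm

theorem bf_eq (h : TB y e t w k n) (u : Fin 9 → ZMod 3) :
    bf D3 (aa y e) u = H863.U33.nf y e (fun i => u i.castSucc) (u 8 + D3.q u) := by
  rw [bf, nf_eq, aa_l, nf_y h]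

/-- the check for an outer generator -/
def Chk (X : Matrix (Fin 9) (Fin 9) (ZMod 3)) (μ : ZMod 3) (A : Fin 8 → Fin 8 → ZMod 3) (C : Fin 8 → ZMod 3) : Prop :=
  D3.Sim X μ ∧ D3.q (X 8) = 0 ∧ ∀ j : Fin 8, (∀ i : Fin 8, X j.castSucc i.castSucc = A j i) ∧
    X j.castSucc 8 + D3.q (X j.castSucc) = C j + μ * D3.c j.castSucc

theorem act_of_chk (h : TB y e t w k n) {s : G} {X : Matrix (Fin 9) (Fin 9) (ZMod 3)} {μ : ZMod 3}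
    {A : Fin 8 → Fin 8 → ZMod 3} {C : Fin 8 → ZMod 3} (hc : Chk X μ A C) (hy : s⁻¹ * y * s = pw y μ)
    (he : ∀ j, s⁻¹ * e j * s = H863.U33.nf y e (A j) (C j)) : Act D3 (aa y e) s X := by
  refine (rel h).act_of hc.1 fun i => ?_
  induction i using Fin.lastCases with
  | last =>
    have e1 : X (Fin.last 8) = Pi.single D3.l μ := by
      funext j
      rw [Pi.single_apply]
      exact hc.1.1 j
    rw [e1, show Fin.last 8 = D3.l from rfl, (rel h).bf_l, (rel h).bf_l, aa_l, pw_one, hy]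
  | cast j =>
    obtain ⟨h1, h2⟩ := hc.2.2 j
    rw [bf_single, aa_l, aa_cast, bf_eq h, h2, funext h1, ← nf_y h, ← he, ← pw_pw h.y3, ← hy, ← conj_pw]
    group

/-- the generators -/
def gn (y : G) (e : Fin 8 → G) (t : G) (w : Fin 6 → G) (k : Fin 2 → G) (n : G) : Fin 18 → G :=
  ![e 0, e 1, e 2 * y * y, e 3, e 4, e 5, e 6 * y * y, e 7, t, w 0, w 1, w 2, w 3, w 4, w 5, k 0, k 1, n]

theorem inner_chk : ∀ (j : Fin 8) (a b : Fin 9), M3 (j.castLE (by norm_num)) a b =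
    (if a = b then 1 else 0) + if b = D3.l then (D3.Bm *ᵥ Pi.single j.castSucc 1) a else 0 := by
  have h : ∀ (j : Fin 8) (b a : Fin 9), M3 (j.castLE (by norm_num)) a b =
      (if a = b then (1 : ZMod 3) else 0) + if b = 8 then D3.Bm a j.castSucc else 0 := by decide +kernel
  intro j a b
  rw [h, mulVec, dotProduct_single, mul_one]
  rfl

theorem gn_inner (j : Fin 8) : gn y e t w k n (j.castLE (by norm_num)) = bf D3 (aa y e) (Pi.single j.castSucc 1) := by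
  rw [bf_single, aa_l, aa_cast]
  have h0 : ∀ x : G, x = x * pw y (0 : ZMod 3) := fun x => by rw [pw_zero, mul_one]
  have h2 : ∀ x : G, x * y * y = x * pw y (2 : ZMod 3) := fun x => by
    rw [show pw y (2 : ZMod 3) = y ^ 2 from rfl, pow_two, mul_assoc]
  fin_cases j
  exacts [h0 _, h0 _, h2 _, h0 _, h0 _, h0 _, h2 _, h0 _]

theorem chk_t : Chk (M3 8) 1 Mt Ct := by unfold Chk Num.Sim; decide +kernel

theorem chk_w : ∀ a : Fin 6, Chk (M3 ⟨9 + a, by omega⟩) 1 (Mw a) (Cw a) := by unfold Chk Num.Sim; decide +kernel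

theorem chk_k : ∀ c : Fin 2, Chk (M3 ⟨15 + c, by omega⟩) 1 (Mk c) (Ck c) := by unfold Chk Num.Sim; decide +kernel

theorem chk_n : Chk (M3 17) 2 Mn Cn := by unfold Chk Num.Sim; decide +kernel

theorem act_gn (h : TB y e t w k n) (i : Fin 18) : Act D3 (aa y e) (gn y e t w k n i) (M3 i) := by
  have hc : ∀ s : G, s * y = y * s → s⁻¹ * y * s = pw y (1 : ZMod 3) := fun s hs => by
    rw [pw_one, mul_assoc, ← hs, inv_mul_cancel_left]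
  have h1 : ∀ j : Fin 8, Act D3 (aa y e) (gn y e t w k n (j.castLE (by norm_num))) (M3 (j.castLE (by norm_num))) := by
    intro j
    rw [gn_inner]
    exact (rel h).act_bf (inner_chk j)
  have h2 := fun a => act_of_chk h (chk_w a) (hc _ (h.wy a)) (h.we a)
  have h3 := fun c => act_of_chk h (chk_k c) (hc _ (h.ky c)) (h.ke c)
  have h4 : n⁻¹ * y * n = pw y (2 : ZMod 3) := by
    rw [h.ny, show pw y (2 : ZMod 3) = y ^ 2 from rfl, inv_eq_iff_mul_eq_one, ← pow_succ', h.y3]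
  fin_cases i
  exacts [h1 0, h1 1, h1 2, h1 3, h1 4, h1 5, h1 6, h1 7, act_of_chk h chk_t (hc _ h.ty) h.te, h2 0, h2 1, h2 2, h2 3,
    h2 4, h2 5, h3 0, h3 1, act_of_chk h chk_n h4 h.ne]

theorem M3_last : ∀ i : Fin 18, ∀ j, M3 i D3.l j = if j = D3.l then M3 i 8 8 else 0 := by decide +kernel

theorem y_mem (h : TB y e t w k n) : y ∈ closure (Set.range (gn y e t w k n)) := by
  have h0 : e 0 ∈ closure (Set.range (gn y e t w k n)) := subset_closure ⟨0, rfl⟩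
  have h1 : e 1 ∈ closure (Set.range (gn y e t w k n)) := subset_closure ⟨1, rfl⟩
  have h2 := h.ee 0 1
  rw [show (fm 0 1).val = 1 from rfl, pow_one] at h2
  have h3 : y = e 0 * e 1 * (e 0)⁻¹ * (e 1)⁻¹ := by rw [h2]; group
  have h4 := mul_mem (mul_mem (mul_mem h0 h1) (inv_mem h0)) (inv_mem h1)
  rwa [← h3] at h4

theorem KK_le (h : TB y e t w k n) : KK y e t w k ≤ closure (Set.range (gn y e t w k n)) := by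
  have hy := y_mem h
  have hg : ∀ i, gn y e t w k n i ∈ closure (Set.range (gn y e t w k n)) := fun i => subset_closure ⟨i, rfl⟩
  have h2 : ∀ x : G, x * y * y ∈ closure (Set.range (gn y e t w k n)) → x ∈ closure (Set.range (gn y e t w k n)) :=
    fun x hx => by
      have := mul_mem (mul_mem hx (inv_mem hy)) (inv_mem hy)
      rwa [mul_inv_cancel_right, mul_inv_cancel_right] at this
  rw [KK, closure_le]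
  rintro x ((((rfl | ⟨j, rfl⟩) | rfl) | ⟨a, rfl⟩) | ⟨c, rfl⟩)
  · exact hy
  · fin_cases j
    exacts [hg 0, hg 1, h2 _ (hg 2), hg 3, hg 4, hg 5, h2 _ (hg 6), hg 7]
  · exact hg 8
  · fin_cases a
    exacts [hg 9, hg 10, hg 11, hg 12, hg 13, hg 14]
  · fin_cases c
    exacts [hg 15, hg 16]

theorem norm_cases [Finite G] (h : TB y e t w k n) {s : G} (hs : s ∈ normalizer ((zpowers y : Subgroup G) : Set G)) :
    s⁻¹ * y * s = y ∨ s⁻¹ * y * s = y⁻¹ := by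
  have h1 : s⁻¹ * y * s⁻¹⁻¹ ∈ zpowers y := (mem_normalizer_iff.1 (inv_mem hs) y).1 (mem_zpowers y)
  rw [inv_inv] at h1
  obtain ⟨i, hi⟩ := mem_powers_iff_mem_zpowers.2 h1
  have hi' : y ^ (i % 3) = s⁻¹ * y * s := by rw [← pow_eq_pow_mod i h.y3]; exact hi
  have h3 : i % 3 = 0 ∨ i % 3 = 1 ∨ i % 3 = 2 := by omega
  rcases h3 with h3 | h3 | h3 <;> rw [h3] at hi'
  · exfalso
    apply h.y1
    calc y = s * (s⁻¹ * y * s) * s⁻¹ := by group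
      _ = 1 := by rw [← hi']; simp
  · left; rw [← hi', pow_one]
  · right; rw [← hi', eq_inv_iff_mul_eq_one, ← pow_succ, h.y3]

theorem frame_abs [Finite G] (h : TB y e t w k n) (hc : Nat.card (centralizer ({y} : Set G)) ≤ 65303470080) :
    Frame1 y (gn y e t w k n) M3 := by
  have hC := (H604.U33.StIm.stC' H604.RB.ThreeB.stNF H604.RB.ThreeB.stO h hc).1
  have hN : normalizer ((zpowers y : Subgroup G) : Set G) ≤ closure (Set.range (gn y e t w k n)) := by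
    intro s hs
    have key : ∀ x : G, x⁻¹ * y * x = y → x ∈ closure (Set.range (gn y e t w k n)) := fun x hx => by
      apply KK_le h
      rw [← hC, mem_centralizer_singleton_iff]
      calc x * y = x * (x⁻¹ * y * x) := by rw [hx]
        _ = y * x := by group
    rcases norm_cases h hs with h1 | h1
    · exact key s h1
    · have h2 := key (s * n) (by
        calc _ = n⁻¹ * (s⁻¹ * y * s) * n := by group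
          _ = (n⁻¹ * y * n)⁻¹ := by rw [h1]; group
          _ = y := by rw [h.ny, inv_inv])
      have h3 : n ∈ closure (Set.range (gn y e t w k n)) := subset_closure ⟨17, rfl⟩
      have h4 := mul_mem h2 (inv_mem h3)
      rwa [mul_inv_cancel_right] at h4
  obtain ⟨ρ, hρ⟩ := (rel h).exists_rep (act_gn h) hN
  have hm : ∀ i, gn y e t w k n i ∈ normalizer ((zpowers y : Subgroup G) : Set G) := fun i => by
    have := (act_gn h i).mem_normalizer (rel h) (M3_last i)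
    rwa [aa_l] at this
  refine ⟨ρ, hm, fun s => ⟨fun hs => ?_, fun hs => ?_⟩, fun i => (hρ _).unique (rel h) (act_gn h i),
    hN.trans le_sup_left⟩
  · have h1 := hρ s
    rw [hs, act_one_iff] at h1
    refine H604.U33.CentP.cent_PP H604.RB.ThreeB.stNF H604.RB.ThreeB.stAct H604.RB.ThreeB.stO h hc fun p hp => ?_
    obtain ⟨v, b, rfl⟩ := ((H604.RB.ThreeB.stNF h).1 p).1 hp
    have h2 := h1 (Fin.snoc (α := fun _ => ZMod 3) v 0)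
    have h3 := h1 (Pi.single D3.l 1)
    rw [(rel h).bf_l, aa_l, pw_one] at h3
    rw [bf_eq h] at h2
    simp only [Fin.snoc_castSucc] at h2
    generalize (Fin.snoc (α := fun _ => ZMod 3) v 0 : Fin 9 → ZMod 3) 8 + D3.q (Fin.snoc (α := fun _ => ZMod 3) v 0) = c
      at h2
    have h4 : Commute (pw y (b - c)) (s : G) := (show Commute y (s : G) from h3).pow_left _
    have h5 := (show Commute (H863.U33.nf y e v c) (s : G) from h2).mul_left h4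
    rw [nf_y h, add_sub_cancel] at h5
    exact h5
  · exact (hρ s).unique (rel h) ((rel h).act_y (by rw [aa_l]; exact hs))

end abs

/-- the words of the generators -/
def wgen3 : Fin 18 → List Ltr :=
  ![we 0, we 1, we 2 ++ wy1 ++ wy1, we 3, we 4, we 5, we 6 ++ wy1 ++ wy1, we 7, wt, ww 0, ww 1, ww 2, ww 3, ww 4, ww 5,
    wk 0, wk 1, wn]

/-- the generators in the model -/
noncomputable def gen3 (i : Fin 18) : H819.U33.G := g (wgen3 i)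

theorem gen3_eq : gen3 = gn (g wy1) eG (g wt) wG kG (g wn) := by
  have h : ∀ v : List Ltr, g (v ++ wy1 ++ wy1) = g v * g wy1 * g wy1 := fun v => by rw [g_append, g_append]
  funext i
  fin_cases i
  exacts [rfl, rfl, h _, rfl, rfl, rfl, h _, rfl, rfl, rfl, rfl, rfl, rfl, rfl, rfl, rfl, rfl, rfl]

/-- **The frame at 3B.** -/
theorem frame3 : Frame1 (g wy1) gen3 M3 := by
  have := H604.RB.ThreeB.finG
  rw [gen3_eq]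
  exact frame_abs tb H604.RB.ThreeB.card_y_le

theorem order3 : orderOf (g wy1) = 3 := H604.RB.ThreeB.order_y

/-- the order bound, `43535646720 = 6561 * 6635520` -/
theorem card3 : Nat.card ↥(normalizer ((zpowers (g wy1) : Subgroup H819.U33.G) : Set H819.U33.G)) ≤
    orderOf (g wy1) * 43535646720 := by
  have := H604.RB.ThreeB.finG
  obtain ⟨c, hc, h1⟩ := LocAbs.card_norm Nat.prime_three order3
  rw [h1, order3, H604.RB.ThreeB.card_y]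
  have h2 : c ≤ 2 := Nat.le_of_dvd (by norm_num) hc
  omega

end Cfsg.Agent.BMx.Fr3
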