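import Cfsg.Agent.BMx.AbsMain
import Cfsg.Agent.BMx.Iface2
import Cfsg.Agent.H904.SylOne
import Cfsg.Agent.SporadicA.M11Sylow

/-!
# Proper subgroups of the Baby Monster with an element of order 46 (helper77, for S5527)

`Dat` : the local data, inherited by subgroups.  `Dat.no_local` : no `p`-local subgroup has order divisible by `23 r`, `r = 13, 17`.
`Dat.no46` : a proper subgroup of order divisible by `r` has no element of order 46.  `Dat.inv11` : the case `r = 11`.
-/

set_option autoImplicit false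
set_option linter.unusedSectionVars false
set_option linter.style.haveILetI false
set_option maxRecDepth 100000

namespace Cfsg.Agent.BMx.N46

open Subgroup Cfsg Cfsg.Agent.OrdDiv Cfsg.Agent.H940.Eng Cfsg.Agent.H940.Eng.D Cfsg.Agent.BMx.Abs

/-- bounds for the centraliser and the normaliser of the subgroups of order `r` -/
def CN (X : Type) [Group X] (r c n : ℕ) : Prop :=
  ∀ R : Subgroup X, Nat.card R = r → Nat.card (centralizer (R : Set X)) ∣ c ∧ Nat.card (normalizer (R : Set X)) ∣ n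

theorem CN.sub {X : Type} [Group X] [Finite X] {r c n : ℕ} (h : CN X r c n) (H : Subgroup X) : CN H r c n := by
  intro R hR
  obtain ⟨h1, h2⟩ := h (R.map H.subtype) ((card_map_of_injective H.subtype_injective).trans hR)
  refine ⟨Dvd.dvd.trans ?_ h1, Dvd.dvd.trans ?_ h2⟩
  · rw [← card_map_of_injective H.subtype_injective]
    apply card_dvd_of_le
    rintro _ ⟨a, ha, rfl⟩ _ ⟨w, hw, rfl⟩
    exact congrArg Subtype.val (ha w hw)
  · rw [← card_map_of_injective H.subtype_injective]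
    apply card_dvd_of_le
    rintro _ ⟨a, ha, rfl⟩
    apply mem_normalizer_fintype
    rintro _ ⟨w, hw, rfl⟩
    exact ⟨_, (mem_normalizer_iff.1 ha w).1 hw, rfl⟩

/-- the data -/
structure Dat (X : Type) [Group X] : Prop where
  dvd : Nat.card X ∣ n_b
  rank : PRankLE 2 14 X
  c23 : CN X 23 46 506
  c17 : CN X 17 68 1088
  c13 : CN X 13 312 3744
  c11 : CN X 11 1320 13200
  inv : ∀ z x : X, orderOf z = 2 → orderOf x = 23 → z * x = x * z →
    Nat.card (centralizer ({z} : Set X)) ∣ 2 ^ 23 * 42305421312000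
  nine : ∀ H : Subgroup X, 23 ∣ Nat.card H → 13 ∣ Nat.card H → 3 ^ 9 ∣ Nat.card H

variable {X : Type} [Group X] [Finite X]

theorem Dat.sub (D : Dat X) (H : Subgroup X) : Dat H where
  dvd := (card_subgroup_dvd_card H).trans D.dvd
  rank := fun A hA hA2 => by
    rw [← card_map_of_injective H.subtype_injective]
    refine D.rank _ inferInstance ?_
    rintro _ ⟨a, ha, rfl⟩
    exact congrArg Subtype.val (hA2 a ha)
  c23 := D.c23.sub H
  c17 := D.c17.sub H
  c13 := D.c13.sub H
  c11 := D.c11.sub H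
  inv := fun z x hz hx h => by
    refine Dvd.dvd.trans ?_ (D.inv z x (by rw [orderOf_coe, hz]) (by rw [orderOf_coe, hx]) (congrArg Subtype.val h))
    rw [← card_map_of_injective H.subtype_injective]
    apply card_dvd_of_le
    rintro _ ⟨a, ha, rfl⟩
    exact mem_centralizer_singleton_iff.2 (congrArg Subtype.val (mem_centralizer_singleton_iff.1 ha))
  nine := fun L h1 h2 => by
    have e : Nat.card ↥(L.map H.subtype) = Nat.card L := card_map_of_injective H.subtype_injective
    rw [← e] at h1 h2 ⊢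
    exact D.nine _ h1 h2

theorem Dat.not_sq (D : Dat X) {r : ℕ} (h : n_b % r ^ 2 ≠ 0) : ¬ r ^ 2 ∣ Nat.card X :=
  fun hd => h (Nat.mod_eq_zero_of_dvd (hd.trans D.dvd))

theorem ex_sub {r : ℕ} (hr : r.Prime) (h : r ∣ Nat.card X) : ∃ x : X, orderOf x = r ∧ Nat.card (zpowers x) = r := by
  have := Fact.mk hr
  obtain ⟨x, hx⟩ := exists_prime_orderOf_dvd_card' r h
  exact ⟨x, hx, by rw [Nat.card_zpowers, hx]⟩

/-- **Frattini** -/
theorem frat (M : Subgroup X) [M.Normal] {p : ℕ} (hp : p.Prime) (h : p ∣ Nat.card M) :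
    ∃ P : Subgroup X, P ≠ ⊥ ∧ IsPGroup p P ∧ ∀ q : ℕ, q.Prime → q ∣ Nat.card X → (q = p ∨ ¬ q ∣ Nat.card M) →
      q ∣ Nat.card (normalizer (P : Set X)) := by
  have := Fact.mk hp
  let Q : Sylow p M := default
  have hQ : p ∣ Nat.card ↥((Q : Subgroup M).map M.subtype) := by
    rw [card_map_of_injective M.subtype_injective]
    exact Q.dvd_card_of_dvd_card h
  refine ⟨(Q : Subgroup M).map M.subtype, fun hb => ?_, Q.isPGroup'.map _, fun q hq hX hq' => ?_⟩
  · rw [hb, card_bot] at hQ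
    exact hp.one_lt.ne' (Nat.dvd_one.1 hQ)
  · rcases hq' with rfl | hq'
    · exact hQ.trans (card_dvd_of_le le_normalizer)
    · have h1 := card_sup_mul_card_inf M (normalizer (((Q : Subgroup M).map M.subtype : Subgroup X) : Set X))
      rw [sup_comm, Sylow.normalizer_sup_eq_top Q, card_top] at h1
      exact (hq.dvd_mul.1 (h1 ▸ hX.mul_right _)).resolve_left hq'

/-- the fixed points of a subgroup of order `r` on a normal `p`-subgroup -/
def fx (r c p j : ℕ) : Bool := (List.range (j + 1)).any fun i => c % p ^ i == 0 && p ^ j % r == p ^ i % r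

theorem fx_of {r c n p j : ℕ} (hr : r.Prime) (h : CN X r c n) (hX : r ∣ Nat.card X) (hp : p.Prime) (A : Subgroup X) [A.Normal]
    (hA : Nat.card A = p ^ j) : fx r c p j = true := by
  have := Fact.mk hr
  obtain ⟨x, -, hx⟩ := ex_sub hr hX
  have h1 := card_modEq_cent A (zpowers x) (p := r) (pg (n := 1) (by rw [hx, pow_one]))
  have h2 : Nat.card ↥(A ⊓ centralizer ((zpowers x : Subgroup X) : Set X)) ∣ p ^ j := hA ▸ card_dvd_of_le inf_le_left
  obtain ⟨i, hi, h3⟩ := (Nat.dvd_prime_pow hp).1 h2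
  have h4 : p ^ i ∣ c := (h3 ▸ card_dvd_of_le inf_le_right).trans (h _ hx).1
  rw [hA, h3] at h1
  unfold fx
  rw [List.any_eq_true]
  refine ⟨i, List.mem_range.2 (by omega), ?_⟩
  rw [Bool.and_eq_true, beq_iff_eq, beq_iff_eq]
  exact ⟨Nat.mod_eq_zero_of_dvd h4, h1⟩

def chk (r c : ℕ) (L : List (ℕ × ℕ)) : Bool :=
  l_b.all fun x => (List.range (x.2 + 1)).all fun j =>
    j == 0 || x.1 == 23 || x.1 == r || !(fx 23 46 x.1 j) || !(fx r c x.1 j) || L.contains (x.1, j)

theorem Dat.mem (D : Dat X) {r c n : ℕ} (hr : r.Prime) (h : CN X r c n) (h23 : 23 ∣ Nat.card X) (hX : r ∣ Nat.card X)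
    (h1 : ¬ r ∣ 506) (h2 : ¬ 23 ∣ n) (h3 : n_b % r ^ 2 ≠ 0) {L : List (ℕ × ℕ)} (hc : chk r c L = true) {p j : ℕ}
    (hp : p.Prime) (hj : 0 < j) (A : Subgroup X) [hn : A.Normal] (hA : Nat.card A = p ^ j) : (p, j) ∈ L := by
  have hd : p ^ j ∣ Nat.card X := hA ▸ card_subgroup_dvd_card A
  obtain ⟨e, he, hje⟩ := exists_pair v_b hp hj (hd.trans D.dvd)
  have h4 := List.all_eq_true.1 (List.all_eq_true.1 hc _ he) j (List.mem_range.2 (by show j < e + 1; omega))
  have htop : Nat.card (normalizer (A : Set X)) = Nat.card X := by rw [normalizer_eq_top_iff.2 hn, card_top]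
  have hone : n_b % p ^ 2 ≠ 0 → Nat.card A = p := fun h5 => by
    have h6 : j = 1 := by
      by_contra h6
      exact D.not_sq h5 ((pow_dvd_pow p (by omega)).trans hd)
    rw [hA, h6, pow_one]
  simp only [Bool.or_eq_true, beq_iff_eq, Bool.not_eq_true', List.contains_iff_mem, fx_of (by norm_num) D.c23 h23 hp A hA,
    fx_of hr h hX hp A hA] at h4
  rcases h4 with ((((h4 | h4) | h4) | h4) | h4) | h4
  · omega
  · subst h4
    exact absurd (hX.trans (htop ▸ (D.c23 A (hone (by decide +kernel))).2)) h1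
  · subst h4
    exact absurd (h23.trans (htop ▸ (h A (hone h3)).2)) h2
  · exact absurd h4 (by decide)
  · exact absurd h4 (by decide)
  · exact h4

theorem chk13 : chk 13 312 [(2, 1), (2, 12)] = true := by decide +kernel
theorem chk17 : chk 17 68 [(2, 1), (2, 33), (2, 34)] = true := by decide +kernel

/-- a normal subgroup of order two -/
theorem Dat.two (D : Dat X) (h23 : 23 ∣ Nat.card X) (A : Subgroup X) [hn : A.Normal] (hA : Nat.card A = 2 ^ 1) :
    Nat.card X ∣ 2 ^ 23 * 42305421312000 := by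
  have : Fact (Nat.Prime 2) := ⟨Nat.prime_two⟩
  obtain ⟨z, hz⟩ := exists_prime_orderOf_dvd_card' (G := A) 2 (by rw [hA]; norm_num)
  have hz' : orderOf (z : X) = 2 := by rw [orderOf_coe, hz]
  have hc : ∀ g : X, g * z = z * g := by
    classical
    intro g
    have h1 : zpowers (z : X) = A := eq_of_le_of_card_ge (zpowers_le.2 z.2) (by rw [Nat.card_zpowers, hz', hA]; norm_num)
    have h2 : g * z * g⁻¹ ∈ zpowers (z : X) := by rw [h1]; exact hn.conj_mem _ z.2 g
    rw [mem_zpowers_iff_mem_range_orderOf, hz', Finset.mem_image] at h2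
    obtain ⟨k, hk, h3⟩ := h2
    have h4 : k = 0 ∨ k = 1 := by have := Finset.mem_range.1 hk; omega
    rcases h4 with rfl | rfl
    · exfalso
      rw [pow_zero, eq_comm, mul_inv_eq_one, mul_eq_left] at h3
      rw [h3, orderOf_one] at hz'
      omega
    · rw [pow_one] at h3
      exact mul_inv_eq_iff_eq_mul.1 h3.symm
  obtain ⟨x, hx, -⟩ := ex_sub (by norm_num) h23
  have h1 := D.inv z x hz' hx (hc x).symm
  have h2 : centralizer ({(z : X)} : Set X) = ⊤ := eq_top_iff.2 fun g _ => mem_centralizer_singleton_iff.2 (hc g)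
  rwa [h2, card_top] at h1

/-- a nontrivial normal `p`-subgroup contains an elementary abelian one -/
theorem ex_elem {p : ℕ} (hp : p.Prime) (P : Subgroup X) [hn : P.Normal] (hb : P ≠ ⊥) (hP : IsPGroup p P) :
    ∃ (N : Subgroup X) (j : ℕ), N.Normal ∧ 0 < j ∧ Nat.card N = p ^ j ∧ (∀ a ∈ N, ∀ b ∈ N, a * b = b * a) ∧
      ∀ a ∈ N, a ^ p = 1 := by
  have := Fact.mk hp
  obtain ⟨N, ⟨hNn, hNb, hNP⟩, hmin0⟩ := Set.exists_min_image {N : Subgroup X | N.Normal ∧ N ≠ ⊥ ∧ N ≤ P}
    (fun N => Nat.card N) (Set.toFinite _) ⟨P, hn, hb, le_rfl⟩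
  have hmin : ∀ M : Subgroup X, M.Normal → M ≤ N → M = ⊥ ∨ M = N := by
    intro M hM hle
    by_cases h : M = ⊥
    · exact Or.inl h
    · exact Or.inr (eq_of_le_of_card_ge hle (hmin0 M ⟨hM, h, hle.trans hNP⟩))
  have hNp : IsPGroup p N := hP.to_le hNP
  have hnt : Nontrivial N := (nontrivial_iff_ne_bot N).2 hNb
  have hnil : Group.IsNilpotent N := hNp.isNilpotent
  have hcomm : ∀ a ∈ N, ∀ b ∈ N, a * b = b * a := by
    have hZ : (center N).map N.subtype = N := by
      refine (hmin _ inferInstance (map_subtype_le _)).resolve_left fun h => ?_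
      rw [map_eq_bot_iff_of_injective _ N.subtype_injective] at h
      exact Group.IsNilpotent.center_ne_bot N h
    intro a ha b hb
    rw [← hZ] at ha
    obtain ⟨a', ha', rfl⟩ := ha
    exact congrArg Subtype.val (mem_center_iff.1 ha' ⟨b, hb⟩).symm
  obtain ⟨q, hq, hpow⟩ := SolvableStructure.MinimalNormal.exists_prime_pow_eq_one N hNb hmin hcomm
  obtain ⟨k, hk, hc⟩ := SolvableStructure.MinimalNormal.exists_card_eq_prime_pow N hNb hq hpow
  obtain ⟨j, hj⟩ := IsPGroup.iff_card.1 hNp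
  have hqp : q = p := (Nat.prime_dvd_prime_iff_eq hq hp).1
    (hq.dvd_of_dvd_pow (n := j) (by rw [← hj, hc]; exact dvd_pow_self q hk.ne'))
  subst hqp
  exact ⟨N, k, hNn, hk, hc, hcomm, hpow⟩

/-- passing to the normaliser -/
theorem to_norm {p : ℕ} (hp : p.Prime) {P : Subgroup X} (hb : P ≠ ⊥) (hP : IsPGroup p P) :
    ∃ (N : Subgroup (normalizer (P : Set X))) (j : ℕ), N.Normal ∧ 0 < j ∧ Nat.card N = p ^ j ∧
      (∀ a ∈ N, ∀ b ∈ N, a * b = b * a) ∧ ∀ a ∈ N, a ^ p = 1 :=
  ex_elem hp (P.subgroupOf (normalizer (P : Set X)))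
    (fun h => hb ((subgroupOf_eq_bot.1 h).eq_bot_of_le le_normalizer)) hP.comap_subtype

theorem Dat.no17 (D : Dat X) {p : ℕ} (hp : p.Prime) {P : Subgroup X} (hb : P ≠ ⊥) (hP : IsPGroup p P)
    (h23 : 23 ∣ Nat.card (normalizer (P : Set X))) (h17 : 17 ∣ Nat.card (normalizer (P : Set X))) : False := by
  obtain ⟨N, j, hn, hj, hc, h1, h2⟩ := to_norm hp hb hP
  have D' := D.sub (normalizer (P : Set X))
  have h3 := D'.mem (by norm_num) D'.c17 h23 h17 (by norm_num) (by norm_num) (by decide +kernel) chk17 hp hj N hc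
  simp only [List.mem_cons, Prod.mk.injEq, List.not_mem_nil, or_false] at h3
  rcases h3 with ⟨rfl, rfl⟩ | ⟨rfl, rfl⟩ | ⟨rfl, rfl⟩
  · exact absurd (h17.trans (D'.two h23 N hc)) (by norm_num)
  all_goals
    have h4 := D'.rank N ⟨⟨fun a b => Subtype.ext (h1 a a.2 b b.2)⟩⟩ h2
    rw [hc] at h4
    exact absurd h4 (by norm_num)

theorem Dat.no13_odd (D : Dat X) {p : ℕ} (hp : p.Prime) (hp2 : p ≠ 2) {P : Subgroup X} (hb : P ≠ ⊥) (hP : IsPGroup p P)
    (h23 : 23 ∣ Nat.card (normalizer (P : Set X))) (h13 : 13 ∣ Nat.card (normalizer (P : Set X))) : False := by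
  obtain ⟨N, j, hn, hj, hc, -, -⟩ := to_norm hp hb hP
  have D' := D.sub (normalizer (P : Set X))
  have h3 := D'.mem (by norm_num) D'.c13 h23 h13 (by norm_num) (by norm_num) (by decide +kernel) chk13 hp hj N hc
  simp only [List.mem_cons, Prod.mk.injEq, List.not_mem_nil, or_false] at h3
  omega

theorem not_dvd_cent {r c n : ℕ} (hr : r.Prime) (h : CN X r c n) (A : Subgroup X) (hA : ¬ Nat.card A ∣ c) :
    ¬ r ∣ Nat.card (centralizer (A : Set X)) := by
  intro hd
  obtain ⟨x, hx, -⟩ := ex_sub hr hd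
  have h1 : Nat.card (zpowers (x : X)) = r := by rw [Nat.card_zpowers, orderOf_coe, hx]
  refine hA ((card_dvd_of_le ?_).trans (h _ h1).1)
  rintro a ha _ ⟨k, rfl⟩
  exact ((show Commute a x from x.2 a ha).zpow_right k).eq.symm

theorem Dat.twelve (D : Dat X) (h23 : 23 ∣ Nat.card X) (h13 : 13 ∣ Nat.card X) (A : Subgroup X) [hn : A.Normal]
    (hA : Nat.card A = 2 ^ 12) (h1 : ∀ a ∈ A, ∀ b ∈ A, a * b = b * a) (h2 : ∀ a ∈ A, a ^ 2 = 1) : False := by
  have : Fact (Nat.Prime 2) := ⟨Nat.prime_two⟩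
  letI : CommGroup A := { (inferInstance : Group A) with mul_comm := fun a b => Subtype.ext (h1 a a.2 b b.2) }
  obtain ⟨e⟩ := Lib.ElemAbGL.mulAut_equiv_GL (V := A) 2 12 (fun x => Subtype.ext (h2 x x.2)) hA
  let f : X →* GL (Fin 12) (ZMod 2) := e.toMonoidHom.comp (MulAut.conjNormal (H := A))
  have hk : f.ker = centralizer (A : Set X) := by
    ext g
    rw [MonoidHom.mem_ker]
    show e (MulAut.conjNormal g) = 1 ↔ _
    rw [MulEquiv.map_eq_one_iff]
    constructor
    · intro h a ha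
      have h3 : g * a * g⁻¹ = a := congrArg Subtype.val (DFunLike.congr_fun h (⟨a, ha⟩ : A))
      exact (mul_inv_eq_iff_eq_mul.1 h3).symm
    · intro h
      ext a
      exact mul_inv_eq_iff_eq_mul.2 (h a a.2).symm
  have h3 := f.ker.card_mul_index
  rw [index_ker, hk] at h3
  have h4 : Nat.card f.range ∣ Nat.card (GL (Fin 12) (ZMod 2)) := card_subgroup_dvd_card _
  have h5 : ¬ 3 ^ 9 ∣ Nat.card (GL (Fin 12) (ZMod 2)) := by
    rw [Matrix.card_GL_field, ZMod.card]
    decide +kernel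
  have h6 : 3 ∣ Nat.card (centralizer (A : Set X)) := by
    by_contra h6
    have h7 := D.nine ⊤ (by rwa [card_top]) (by rwa [card_top])
    rw [card_top, ← h3] at h7
    exact h5 ((((Nat.prime_three.coprime_iff_not_dvd.2 h6).pow_left 9).dvd_of_dvd_mul_left h7).trans h4)
  obtain ⟨P, hb, hP, hq⟩ := frat (centralizer (A : Set X)) Nat.prime_three h6
  exact D.no13_odd Nat.prime_three (by norm_num) hb hP
    (hq 23 (by norm_num) h23 (Or.inr (not_dvd_cent (by norm_num) D.c23 A (by rw [hA]; norm_num))))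
    (hq 13 (by norm_num) h13 (Or.inr (not_dvd_cent (by norm_num) D.c13 A (by rw [hA]; norm_num))))

theorem Dat.no13 (D : Dat X) {p : ℕ} (hp : p.Prime) {P : Subgroup X} (hb : P ≠ ⊥) (hP : IsPGroup p P)
    (h23 : 23 ∣ Nat.card (normalizer (P : Set X))) (h13 : 13 ∣ Nat.card (normalizer (P : Set X))) : False := by
  obtain ⟨N, j, hn, hj, hc, h1, h2⟩ := to_norm hp hb hP
  have D' := D.sub (normalizer (P : Set X))
  have h3 := D'.mem (by norm_num) D'.c13 h23 h13 (by norm_num) (by norm_num) (by decide +kernel) chk13 hp hj N hc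
  simp only [List.mem_cons, Prod.mk.injEq, List.not_mem_nil, or_false] at h3
  rcases h3 with ⟨rfl, rfl⟩ | ⟨rfl, rfl⟩
  · exact absurd (h13.trans (D'.two h23 N hc)) (by norm_num)
  · exact D'.twelve h23 h13 N hc h1 h2

/-- **No local subgroup has order divisible by `23 r`.** -/
theorem Dat.no_local (D : Dat X) {r : ℕ} (hr : r = 13 ∨ r = 17) {p : ℕ} (hp : p.Prime) {P : Subgroup X} (hb : P ≠ ⊥)
    (hP : IsPGroup p P) (h23 : 23 ∣ Nat.card (normalizer (P : Set X))) (h : r ∣ Nat.card (normalizer (P : Set X))) :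
    False := by
  rcases hr with rfl | rfl
  · exact D.no13 hp hb hP h23 h
  · exact D.no17 hp hb hP h23 h

/-! ### elements of order 46 -/

theorem sq46 {g : X} (hg : orderOf g = 46) : Nat.card (zpowers (g ^ 2)) = 23 := by
  rw [Nat.card_zpowers, orderOf_pow' g (by norm_num), hg]
  norm_num

theorem le_cent46 (g : X) : zpowers g ≤ centralizer ((zpowers (g ^ 2) : Subgroup X) : Set X) := by
  rintro _ ⟨k, rfl⟩ _ ⟨l, rfl⟩
  exact ((((Commute.refl g).pow_left 2).zpow_left l).zpow_right k).eq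

theorem cent46 (h : CN X 23 46 506) {g : X} (hg : orderOf g = 46) :
    zpowers g = centralizer ((zpowers (g ^ 2) : Subgroup X) : Set X) :=
  eq_of_le_of_card_ge (le_cent46 g) (by
    rw [Nat.card_zpowers, hg]
    exact Nat.le_of_dvd (by norm_num) (h _ (sq46 hg)).1)

theorem norm46 (h : CN X 23 46 506) {g : X} (hg : orderOf g = 46) :
    Nat.card (normalizer ((zpowers (g ^ 2) : Subgroup X) : Set X)) = 46 ∨
      Nat.card (normalizer ((zpowers (g ^ 2) : Subgroup X) : Set X)) = 506 := by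
  have h1 := (h _ (sq46 hg)).2
  obtain ⟨c, hc⟩ : 46 ∣ Nat.card (normalizer ((zpowers (g ^ 2) : Subgroup X) : Set X)) := by
    rw [← hg, ← Nat.card_zpowers]
    exact card_dvd_of_le ((le_cent46 g).trans (cent_le_norm _))
  rw [hc] at h1 ⊢
  have h2 : c ∣ 11 := Nat.dvd_of_mul_dvd_mul_left (k := 46) (by norm_num) h1
  rcases (Nat.dvd_prime (by norm_num)).1 h2 with rfl | rfl
  · exact Or.inl rfl
  · exact Or.inr rfl

theorem uniq46 {g w : X} (hg : orderOf g = 46) (hw : w ∈ zpowers g) (h2 : orderOf w = 2) : w = g ^ 23 := by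
  classical
  rw [mem_zpowers_iff_mem_range_orderOf, hg, Finset.mem_image] at hw
  obtain ⟨k, hk, rfl⟩ := hw
  have h1 : 46 ∣ k * 2 := by
    rw [← hg, orderOf_dvd_iff_pow_eq_one, pow_mul, ← h2, pow_orderOf_eq_one]
  have h3 := Finset.mem_range.1 hk
  have h4 : k = 0 ∨ k = 23 := by omega
  rcases h4 with rfl | rfl
  · rw [pow_zero, orderOf_one] at h2
    omega
  · rfl

/-- all automorphisms are inner -/
def Cpl (S : Type) [Group S] : Prop := ∀ α : MulAut S, ∃ g : S, α = MulAut.conj g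

theorem Cpl.congr {S T : Type} [Group S] [Group T] (e : S ≃* T) (h : Cpl T) : Cpl S := by
  intro α
  obtain ⟨g, hg⟩ := h ((e.symm.trans α).trans e)
  refine ⟨e.symm g, MulEquiv.ext fun x => e.injective ?_⟩
  have h1 := DFunLike.congr_fun hg (e x)
  rw [MulAut.conj_apply, map_mul, map_mul, map_inv, e.apply_symm_apply]
  simpa using h1

theorem chk_fi : ((cands l_fi23 n_fi23).all fun g => ordN g != n_fi23 || decide (g = .fi23)) = true := by decide +kernel
theorem chk_co : ((cands l_co1 n_co1).all fun g => ordN g != n_co1 || decide (g = .co1)) = true := by decide +kernel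

theorem cpl_of (B : Base) (h1 : Cpl Spor.Fi23) (h2 : Cpl Spor.Co1) (hs : IsSimpleGroup X)
    (hna : ¬ ∀ a b : X, a * b = b * a) (hc : Nat.card X = n_fi23 ∨ Nat.card X = n_co1) : Cpl X := by
  rcases hc with hc | hc
  · obtain ⟨g, hg, hr, ho⟩ := exists_good B.table (B.known X hs) hna v_fi23 (hc ▸ dvd_rfl)
    have h3 := List.all_eq_true.1 chk_fi g hg
    rw [Bool.or_eq_true, bne_iff_ne, decide_eq_true_iff] at h3
    rcases h3 with h3 | rfl
    · exact absurd (ho.symm.trans hc) h3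
    · obtain ⟨e⟩ : Spor.IsoFi23 X := hr
      exact h1.congr e
  · obtain ⟨g, hg, hr, ho⟩ := exists_good B.table (B.known X hs) hna v_co1 (hc ▸ dvd_rfl)
    have h3 := List.all_eq_true.1 chk_co g hg
    rw [Bool.or_eq_true, bne_iff_ne, decide_eq_true_iff] at h3
    rcases h3 with h3 | rfl
    · exact absurd (ho.symm.trans hc) h3
    · obtain ⟨e⟩ : Spor.IsoCo1 X := hr
      exact h2.congr e

theorem chk_s : (o_b.all fun s => s % 23 != 0 || (s % 13 != 0 && s % 17 != 0) || s == n_fi23 || s == n_co1 || s == n_b) = true := by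
  decide +kernel

/-- **A proper subgroup of order divisible by 13 or 17 has no element of order 46.** -/
theorem Dat.no46 (D : Dat X) (B : Base) (h1 : Cpl Spor.Fi23) (h2 : Cpl Spor.Co1) (hne : Nat.card X ≠ n_b) {r : ℕ}
    (hr : r = 13 ∨ r = 17) (hX : r ∣ Nat.card X) {g : X} (hg : orderOf g = 46) : False := by
  have hrp : r.Prime := by rcases hr with rfl | rfl <;> norm_num
  have h23 : 23 ∣ Nat.card X := sq46 hg ▸ card_subgroup_dvd_card _
  have hsq : ¬ 23 ^ 2 ∣ Nat.card X := D.not_sq (by decide +kernel)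
  have hno : ∀ N : Subgroup X, N.Normal → ¬ 23 ∣ Nat.card N → N = ⊥ := by
    intro N hN h3
    by_contra hb
    by_cases h4 : r ∣ Nat.card N
    · obtain ⟨P, hPb, hP, hq⟩ := frat N hrp h4
      exact D.no_local hr hrp hPb hP (hq 23 (by norm_num) h23 (Or.inr h3)) (hq r hrp hX (Or.inl rfl))
    · obtain ⟨p, hp, hd⟩ := Nat.exists_prime_and_dvd fun h => hb (card_eq_one.1 h)
      obtain ⟨P, hPb, hP, hq⟩ := frat N hp hd
      exact D.no_local hr hp hPb hP (hq 23 (by norm_num) h23 (Or.inr h3)) (hq r hrp hX (Or.inr h4))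
  obtain ⟨M, hMn, hMs, hM23⟩ := exists_simple_normal (by norm_num) h23 hsq hno
  have hMr : r ∣ Nat.card M := by
    by_contra h4
    obtain ⟨P, hPb, hP, hq⟩ := frat M (by norm_num) hM23
    exact D.no_local hr (by norm_num) hPb hP (hq 23 (by norm_num) h23 (Or.inl rfl)) (hq r hrp hX (Or.inr h4))
  have hna : ¬ ∀ a b : M, a * b = b * a := by
    intro hab
    letI : CommGroup M := { (inferInstance : Group M) with mul_comm := hab }
    have hp : (Nat.card M).Prime := IsSimpleGroup.prime_card (α := M)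
    have h3 := (Nat.prime_dvd_prime_iff_eq (by norm_num) hp).1 hM23
    have h4 := (Nat.prime_dvd_prime_iff_eq hrp hp).1 hMr
    omega
  have hMd : Nat.card M ∣ Nat.card X := card_subgroup_dvd_card M
  have hc : Nat.card M = n_fi23 ∨ Nat.card M = n_co1 := by
    have h3 := List.all_eq_true.1 chk_s _ (ords_b B M hMs hna (hMd.trans D.dvd))
    simp only [Bool.or_eq_true, Bool.and_eq_true, bne_iff_ne, beq_iff_eq] at h3
    rcases h3 with (((h3 | h3) | h3) | h3) | h3
    · exact absurd (Nat.mod_eq_zero_of_dvd hM23) h3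
    · rcases hr with rfl | rfl
      · exact absurd (Nat.mod_eq_zero_of_dvd hMr) h3.1
      · exact absurd (Nat.mod_eq_zero_of_dvd hMr) h3.2
    · exact Or.inl h3
    · exact Or.inr h3
    · exact absurd (Nat.dvd_antisymm D.dvd (h3 ▸ hMd)) hne
  have hC : centralizer (M : Set X) = ⊥ := by
    refine hno _ inferInstance fun h3 => hsq ?_
    have h4 : M ⊓ centralizer (M : Set X) = ⊥ := by
      rcases hMs.eq_bot_or_eq_top_of_normal (center M) inferInstance with h5 | h5
      · rw [eq_bot_iff]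
        intro a ha
        have h6 : (⟨a, ha.1⟩ : M) ∈ center M := mem_center_iff.2 fun b => Subtype.ext (ha.2 b b.2)
        rw [h5, mem_bot] at h6
        exact congrArg Subtype.val h6
      · exact absurd (fun a b => (mem_center_iff.1 (show b ∈ center M by rw [h5]; trivial) a)) hna
    have h5 := card_sup_mul_card_inf M (centralizer (M : Set X))
    rw [h4, card_bot, mul_one] at h5
    refine Dvd.dvd.trans ?_ (card_subgroup_dvd_card (M ⊔ centralizer (M : Set X)))
    rw [h5, pow_two]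
    exact Nat.mul_dvd_mul hM23 h3
  obtain ⟨m, hm⟩ := cpl_of B h1 h2 hMs hna hc (MulAut.conjNormal g)
  have hgm : g = m := by
    have h3 : (m : X)⁻¹ * g ∈ centralizer (M : Set X) := by
      intro a ha
      have h4 : g * a * g⁻¹ = m * a * (m : X)⁻¹ := congrArg Subtype.val (DFunLike.congr_fun hm (⟨a, ha⟩ : M))
      calc a * ((m : X)⁻¹ * g) = (m : X)⁻¹ * (m * a * (m : X)⁻¹) * g := by group
        _ = (m : X)⁻¹ * g * a := by rw [← h4]; group
    rw [hC, mem_bot, inv_mul_eq_one] at h3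
    exact h3.symm
  have hm46 : orderOf m = 46 := by rw [← orderOf_coe, ← hgm, hg]
  have : Fact (Nat.Prime 23) := ⟨by norm_num⟩
  obtain ⟨s, hs, hs1⟩ := H904.SylOne.card_normalizer_mod (sq46 hm46) (fun h => hsq (h.trans hMd))
  have hs2 : s % 23 = 1 := hs1
  rcases norm46 (D.sub M).c23 hm46 with h3 | h3 <;> rw [h3] at hs <;> rcases hc with hc | hc <;> rw [hc] at hs <;>
    simp only [n_fi23, n_co1] at hs <;> omega

/-- **The prime 11**: a subgroup containing the normaliser of a subgroup of order 11 has an element of order 22. -/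
theorem Dat.inv11 (D : Dat X) {K R : Subgroup X} (hR : Nat.card R = 11) (hN : normalizer (R : Set X) ≤ K) {g : X}
    (hg : orderOf g = 46) : ∃ z ∈ K, orderOf z = 2 ∧ ∀ x ∈ R, x * z = z * x := by
  have : Fact (Nat.Prime 23) := ⟨by norm_num⟩
  have h23 : 23 ∣ Nat.card X := sq46 hg ▸ card_subgroup_dvd_card _
  have h11 : 11 ∣ Nat.card X := hR ▸ card_subgroup_dvd_card _
  have hsq : ¬ 23 ^ 2 ∣ Nat.card X := D.not_sq (by decide +kernel)
  have hsq11 : ¬ 11 ^ 2 ∣ Nat.card X := D.not_sq (by decide +kernel)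
  have hC := cent46 D.c23 hg
  rcases norm46 D.c23 hg with h1 | h1
  · exfalso
    obtain ⟨S, hS⟩ := H904.SylOne.exists_sylow (sq46 hg) hsq
    have hle : normalizer ((S : Subgroup X) : Set X) ≤ centralizer ((S : Subgroup X) : Set X) := by
      rw [hS]
      refine (eq_of_le_of_card_ge (cent_le_norm _) ?_).ge
      rw [h1, ← hC, Nat.card_zpowers, hg]
    have hc := (MonoidHom.ker_transferSylow_isComplement' S hle).card_mul_card
    have hSc : Nat.card S = 23 := by
      have : Nat.card S = Nat.card (zpowers (g ^ 2)) := by rw [← hS]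
      rw [this, sq46 hg]
    rw [hSc] at hc
    obtain ⟨P, hPb, hP, hq⟩ := frat (MonoidHom.transferSylow S hle).ker (p := 11) (by norm_num)
      ((by norm_num : Nat.Coprime 11 23).dvd_of_dvd_mul_right (hc ▸ h11))
    have h2 := hq 23 (by norm_num) h23 (Or.inr fun h => hsq (by rw [← hc, pow_two]; exact Nat.mul_dvd_mul_right h _))
    have : Fact (Nat.Prime 11) := f11
    obtain ⟨j, hj⟩ := IsPGroup.iff_card.1 hP
    have h3 : j = 1 := by
      have h4 : j ≠ 0 := fun h => hPb (card_eq_one.1 (by rw [hj, h, pow_zero]))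
      by_contra h5
      exact hsq11 ((pow_dvd_pow 11 (by omega)).trans (hj ▸ card_subgroup_dvd_card P))
    exact absurd (h2.trans (D.c11 P (by rw [hj, h3, pow_one])).2) (by norm_num)
  · obtain ⟨c, hc⟩ := exists_conj_le (by norm_num) hsq11 hR
      (L := normalizer ((zpowers (g ^ 2) : Subgroup X) : Set X)) (by rw [h1]; norm_num)
    have hz : orderOf (g ^ 23) = 2 := by
      rw [orderOf_pow' g (by norm_num), hg]
      norm_num
    have key : ∀ y ∈ normalizer ((zpowers (g ^ 2) : Subgroup X) : Set X), y * g ^ 23 = g ^ 23 * y := by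
      intro y hy
      refine mul_inv_eq_iff_eq_mul.1 (uniq46 hg ?_ ?_)
      · rw [hC]
        intro a ha
        have h2 : y⁻¹ * a * y⁻¹⁻¹ ∈ zpowers (g ^ 2) := (mem_normalizer_iff.1 (inv_mem hy) a).1 ha
        have h3 := le_cent46 g (pow_mem (mem_zpowers g) 23) _ h2
        calc a * (y * g ^ 23 * y⁻¹) = y * (y⁻¹ * a * y⁻¹⁻¹ * g ^ 23) * y⁻¹ := by group
          _ = y * g ^ 23 * y⁻¹ * a := by rw [h3]; group
      · rw [← hz]
        exact (MulAut.conj y).orderOf_eq _
    have hcomm : ∀ x ∈ R, x * (c⁻¹ * g ^ 23 * c) = c⁻¹ * g ^ 23 * c * x := by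
      intro x hx
      have h2 : c * x * c⁻¹ * g ^ 23 = g ^ 23 * (c * x * c⁻¹) := key _ (hc ⟨x, hx, rfl⟩)
      calc x * (c⁻¹ * g ^ 23 * c) = c⁻¹ * (c * x * c⁻¹ * g ^ 23) * c := by group
        _ = c⁻¹ * g ^ 23 * c * x := by rw [h2]; group
    refine ⟨c⁻¹ * g ^ 23 * c, hN (cent_le_norm R hcomm), ?_, hcomm⟩
    rw [← hz, ← (MulAut.conj c⁻¹).orderOf_eq (g ^ 23), MulAut.conj_apply, inv_inv]

/-- no involution commutes with a subgroup of order 11 -/
def No22 (H : Type) [Group H] : Prop :=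
  ∀ R : Subgroup H, Nat.card R = 11 → ∀ z : H, orderOf z = 2 → ¬ ∀ x ∈ R, x * z = z * x

theorem No22.congr {H L : Type} [Group H] [Group L] (e : H ≃* L) (h : No22 L) : No22 H := by
  intro R hR z hz hc
  refine h (R.map (e : H →* L)) ((card_map_of_injective e.injective).trans hR) (e z) (by rw [MulEquiv.orderOf_eq, hz]) ?_
  rintro _ ⟨x, hx, rfl⟩
  show e x * e z = e z * e x
  rw [← map_mul, hc x hx, map_mul]

theorem no22_M11 (hM : IsM11 X) : No22 X := by
  intro R hR z hz hc
  obtain ⟨x, hx, -⟩ := ex_sub (X := R) (r := 11) (by norm_num) (by rw [hR])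
  have h1 := SporadicA.M11Sylow.card_centralizer_eleven hM (x := (x : X)) (by rw [orderOf_coe, hx])
  have h2 := orderOf_dvd_natCard (⟨z, mem_centralizer_singleton_iff.2 (hc x x.2).symm⟩ : centralizer ({(x : X)} : Set X))
  rw [h1, orderOf_mk, hz] at h2
  exact absurd h2 (by norm_num)

open Matrix in
theorem pgl_comm {F : Type} [Field F] (h2 : (2 : F) ≠ 0) (U A : GL (Fin 2) F)
    (hU : (U : Matrix (Fin 2) (Fin 2) F) = !![1, 1; 0, 1])
    (h : ProjGenLinGroup.mk A * ProjGenLinGroup.mk U = ProjGenLinGroup.mk U * ProjGenLinGroup.mk A)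
    (h' : ProjGenLinGroup.mk A * ProjGenLinGroup.mk A = 1) : ProjGenLinGroup.mk A = 1 := by
  have hdet : (A : Matrix (Fin 2) (Fin 2) F) 0 0 * (A : Matrix (Fin 2) (Fin 2) F) 1 1 -
      (A : Matrix (Fin 2) (Fin 2) F) 0 1 * (A : Matrix (Fin 2) (Fin 2) F) 1 0 ≠ 0 := by
    rw [← det_fin_two]
    exact A.det_ne_zero
  have key : ∀ B C : GL (Fin 2) F, ProjGenLinGroup.mk B = ProjGenLinGroup.mk C → ∃ u : F, u ≠ 0 ∧ ∀ i j,
      (B : Matrix (Fin 2) (Fin 2) F) i j * u = (C : Matrix (Fin 2) (Fin 2) F) i j := by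
    intro B C h1
    rw [ProjGenLinGroup.mk_eq_mk_iff] at h1
    obtain ⟨u, hu⟩ := h1
    refine ⟨u, u.ne_zero, fun i j => ?_⟩
    have h2 : ((B * GeneralLinearGroup.scalar (Fin 2) u : GL (Fin 2) F) : Matrix (Fin 2) (Fin 2) F) i j =
        (C : Matrix (Fin 2) (Fin 2) F) i j := by rw [hu]
    rw [Units.val_mul, GeneralLinearGroup.coe_scalar, scalar_apply, mul_diagonal] at h2
    exact h2
  obtain ⟨u, -, hu⟩ := key (A * U) (U * A) (by rw [map_mul, map_mul, h])
  obtain ⟨v, hv0, hv⟩ := key (A * A) 1 (by rw [map_mul, map_one, h'])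
  have u00 := hu 0 0
  have u01 := hu 0 1
  have u10 := hu 1 0
  have v01 := hv 0 1
  simp [hU, Matrix.mul_apply, Fin.sum_univ_two, hv0] at u00 u01 u10 v01
  set a := (A : Matrix (Fin 2) (Fin 2) F) 0 0
  set b := (A : Matrix (Fin 2) (Fin 2) F) 0 1
  set c := (A : Matrix (Fin 2) (Fin 2) F) 1 0
  set d := (A : Matrix (Fin 2) (Fin 2) F) 1 1
  have hc : c = 0 := by
    by_contra hc
    have h1 : u = 1 := mul_left_cancel₀ hc (by rw [u10, mul_one])
    rw [h1, mul_one] at u00
    exact hc (by linear_combination -u00)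
  have ha : a ≠ 0 := fun ha => hdet (by rw [ha, hc]; ring)
  have hu1 : u = 1 := mul_left_cancel₀ ha (by rw [u00, hc]; ring)
  have had : a = d := by
    rw [hu1] at u01
    linear_combination u01
  have hb : b = 0 := by
    have h3 : 2 * a * b = 0 := by
      rw [← had] at v01
      linear_combination v01
    exact (mul_eq_zero.1 h3).resolve_left (mul_ne_zero h2 ha)
  rw [← ProjGenLinGroup.mk_scalar (n := Fin 2) (Units.mk0 a ha)]
  congr 1
  ext i j
  rw [GeneralLinearGroup.coe_scalar]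
  fin_cases i <;> fin_cases j
  · simp [a]
  · simpa using hb
  · simpa using hc
  · simpa using had.symm

def mU : GL (Fin 2) (ZMod 11) := ⟨!![1, 1; 0, 1], !![1, 10; 0, 1], by decide +kernel, by decide +kernel⟩
def mW : GL (Fin 2) (ZMod 11) := ⟨!![0, 1; 1, 0], !![0, 1; 1, 0], by decide +kernel, by decide +kernel⟩

theorem mU_pow : mU ^ 11 = 1 := by
  apply Units.ext
  simp only [pow_succ, pow_zero, one_mul, Units.val_mul, Units.val_one]
  decide +kernel

theorem mU_ne : mW * mU ≠ mU * mW := by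
  intro h
  have h2 := congrArg Units.val h
  simp only [Units.val_mul] at h2
  revert h2
  decide +kernel

theorem two_ne : (2 : ZMod 11) ≠ 0 := by decide

open Matrix in
theorem no22_pgl' : No22 (ProjGenLinGroup (Fin 2) (ZMod 11)) := by
  have := f11
  have hfin : Finite (ProjGenLinGroup (Fin 2) (ZMod 11)) := Finite.of_surjective _ ProjGenLinGroup.mk_surjective
  have hcard : Nat.card (ProjGenLinGroup (Fin 2) (ZMod 11)) = 1320 := card_11
  intro R hR z hz hc
  have hU : orderOf (ProjGenLinGroup.mk mU) = 11 := by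
    refine orderOf_eq_prime ?_ fun h => ?_
    · rw [← map_pow, mU_pow, map_one]
    · exact mU_ne (mem_center_iff.1 ((QuotientGroup.eq_one_iff mU).1 h) mW)
  obtain ⟨c, hc'⟩ := exists_conj_le (r := 11) (by norm_num) (by rw [hcard]; norm_num)
    (R := zpowers (ProjGenLinGroup.mk mU)) (by rw [Nat.card_zpowers, hU]) (L := R) (by rw [hR])
  have h1 : c * ProjGenLinGroup.mk mU * c⁻¹ * z = z * (c * ProjGenLinGroup.mk mU * c⁻¹) :=
    hc _ (hc' ⟨_, mem_zpowers _, rfl⟩)
  obtain ⟨A, hA⟩ := ProjGenLinGroup.mk_surjective (c⁻¹ * z * c)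
  have hz2 : z * z = 1 := (pow_two z).symm.trans (orderOf_dvd_iff_pow_eq_one.1 hz.dvd)
  have h2 := pgl_comm two_ne mU A rfl (by
    rw [hA]
    calc c⁻¹ * z * c * ProjGenLinGroup.mk mU = c⁻¹ * (z * (c * ProjGenLinGroup.mk mU * c⁻¹)) * c := by group
      _ = ProjGenLinGroup.mk mU * (c⁻¹ * z * c) := by rw [← h1]; group) (by
    rw [hA]
    calc c⁻¹ * z * c * (c⁻¹ * z * c) = c⁻¹ * (z * z) * c := by group
      _ = 1 := by rw [hz2]; group)
  rw [hA] at h2
  have h3 : z = 1 := by
    calc z = c * (c⁻¹ * z * c) * c⁻¹ := by group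
      _ = 1 := by rw [h2]; group
  rw [h3, orderOf_one] at hz
  omega

theorem no22_pgl : No22 PGL211 := no22_pgl'

/-! ### the Baby Monster -/

/-- the inputs -/
structure In46 : Prop where
  base : Base
  card : Nat.card BM = n_b
  dat : Dat BM
  fi : Cpl Spor.Fi23
  co : Cpl Spor.Co1

theorem In46.finite (I : In46) : Finite BM := Nat.finite_of_card_ne_zero (by rw [I.card]; decide +kernel)

theorem In46.big (I : In46) {r : ℕ} (hr : r = 13 ∨ r = 17) (K : Subgroup BM) (h : r ∣ Nat.card K) : No46 K := by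
  have := I.finite
  intro Y hKY hY g hg h46
  exact (I.dat.sub Y).no46 I.base I.fi I.co (fun h1 => hY ((card_eq_iff_eq_top Y).1 (h1.trans I.card.symm))) hr
    (h.trans (card_dvd_of_le hKY)) (g := ⟨g, hg⟩) (by rw [orderOf_mk, h46])

theorem In46.small (I : In46) (K : Subgroup BM) (h : No22 K) (ht : NT K 11) : No46 K := by
  have := I.finite
  intro Y hKY hY g hg h46
  obtain ⟨R, h1, h2, h3⟩ := nt_sub ht hKY hY
  obtain ⟨z, hz, h4, h5⟩ := (I.dat.sub Y).inv11 h2 h3 (g := ⟨g, hg⟩) (by rw [orderOf_mk, h46])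
  refine (h.congr (subgroupOfEquivOfLe hKY)) (R.subgroupOf (K.subgroupOf Y))
    ((Nat.card_congr (subgroupOfEquivOfLe h1).toEquiv).trans h2) ⟨z, hz⟩ (by rw [orderOf_mk, h4]) fun x hx => ?_
  exact Subtype.ext (h5 x hx)

theorem In46.n11 (I : In46) : N11 := fun K ⟨e⟩ h => I.small K (no22_pgl.congr e) h

theorem In46.nM11 (I : In46) : NM11 := fun K h1 h => by
  have := I.finite
  exact I.small K (no22_M11 (Cit.Eleven.isM11 h1)) h

theorem In46.n13 (I : In46) : N13 := I.big (Or.inl rfl)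
theorem In46.n17 (I : In46) : N17 := I.big (Or.inr rfl)

/-- the involutions commuting with an element of order 23 -/
theorem inv_of (h : CN X 23 46 506) (hsq : ¬ 23 ^ 2 ∣ Nat.card X) {n : ℕ} (hn : 23 ∣ n) {z0 : X} (h0 : orderOf z0 = 2)
    (hc : Nat.card (centralizer ({z0} : Set X)) = n) (z x : X) (hz : orderOf z = 2) (hx : orderOf x = 23)
    (hzx : z * x = x * z) : Nat.card (centralizer ({z} : Set X)) = n := by
  obtain ⟨c, hc'⟩ := exists_conj_le (r := 23) (by norm_num) hsq (R := zpowers x) (by rw [Nat.card_zpowers, hx])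
    (L := centralizer ({z0} : Set X)) (hc ▸ hn)
  have h1 : c * x * c⁻¹ * z0 = z0 * (c * x * c⁻¹) := mem_centralizer_singleton_iff.1 (hc' ⟨x, mem_zpowers x, rfl⟩)
  have hg : orderOf (z * x) = 46 := by
    rw [(show Commute z x from hzx).orderOf_mul_eq_mul_orderOf_of_coprime (by rw [hz, hx]; norm_num), hz, hx]
  have hz2 : z ^ 2 = 1 := orderOf_dvd_iff_pow_eq_one.1 hz.dvd
  have hsq2 : (z * x) ^ 2 = x ^ 2 := by rw [(show Commute z x from hzx).mul_pow, hz2, one_mul]
  have key : ∀ w : X, orderOf w = 2 → x * w = w * x → w = (z * x) ^ 23 := by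
    intro w hw hxw
    refine uniq46 hg ?_ hw
    rw [cent46 h hg, hsq2]
    rintro _ ⟨k, rfl⟩
    exact (((show Commute x w from hxw).pow_left 2).zpow_left k).eq
  have h2 : c⁻¹ * z0 * c = z := by
    rw [key z hz hzx.symm]
    refine key _ (((MulAut.conj c⁻¹).orderOf_eq z0).trans h0 ▸ by rw [MulAut.conj_apply, inv_inv]) ?_
    calc x * (c⁻¹ * z0 * c) = c⁻¹ * (c * x * c⁻¹ * z0) * c := by group
      _ = c⁻¹ * z0 * c * x := by rw [h1]; group
  rw [← hc, ← card_map_of_injective (K := centralizer ({z} : Set X)) (f := (MulAut.conj c).toMonoidHom)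
    (MulAut.conj c).injective]
  congr 2
  ext y
  rw [mem_map, mem_centralizer_singleton_iff]
  constructor
  · rintro ⟨a, ha, rfl⟩
    rw [mem_centralizer_singleton_iff, ← h2] at ha
    show c * a * c⁻¹ * z0 = z0 * (c * a * c⁻¹)
    calc c * a * c⁻¹ * z0 = c * (a * (c⁻¹ * z0 * c)) * c⁻¹ := by group
      _ = z0 * (c * a * c⁻¹) := by rw [ha]; group
  · intro hy
    refine ⟨c⁻¹ * y * c, ?_, by show c * (c⁻¹ * y * c) * c⁻¹ = y; group⟩
    rw [mem_centralizer_singleton_iff, ← h2]
    calc c⁻¹ * y * c * (c⁻¹ * z0 * c) = c⁻¹ * (y * z0) * c := by group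
      _ = c⁻¹ * z0 * c * (c⁻¹ * y * c) := by rw [hy]; group

theorem chk_nine : ((23 :: o_b).all fun s => s % 23 != 0 || s % 13 != 0 || s % 3 ^ 9 == 0) = true := by decide +kernel

/-- the order of a subgroup is divisible by `3 ^ 9` if it is divisible by `23` and `13` -/
theorem nine_of (B : Base) (hc : Nat.card X = n_b) (h : CN X 23 46 506) (H : Subgroup X) (h23 : 23 ∣ Nat.card H)
    (h13 : 13 ∣ Nat.card H) : 3 ^ 9 ∣ Nat.card H := by
  have hl : Loc X ⟨23, 46, [(2, 1), (11, 1), (23, 1)]⟩ :=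
    ⟨by norm_num, by decide, by rw [hc]; decide +kernel, h⟩
  obtain ⟨k, s, t, e1, e2, e3, e4, -, -, e7, -⟩ := struct_sub v_b hc (ords_b B) hl h23
  have hp : Nat.Prime 13 := by norm_num
  have h1 : 13 ∣ s := by
    rw [e1] at h13
    rcases hp.dvd_mul.1 h13 with h2 | h2
    · refine (hp.dvd_mul.1 h2).resolve_left fun h3 => ?_
      have hk0 : k ≠ 0 := by
        rintro rfl
        have := Nat.card_pos (α := H)
        omega
      have h4 : k.factorization 13 = 1 := by
        have : Fact (Nat.Prime 13) := ⟨hp⟩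
        refine H904.SylOne.factorization_eq_one hk0 h3 fun h5 => ?_
        have h6 : 13 ^ 2 ∣ n_b := by
          refine (h5.trans ?_).trans (hc ▸ card_subgroup_dvd_card H)
          rw [e1, mul_assoc]
          exact dvd_mul_right _ _
        exact absurd h6 (by decide +kernel)
      have h5 := e7 13 hp
      rw [h4] at h5
      exact absurd h5 (by decide +kernel)
    · exact absurd (h2.trans e2) (by decide +kernel)
  have h2 := List.all_eq_true.1 chk_nine s e3
  simp only [Bool.or_eq_true, bne_iff_ne, beq_iff_eq] at h2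
  rcases h2 with (h2 | h2) | h2
  · exact absurd (Nat.mod_eq_zero_of_dvd e4) h2
  · exact absurd (Nat.mod_eq_zero_of_dvd h1) h2
  · rw [e1]
    exact ((Nat.dvd_of_mod_eq_zero h2).mul_left k).mul_right t

end Cfsg.Agent.BMx.N46
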