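import Cfsg.Agent.BMx.No46
import Cfsg.Agent.BMx.Loc
import Cfsg.Agent.H332.BabyUpper
import Cfsg.Agent.KFacts.Baby.RowB
import Cfsg.Agent.KFacts.FiTTh.Has
import Cfsg.Agent.KFacts.Co1.SheetCo1

/-!
# The boxes `N11`, `NM11`, `N13`, `N17`, unconditionally (helper77, for S5527)
-/

set_option autoImplicit false

namespace Cfsg.Agent.BMx.N46

open Subgroup Cfsg Cfsg.Agent.BMx.Loc

open Cfsg.Agent.BabyM Cfsg.Agent.BabyM.Model Cfsg.Agent.BabyU.ClosModel Cfsg.Agent.BabyU.ClosLane in
/-- an involution with centraliser of order `2 ^ 23 |Co₂|` -/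
theorem exists_2B : ∃ z : BM, orderOf z = 2 ∧ Nat.card (centralizer ({z} : Set BM)) = 2 ^ 23 * 42305421312000 := by
  obtain ⟨f⟩ := KFacts.Baby.RowB.exists_iso isoB
  have := A.finite_G
  have hz : orderOf (zz A) = 2 := orderOf_eq_prime (by rw [pow_two]; exact z_sq A) (z_ne A)
  refine ⟨f (zz A), by rw [MulEquiv.orderOf_eq, hz], ?_⟩
  have h1 : (centralizer ({zz A} : Set Inst.M.G)).map f.toMonoidHom = centralizer ({f (zz A)} : Set BM) := by
    ext y
    rw [mem_map, mem_centralizer_singleton_iff]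
    constructor
    · rintro ⟨x, hx, rfl⟩
      rw [mem_centralizer_singleton_iff] at hx
      show f x * f (zz A) = f (zz A) * f x
      rw [← map_mul, hx, map_mul]
    · intro hy
      refine ⟨f.symm y, mem_centralizer_singleton_iff.2 (f.injective ?_), f.apply_symm_apply y⟩
      rw [map_mul, map_mul, f.apply_symm_apply, hy]
  rw [← h1, ← Nat.card_congr ((centralizer ({zz A} : Set Inst.M.G)).equivMapOfInjective _ f.injective).toEquiv,
    Nat.card_congr (KFacts.Baby.Inst.eC A).toEquiv, A.grp.card_C]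

theorem c23 : CN BM 23 46 506 := fun _ hR => ⟨(cn23 hR).1.dvd, (cn23 hR).2.dvd⟩

/-- the centraliser of an involution commuting with an element of order 23 -/
theorem cent_2B (z x : BM) (hz : orderOf z = 2) (hx : orderOf x = 23) (h : z * x = x * z) :
    Nat.card (centralizer ({z} : Set BM)) = 2 ^ 23 * 42305421312000 := by
  have := fin_BM
  obtain ⟨z0, h0, hc⟩ := exists_2B
  exact inv_of c23 (by rw [card_BM]; norm_num) (by norm_num) h0 hc z x hz hx h

theorem dat : Dat BM where
  dvd := card_BM.dvd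
  rank := H332.BabyUpper.baby_le
  c23 := c23
  c17 := fun _ hR => ⟨(cn17 hR).1.dvd, (cn17 hR).2.dvd⟩
  c13 := fun _ hR => ⟨(cn13 hR).1.dvd, (cn13 hR).2.dvd⟩
  c11 := fun _ hR => ⟨(cn11 hR).1.dvd, (cn11 hR).2.dvd⟩
  inv := fun z x hz hx h => (cent_2B z x hz hx h).dvd
  nine := by
    have := fin_BM
    exact nine_of engBase card_BM c23

theorem in46 : In46 where
  base := engBase
  card := card_BM
  dat := dat
  fi := KFacts.FiTTh.Has.inn
  co := fun α => by
    obtain ⟨g, hg⟩ : α ∈ (MulAut.conj : Spor.Co1 →* MulAut Spor.Co1).range := by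
      rw [KFacts.Co1.SheetCo1.range_conj]
      trivial
    exact ⟨g, hg.symm⟩

theorem n11 : N11 := in46.n11
theorem nM11 : NM11 := in46.nM11
theorem n13 : N13 := in46.n13
theorem n17 : N17 := in46.n17

end Cfsg.Agent.BMx.N46
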