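import Cfsg.Agent.BMx.PresLib
import Cfsg.Agent.BMx.PresCert
import Cfsg.Agent.BMx.AbsGrp
import Cfsg.Agent.H995.LB.PSL

/-!
# `L_2(31)` by relators (helper78, for S5527)
-/

set_option autoImplicit false

namespace Cfsg.Agent.BMx.Pres

open Subgroup Matrix Cfsg.Agent.Lib.CosetFacts

/-- The relations of `L_2(31)`. -/
structure Rel31 {G : Type*} [Group G] (x y t : G) : Prop where
  r1 : x ^ 3 * y * x = y
  r2 : y * x * y = x * y ^ 2 * x ^ 3
  r3 : y ^ 15 = 1
  r4 : t * t = 1
  r5 : (t * y) ^ 2 = 1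
  r6 : (x * t) ^ 3 = 1

namespace Rel31

variable {G : Type*} [Group G] {x y t : G}

theorem prod {H : Type*} [Group H] {a b c : H} (k : Rel31 a b c) (h : Rel31 x y t) :
    Rel31 ((a, x) : H × G) (b, y) (c, t) :=
  ⟨Prod.ext k.r1 h.r1, Prod.ext k.r2 h.r2, Prod.ext k.r3 h.r3, Prod.ext k.r4 h.r4, Prod.ext k.r5 h.r5,
    Prod.ext k.r6 h.r6⟩

theorem sat (h : Rel31 x y t) : ∀ r ∈ rels31, prodL (l5 x y t) r = 1 := by
  intro r hr
  simp only [rels31, List.mem_cons, List.not_mem_nil, or_false] at hr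
  rcases hr with rfl | rfl | rfl | rfl | rfl | rfl | rfl | rfl <;>
    simp only [prodL, l5_1, l5_2, l5_3, l5_4, l5_5, mul_one]
  · rw [← mul_inv_eq_one.2 h.r1]; simp only [pow_succ, pow_zero, one_mul, mul_assoc]
  · rw [← mul_inv_eq_one.2 h.r2]; simp only [pow_succ, pow_zero, one_mul, mul_assoc, _root_.mul_inv_rev]
  · rw [← h.r3]; simp only [pow_succ, pow_zero, one_mul, mul_assoc]
  · exact h.r4
  · rw [← h.r5]; simp only [pow_succ, pow_zero, one_mul, mul_assoc]
  · rw [← h.r6]; simp only [pow_succ, pow_zero, one_mul, mul_assoc]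
  · exact mul_inv_cancel x
  · exact mul_inv_cancel y

theorem x_pow (h : Rel31 x y t) : x ^ 31 = 1 :=
  pow5 h.r4 cert31X rels31 cert31X_check rfl rfl h.sat cert31X_loop0

theorem bound (h : Rel31 x y t) :
    Finite (closure {x, y, t} : Subgroup G) ∧ Nat.card (closure {x, y, t} : Subgroup G) ≤ 480 * 31 :=
  bound5 h.r4 cert31K rels31 cert31K_check cert31K_close rfl rfl h.sat (by norm_num) h.x_pow

end Rel31

/-! ### the model -/

abbrev S31 : Type := Matrix.SpecialLinearGroup (Fin 2) (ZMod 31)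

def xs31 : S31 := ⟨!![1, 1; 0, 1], by decide +kernel⟩
def ys31 : S31 := ⟨!![11, 0; 0, 17], by decide +kernel⟩
def ts31 : S31 := ⟨!![0, 1; -1, 0], by decide +kernel⟩

/-- the projection -/
abbrev π31 : S31 →* L231 := QuotientGroup.mk' (center S31)

def X31 : L231 := π31 xs31
def Y31 : L231 := π31 ys31
def T31 : L231 := π31 ts31

theorem rel31 : Rel31 X31 Y31 T31 := by
  unfold X31 Y31 T31
  refine ⟨?_, ?_, ?_, ?_, ?_, ?_⟩ <;> simp only [← map_pow, ← map_mul]
  · exact psl_eq 1 (by decide +kernel)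
  · exact psl_eq 1 (by decide +kernel)
  · rw [← map_one π31]; exact psl_eq (-1) (by decide +kernel)
  · rw [← map_one π31]; exact psl_eq (-1) (by decide +kernel)
  · rw [← map_one π31]; exact psl_eq (-1) (by decide +kernel)
  · rw [← map_one π31]; exact psl_eq 1 (by decide +kernel)

theorem gen31 : (closure {X31, Y31, T31} : Subgroup L231) = ⊤ := by
  have := Abs.f31
  apply top_of_comap
  intro A
  have h1 : Subgroup.closure {H995.LB.mx (ZMod 31), H995.LB.mt (ZMod 31)} = ⊤ :=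
    H995.LB.closure_sl fun a => ⟨a.val, ZMod.natCast_zmod_val a⟩
  have h2 : Subgroup.closure {H995.LB.mx (ZMod 31), H995.LB.mt (ZMod 31)} ≤
      (Subgroup.closure {X31, Y31, T31}).comap π31 := by
    rw [closure_le]
    rintro s (rfl | rfl)
    · exact Subgroup.subset_closure (k := {X31, Y31, T31}) (Or.inl rfl)
    · exact Subgroup.subset_closure (k := {X31, Y31, T31}) (Or.inr (Or.inr rfl))
  rw [h1] at h2
  exact h2 (mem_top A)

theorem X31_ne : X31 ≠ 1 := mk_ne_one (B := ts31) (by decide +kernel)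

theorem orderOf_Y31 : orderOf Y31 = 15 := by
  refine orderOf_eq_of_pow_and_pow_div_prime (by norm_num) rel31.r3 fun p hp hd => ?_
  have h1 : p = 3 ∨ p = 5 := by
    have h2 := Nat.le_of_dvd (by norm_num) hd
    interval_cases p <;> first | (exfalso; revert hp hd; decide) | simp
  unfold Y31
  rw [← map_pow]
  rcases h1 with rfl | rfl
  · exact mk_ne_one (B := xs31) (by decide +kernel)
  · exact mk_ne_one (B := xs31) (by decide +kernel)

namespace Rel31

variable {G : Type*} [Group G] {x y t : G}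

theorem hom (h : Rel31 x y t) : ∃ φ : L231 →* G, φ X31 = x ∧ φ Y31 = y ∧ φ T31 = t := by
  have : Finite L231 := Nat.finite_of_card_ne_zero (by rw [Abs.card_31]; norm_num)
  exact exists_hom3 gen31 (by rw [Abs.card_31]; exact (rel31.prod h).bound)

theorem emb (h : Rel31 x y t) (hx : x ≠ 1) :
    ∃ φ : L231 →* G, Function.Injective φ ∧ φ X31 = x ∧ φ Y31 = y ∧ φ T31 = t := by
  obtain ⟨φ, h1, h2, h3⟩ := h.hom
  exact ⟨φ, inj_of (Abs.Q2.of_simple Abs.simple_31) φ (X := X31) (k := 15) (by rw [h1]; exact h.x_pow)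
    (by rwa [h1]), h1, h2, h3⟩

/-- **The presentation of `L_2(31)`.** -/
theorem iso (h : Rel31 x y t) (hx : x ≠ 1) : Nonempty ((closure {x, y, t} : Subgroup G) ≃* L231) := by
  obtain ⟨φ, h0, h1, h2, h3⟩ := h.emb hx
  exact iso_of gen31 φ h0 h1 h2 h3

theorem orderOf_x (h : Rel31 x y t) (hx : x ≠ 1) : orderOf x = 31 := by
  have := Abs.f31
  exact orderOf_eq_prime h.x_pow hx

theorem orderOf_y (h : Rel31 x y t) (hx : x ≠ 1) : orderOf y = 15 := by
  obtain ⟨φ, h0, -, h2, -⟩ := h.emb hx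
  rw [← h2, orderOf_injective φ h0, orderOf_Y31]

end Rel31

end Cfsg.Agent.BMx.Pres
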