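import Cfsg.Agent.BMx.PresLib
import Cfsg.Agent.BMx.PresCert
import Cfsg.Agent.BMx.AbsGrp
import Cfsg.Agent.LieClassical.SLGen
import Cfsg.Agent.Lib.VonDyck

/-!
# `L_3(3)` by relators (helper78, for S5527)

`Rel33 x y t` : the relations; `sB x y t`, `aB x y t`, `cB x y t` : an involution of the Borel subgroup containing `y, t`,
a second generator of its Sylow `3`-subgroup and the generator of the centre of the latter.
-/

set_option autoImplicit false

namespace Cfsg.Agent.BMx.Pres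

open Subgroup Matrix Cfsg.Agent.Lib.CosetFacts

/-- The relations of `L_3(3)`. -/
structure Rel33 {G : Type*} [Group G] (x y t : G) : Prop where
  r1 : y ^ 3 = 1
  r2 : y * x = x ^ 3 * y
  r3 : (x * y) ^ 3 = 1
  r4 : t * t = 1
  r5 : (t * y) ^ 2 = 1
  r6 : t * x * t * x⁻¹ * t * x⁻¹ * t * x * t = x ^ 2

/-- The relations of `L_3(3)`, without inverses. -/
structure Rel33p {G : Type*} [Group G] (x y t : G) : Prop where
  r1 : y ^ 3 = 1
  r2 : y * x = x ^ 3 * y
  r3 : (x * y) ^ 3 = 1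
  r4 : t * t = 1
  r5 : (t * y) ^ 2 = 1
  r6 : x * t * x * t = t * x * y * t * x * x * y * t * x

section

variable {G : Type*} [Group G] {x y t : G}

theorem Rel33.prod {H : Type*} [Group H] {a b c : H} (k : Rel33 a b c) (h : Rel33 x y t) :
    Rel33 ((a, x) : H × G) (b, y) (c, t) :=
  ⟨Prod.ext k.r1 h.r1, Prod.ext k.r2 h.r2, Prod.ext k.r3 h.r3, Prod.ext k.r4 h.r4, Prod.ext k.r5 h.r5,
    Prod.ext k.r6 h.r6⟩

theorem Rel33p.prod {H : Type*} [Group H] {a b c : H} (k : Rel33p a b c) (h : Rel33p x y t) :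
    Rel33p ((a, x) : H × G) (b, y) (c, t) :=
  ⟨Prod.ext k.r1 h.r1, Prod.ext k.r2 h.r2, Prod.ext k.r3 h.r3, Prod.ext k.r4 h.r4, Prod.ext k.r5 h.r5,
    Prod.ext k.r6 h.r6⟩

theorem Rel33.map {H : Type*} [Group H] (h : Rel33 x y t) (φ : G →* H) : Rel33 (φ x) (φ y) (φ t) := by
  refine ⟨?_, ?_, ?_, ?_, ?_, ?_⟩ <;> simp only [← map_pow, ← map_mul, ← map_inv]
  · rw [h.r1, map_one]
  · rw [h.r2]
  · rw [h.r3, map_one]
  · rw [h.r4, map_one]
  · rw [h.r5, map_one]
  · rw [h.r6]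

theorem Rel33p.map {H : Type*} [Group H] (h : Rel33p x y t) (φ : G →* H) : Rel33p (φ x) (φ y) (φ t) := by
  refine ⟨?_, ?_, ?_, ?_, ?_, ?_⟩ <;> simp only [← map_pow, ← map_mul]
  · rw [h.r1, map_one]
  · rw [h.r2]
  · rw [h.r3, map_one]
  · rw [h.r4, map_one]
  · rw [h.r5, map_one]
  · rw [h.r6]

theorem Rel33.sat (h : Rel33 x y t) : ∀ r ∈ rels33, prodL (l5 x y t) r = 1 := by
  intro r hr
  simp only [rels33, List.mem_cons, List.not_mem_nil, or_false] at hr
  rcases hr with rfl | rfl | rfl | rfl | rfl | rfl | rfl | rfl <;>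
    simp only [prodL, l5_1, l5_2, l5_3, l5_4, l5_5, mul_one]
  · rw [← h.r1]; simp only [pow_succ, pow_zero, one_mul, mul_assoc]
  · rw [← mul_inv_eq_one.2 h.r2]; simp only [pow_succ, pow_zero, one_mul, mul_assoc, _root_.mul_inv_rev]
  · rw [← h.r3]; simp only [pow_succ, pow_zero, one_mul, mul_assoc]
  · exact h.r4
  · rw [← h.r5]; simp only [pow_succ, pow_zero, one_mul, mul_assoc]
  · rw [← mul_inv_eq_one.2 h.r6]; simp only [pow_succ, pow_zero, one_mul, mul_assoc, _root_.mul_inv_rev]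
  · exact mul_inv_cancel x
  · exact mul_inv_cancel y

theorem Rel33p.sat (h : Rel33p x y t) : ∀ r ∈ rels33p, prodL (l5 x y t) r = 1 := by
  have ht : t⁻¹ = t := inv_eq_of_mul_eq_one_left h.r4
  intro r hr
  simp only [rels33p, List.mem_cons, List.not_mem_nil, or_false] at hr
  rcases hr with rfl | rfl | rfl | rfl | rfl | rfl | rfl | rfl <;>
    simp only [prodL, l5_1, l5_2, l5_3, l5_4, l5_5, mul_one]
  · rw [← h.r1]; simp only [pow_succ, pow_zero, one_mul, mul_assoc]
  · rw [← mul_inv_eq_one.2 h.r2]; simp only [pow_succ, pow_zero, one_mul, mul_assoc, _root_.mul_inv_rev]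
  · rw [← h.r3]; simp only [pow_succ, pow_zero, one_mul, mul_assoc]
  · exact h.r4
  · rw [← h.r5]; simp only [pow_succ, pow_zero, one_mul, mul_assoc]
  · rw [← mul_inv_eq_one.2 h.r6]; simp only [mul_assoc, _root_.mul_inv_rev, ht]
  · exact mul_inv_cancel x
  · exact mul_inv_cancel y

theorem Rel33.x_pow (h : Rel33 x y t) : x ^ 13 = 1 :=
  pow5 h.r4 cert33X rels33 cert33X_check rfl rfl h.sat cert33X_loop0

theorem Rel33p.x_pow (h : Rel33p x y t) : x ^ 13 = 1 :=
  pow5 h.r4 cert33pX rels33p cert33pX_check rfl rfl h.sat cert33pX_loop0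

theorem Rel33.bound (h : Rel33 x y t) :
    Finite (closure {x, y, t} : Subgroup G) ∧ Nat.card (closure {x, y, t} : Subgroup G) ≤ 432 * 13 :=
  bound5 h.r4 cert33K rels33 cert33K_check cert33K_close rfl rfl h.sat (by norm_num) h.x_pow

theorem Rel33p.bound (h : Rel33p x y t) :
    Finite (closure {x, y, t} : Subgroup G) ∧ Nat.card (closure {x, y, t} : Subgroup G) ≤ 432 * 13 :=
  bound5 h.r4 cert33pK rels33p cert33pK_check cert33pK_close rfl rfl h.sat (by norm_num) h.x_pow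

/-- an involution of the Borel subgroup -/
def sB (x y t : G) : G := x⁻¹ * y⁻¹ * t * x

/-- the second generator of the Sylow `3`-subgroup -/
def aB (x y t : G) : G := sB x y t * y * sB x y t

/-- the centre of the Sylow `3`-subgroup -/
def cB (x y t : G) : G := y * aB x y t * y⁻¹ * (aB x y t)⁻¹

theorem map_sB {H : Type*} [Group H] (φ : G →* H) : φ (sB x y t) = sB (φ x) (φ y) (φ t) := by
  simp only [sB, map_mul, map_inv]

theorem map_aB {H : Type*} [Group H] (φ : G →* H) : φ (aB x y t) = aB (φ x) (φ y) (φ t) := by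
  simp only [aB, map_mul, map_sB]

theorem map_cB {H : Type*} [Group H] (φ : G →* H) : φ (cB x y t) = cB (φ x) (φ y) (φ t) := by
  simp only [cB, map_mul, map_inv, map_aB]

theorem prodL_mem {g : ℕ → G} {L : Subgroup G} (h : ∀ s, g s ∈ L) (w : List ℕ) : prodL g w ∈ L := by
  induction w with
  | nil => exact one_mem L
  | cons s w ih => exact mul_mem (h s) ih

/-- A subgroup whose elements conjugate `c` to powers of `c` normalises `⟨c⟩`. -/
theorem le_norm_zpowers {N : Subgroup G} {c : G} (h : ∀ g ∈ N, g * c * g⁻¹ ∈ zpowers c) :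
    N ≤ normalizer ((zpowers c : Subgroup G) : Set G) := by
  have key : ∀ g ∈ N, ∀ z ∈ zpowers c, g * z * g⁻¹ ∈ zpowers c := by
    rintro g hg _ ⟨k, rfl⟩
    have h1 := zpow_mem (h g hg) k
    rwa [conj_zpow] at h1
  intro g hg
  rw [mem_normalizer_iff]
  refine fun z => ⟨key g hg z, fun hz => ?_⟩
  have h1 := key g⁻¹ (inv_mem hg) _ hz
  rwa [show g⁻¹ * (g * z * g⁻¹) * g⁻¹⁻¹ = z by group] at h1

/-- The normaliser of a cyclic group normalises its subgroups. -/
theorem norm_zpowers_le (u : G) (n : ℕ) :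
    normalizer ((zpowers u : Subgroup G) : Set G) ≤ normalizer ((zpowers (u ^ n) : Subgroup G) : Set G) := by
  refine le_norm_zpowers fun g hg => ?_
  obtain ⟨k, hk⟩ := (mem_normalizer_iff.1 hg u).1 (mem_zpowers u)
  refine ⟨k, ?_⟩
  have hk' : u ^ k = g * u * g⁻¹ := hk
  show (u ^ n) ^ k = _
  rw [← conj_pow, ← hk', ← zpow_natCast, ← zpow_natCast, ← _root_.zpow_mul, ← _root_.zpow_mul, mul_comm]

end

/-! ### the model -/

abbrev S33 : Type := Matrix.SpecialLinearGroup (Fin 3) (ZMod 3)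

def xs33 : S33 := ⟨!![2, 0, 2; 1, 0, 0; 0, 2, 1], by decide +kernel⟩
def xi33 : S33 := ⟨!![0, 1, 0; 2, 2, 2; 2, 2, 0], by decide +kernel⟩
def ys33 : S33 := ⟨!![1, 1, 0; 0, 1, 1; 0, 0, 1], by decide +kernel⟩
def yi33 : S33 := ⟨!![1, 2, 1; 0, 1, 2; 0, 0, 1], by decide +kernel⟩
def ts33 : S33 := ⟨!![2, 2, 0; 0, 1, 0; 0, 0, 2], by decide +kernel⟩
def ss33 : S33 := ⟨!![1, 2, 1; 0, 2, 0; 0, 0, 2], by decide +kernel⟩
def as33 : S33 := ⟨!![1, 2, 1; 0, 1, 1; 0, 0, 1], by decide +kernel⟩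
def cs33 : S33 := ⟨!![1, 0, 2; 0, 1, 0; 0, 0, 1], by decide +kernel⟩

theorem xs33_inv : xs33⁻¹ = xi33 := inv_eq_of_mul_eq_one_right (by decide +kernel)
theorem ys33_inv : ys33⁻¹ = yi33 := inv_eq_of_mul_eq_one_right (by decide +kernel)

theorem sB33 : sB xs33 ys33 ts33 = ss33 := by
  rw [sB, xs33_inv, ys33_inv]; decide +kernel

theorem aB33 : aB xs33 ys33 ts33 = as33 := by
  rw [aB, sB33]; decide +kernel

theorem cB33 : cB xs33 ys33 ts33 = cs33 := by
  rw [cB, aB33, mul_inv_eq_iff_eq_mul, mul_inv_eq_iff_eq_mul]; decide +kernel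

theorem rels33' : Rel33 xs33 ys33 ts33 := by
  refine ⟨?_, ?_, ?_, ?_, ?_, ?_⟩
  · decide +kernel
  · decide +kernel
  · decide +kernel
  · decide +kernel
  · decide +kernel
  · rw [xs33_inv]; decide +kernel

theorem rels33p' : Rel33p xs33 ys33 (ys33 * ts33) := by
  constructor <;> decide +kernel

/-- the letters -/
def g33 (s : ℕ) : S33 := [1, xs33, xi33, ys33, yi33, ts33].getD s 1

/-- words for the transvections -/
def w33 : List (List ℕ) :=
  [[], [1, 5, 2, 2, 4, 5, 2, 4], [1, 1, 1, 5, 1, 1, 5, 2], [1, 1, 1, 5, 2, 2, 4, 5, 1, 5], [2, 2, 2, 5, 1, 1, 4, 5, 2, 5],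
   [3, 5, 2, 5, 1, 3, 5, 2, 5, 1], [1, 1, 1, 5, 1, 4, 5, 2, 2, 5], [2, 3, 5, 2, 5, 2, 5], [5, 1, 5, 1, 3, 5, 1],
   [4, 2, 5, 2, 5, 2, 5], [5, 1, 5, 1, 5, 1, 3], [5, 1, 3, 5, 2, 5, 1, 3, 5, 2], [1, 3, 5, 2, 5, 1, 3, 5, 2, 5]]

theorem w33_ok : ∀ (i j : Fin 3) (c : ZMod 3), i ≠ j →
    ∃ w ∈ w33, Matrix.transvection i j c = (prodL g33 w).1 := by decide +kernel

theorem gens33 : (closure {xs33, ys33, ts33} : Subgroup S33) = ⊤ := by
  have : Fact (Nat.Prime 3) := ⟨Nat.prime_three⟩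
  have hx : xs33 ∈ (closure {xs33, ys33, ts33} : Subgroup S33) := subset_closure (Or.inl rfl)
  have hy : ys33 ∈ (closure {xs33, ys33, ts33} : Subgroup S33) := subset_closure (Or.inr (Or.inl rfl))
  have ht : ts33 ∈ (closure {xs33, ys33, ts33} : Subgroup S33) := subset_closure (Or.inr (Or.inr rfl))
  have hg : ∀ s, g33 s ∈ (closure {xs33, ys33, ts33} : Subgroup S33)
    | 0 => one_mem _
    | 1 => hx
    | 2 => by have h := inv_mem hx; rw [xs33_inv] at h; exact h
    | 3 => hy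
    | 4 => by have h := inv_mem hy; rw [ys33_inv] at h; exact h
    | 5 => ht
    | _ + 6 => one_mem _
  rw [eq_top_iff, ← LieClassical.SLGen.closure_transvections (ι := Fin 3) (F := ZMod 3), closure_le]
  rintro _ ⟨i, j, hij, c, rfl⟩
  obtain ⟨w, -, hw⟩ := w33_ok i j c hij
  have e : Matrix.SpecialLinearGroup.transvection hij c = prodL g33 w := Subtype.ext hw
  rw [e]
  exact prodL_mem hg w

/-- the projection -/
abbrev π33 : S33 →* L33 := QuotientGroup.mk' (center S33)

theorem π33_inj : Function.Injective π33 := by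
  rw [← MonoidHom.ker_eq_bot_iff, QuotientGroup.ker_mk', eq_bot_iff]
  intro A hA
  obtain ⟨r, hr, h⟩ := Matrix.SpecialLinearGroup.mem_center_iff.1 hA
  have h1 : ∀ r : ZMod 3, r ^ 3 = 1 → r = 1 := by decide
  rw [Fintype.card_fin] at hr
  rw [h1 r hr, map_one] at h
  exact mem_bot.2 (Subtype.ext h.symm)

/-- `SL_3(3) = L_3(3)` -/
noncomputable def e33 : S33 ≃* L33 := MulEquiv.ofBijective π33 ⟨π33_inj, QuotientGroup.mk'_surjective _⟩

theorem card_S33 : Nat.card S33 = 5616 := by rw [Nat.card_congr e33.toEquiv, Abs.card_33]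

theorem simple_S33 : IsSimpleGroup S33 := (MulEquiv.isSimpleGroup_congr e33).2 Abs.simple_33

/-- the elements of the Sylow `3`-subgroup -/
def f33 (p : Fin 3 × Fin 3 × Fin 3) : S33 := ys33 ^ p.1.1 * as33 ^ p.2.1.1 * cs33 ^ p.2.2.1

theorem f33_inj : ∀ p q, f33 p = f33 q → p = q := by decide +kernel
theorem f33_y : ∀ p, ∃ q, ys33 * f33 p = f33 q := by decide +kernel
theorem f33_a : ∀ p, ∃ q, as33 * f33 p = f33 q := by decide +kernel
theorem f33_c : ∀ p, f33 p * cs33 = cs33 * f33 p := by decide +kernel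
theorem f33_z : ∀ p, f33 p * ys33 = ys33 * f33 p → f33 p * as33 = as33 * f33 p → ∃ k < 3, f33 p = cs33 ^ k := by
  decide +kernel

theorem cs33_mem : cs33 ∈ (closure {ys33, as33} : Subgroup S33) := by
  have hy : ys33 ∈ (closure {ys33, as33} : Subgroup S33) := subset_closure (Or.inl rfl)
  have ha : as33 ∈ (closure {ys33, as33} : Subgroup S33) := subset_closure (Or.inr rfl)
  rw [← cB33, cB, aB33]
  exact mul_mem (mul_mem (mul_mem hy ha) (inv_mem hy)) (inv_mem ha)

theorem syl33 : ((closure {ys33, as33} : Subgroup S33) : Set S33) = Set.range f33 := by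
  apply Set.Subset.antisymm
  · refine Lib.VonDyck.closure_pair_subset (m := 2) (n := 2) (by decide +kernel) (by decide +kernel)
      ⟨(0, 0, 0), by decide +kernel⟩ ?_ ?_
    · rintro _ ⟨p, rfl⟩
      obtain ⟨q, hq⟩ := f33_y p
      exact ⟨q, hq.symm⟩
    · rintro _ ⟨p, rfl⟩
      obtain ⟨q, hq⟩ := f33_a p
      exact ⟨q, hq.symm⟩
  · rintro _ ⟨p, rfl⟩
    have hy : ys33 ∈ (closure {ys33, as33} : Subgroup S33) := subset_closure (Or.inl rfl)
    have ha : as33 ∈ (closure {ys33, as33} : Subgroup S33) := subset_closure (Or.inr rfl)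
    exact mul_mem (mul_mem (pow_mem hy _) (pow_mem ha _)) (pow_mem cs33_mem _)

theorem card_syl33 : Nat.card (closure {ys33, as33} : Subgroup S33) = 27 := by
  have h : Nat.card (closure {ys33, as33} : Subgroup S33) = Nat.card (Set.range f33) := by rw [← syl33]; rfl
  rw [h, Nat.card_range_of_injective f33_inj]
  simp

namespace Rel33

variable {G : Type*} [Group G] {x y t : G}

theorem hom (h : Rel33 x y t) : ∃ φ : S33 →* G, φ xs33 = x ∧ φ ys33 = y ∧ φ ts33 = t :=
  exists_hom3 gens33 (by rw [card_S33]; exact (rels33'.prod h).bound)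

theorem emb (h : Rel33 x y t) (hx : x ≠ 1) :
    ∃ φ : S33 →* G, Function.Injective φ ∧ φ xs33 = x ∧ φ ys33 = y ∧ φ ts33 = t := by
  obtain ⟨φ, h1, h2, h3⟩ := h.hom
  exact ⟨φ, inj_of (Abs.Q2.of_simple simple_S33) φ (X := xs33) (k := 6) (by rw [h1]; exact h.x_pow)
    (by rwa [h1]), h1, h2, h3⟩

/-- **The presentation of `L_3(3)`.** -/
theorem iso (h : Rel33 x y t) (hx : x ≠ 1) : Nonempty ((closure {x, y, t} : Subgroup G) ≃* L33) := by
  obtain ⟨φ, h0, h1, h2, h3⟩ := h.emb hx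
  obtain ⟨e⟩ := iso_of gens33 φ h0 h1 h2 h3
  exact ⟨e.trans e33⟩

theorem orderOf_x (h : Rel33 x y t) (hx : x ≠ 1) : orderOf x = 13 := by
  have : Fact (Nat.Prime 13) := ⟨by norm_num⟩
  exact orderOf_eq_prime h.x_pow hx

theorem orderOf_c (h : Rel33 x y t) (hx : x ≠ 1) : orderOf (cB x y t) = 3 := by
  have : Fact (Nat.Prime 3) := ⟨Nat.prime_three⟩
  obtain ⟨φ, h0, rfl, rfl, rfl⟩ := h.emb hx
  rw [← map_cB, cB33, orderOf_injective φ h0]
  exact orderOf_eq_prime (by decide +kernel) (by decide +kernel)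

/-- the Sylow `3`-subgroup -/
theorem card_syl (h : Rel33 x y t) (hx : x ≠ 1) : Nat.card (closure {y, aB x y t} : Subgroup G) = 27 := by
  obtain ⟨φ, h0, rfl, rfl, rfl⟩ := h.emb hx
  rw [← map_aB, aB33, ← Set.image_pair, ← MonoidHom.map_closure, card_map_of_injective h0, card_syl33]

theorem c_mem : cB x y t ∈ (closure {y, aB x y t} : Subgroup G) := by
  have hy : y ∈ (closure {y, aB x y t} : Subgroup G) := subset_closure (Or.inl rfl)
  have ha : aB x y t ∈ (closure {y, aB x y t} : Subgroup G) := subset_closure (Or.inr rfl)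
  exact mul_mem (mul_mem (mul_mem hy ha) (inv_mem hy)) (inv_mem ha)

theorem syl_le : (closure {y, aB x y t} : Subgroup G) ≤ closure {x, y, t} := by
  have hx : x ∈ (closure {x, y, t} : Subgroup G) := subset_closure (Or.inl rfl)
  have hy : y ∈ (closure {x, y, t} : Subgroup G) := subset_closure (Or.inr (Or.inl rfl))
  have ht : t ∈ (closure {x, y, t} : Subgroup G) := subset_closure (Or.inr (Or.inr rfl))
  have hs : sB x y t ∈ (closure {x, y, t} : Subgroup G) := mul_mem (mul_mem (mul_mem (inv_mem hx) (inv_mem hy)) ht) hx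
  rw [closure_le]
  rintro s (rfl | rfl)
  · exact hy
  · exact mul_mem (mul_mem hs hy) hs

/-- the normaliser of the Sylow `3`-subgroup normalises its centre -/
theorem norm_syl (h : Rel33 x y t) (hx : x ≠ 1) :
    normalizer ((closure {y, aB x y t} : Subgroup G) : Set G) ≤
      normalizer ((zpowers (cB x y t) : Subgroup G) : Set G) := by
  have hc := c_mem (x := x) (y := y) (t := t)
  obtain ⟨φ, h0, rfl, rfl, rfl⟩ := h.emb hx
  rw [← map_cB, cB33] at hc ⊢
  rw [← map_aB, aB33] at hc ⊢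
  have hP : ∀ g ∈ (closure {φ ys33, φ as33} : Subgroup G), ∃ p, g = φ (f33 p) := by
    intro g hg
    rw [← Set.image_pair, ← MonoidHom.map_closure] at hg
    obtain ⟨a, ha, rfl⟩ := hg
    rw [syl33] at ha
    obtain ⟨p, rfl⟩ := ha
    exact ⟨p, rfl⟩
  refine le_norm_zpowers fun g hg => ?_
  obtain ⟨p, hp⟩ := hP _ ((mem_normalizer_iff.1 hg _).1 hc)
  have key : ∀ a : S33, φ a ∈ (closure {φ ys33, φ as33} : Subgroup G) → f33 p * a = a * f33 p := by
    intro a ha
    obtain ⟨q, hq⟩ := hP _ ((mem_normalizer_iff''.1 hg _).1 ha)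
    have h1 := congrArg φ (f33_c q)
    rw [map_mul, map_mul, ← hq] at h1
    apply h0
    rw [map_mul, map_mul, ← hp]
    calc g * φ cs33 * g⁻¹ * φ a = g * (φ cs33 * (g⁻¹ * φ a * g)) * g⁻¹ := by group
      _ = g * (g⁻¹ * φ a * g * φ cs33) * g⁻¹ := by rw [h1]
      _ = _ := by group
  obtain ⟨k, -, hk⟩ := f33_z p (key _ (subset_closure (Or.inl rfl))) (key _ (subset_closure (Or.inr rfl)))
  rw [hp, hk, map_pow]
  exact pow_mem (mem_zpowers _) k

end Rel33

namespace Rel33p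

variable {G : Type*} [Group G] {x y t : G}

/-- From the positive relations to the short ones. -/
theorem rel33 (h : Rel33p x y t) : Rel33 x y (y⁻¹ * t) := by
  have hg : (closure {xs33, ys33, ys33 * ts33} : Subgroup S33) = ⊤ := by
    have hy : ys33 ∈ (closure {xs33, ys33, ys33 * ts33} : Subgroup S33) := subset_closure (Or.inr (Or.inl rfl))
    have ht : ys33 * ts33 ∈ (closure {xs33, ys33, ys33 * ts33} : Subgroup S33) := subset_closure (Or.inr (Or.inr rfl))
    rw [eq_top_iff, ← gens33, closure_le]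
    rintro s (rfl | rfl | rfl)
    · exact subset_closure (Or.inl rfl)
    · exact hy
    · exact (mul_mem_cancel_left hy).1 ht
  obtain ⟨φ, rfl, rfl, rfl⟩ := exists_hom3 hg (by rw [card_S33]; exact (rels33p'.prod h).bound)
  rw [map_mul, inv_mul_cancel_left]
  exact rels33'.map φ

theorem closure_eq : (closure {x, y, y⁻¹ * t} : Subgroup G) = closure {x, y, t} := by
  apply le_antisymm <;> rw [closure_le] <;> rintro s (rfl | rfl | rfl)
  · exact subset_closure (Or.inl rfl)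
  · exact subset_closure (Or.inr (Or.inl rfl))
  · exact mul_mem (inv_mem (subset_closure (Or.inr (Or.inl rfl)))) (subset_closure (Or.inr (Or.inr rfl)))
  · exact subset_closure (Or.inl rfl)
  · exact subset_closure (Or.inr (Or.inl rfl))
  · have hy : y ∈ (closure {x, y, y⁻¹ * s} : Subgroup G) := subset_closure (Or.inr (Or.inl rfl))
    have ht : y⁻¹ * s ∈ (closure {x, y, y⁻¹ * s} : Subgroup G) := subset_closure (Or.inr (Or.inr rfl))
    exact (mul_mem_cancel_left (inv_mem hy)).1 ht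

theorem iso (h : Rel33p x y t) (hx : x ≠ 1) : Nonempty ((closure {x, y, t} : Subgroup G) ≃* L33) := by
  rw [← closure_eq]
  exact h.rel33.iso hx

end Rel33p

end Cfsg.Agent.BMx.Pres
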