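import Cfsg.Agent.Lib.CosetFacts

/-!
# Groups on three generators given by relators: the general lemmas (helper78, for S5527)

`l5`, `l6` : the letters; `bound5`, `bound6` : order bound from a coset certificate over `⟨x⟩`;
`exists_hom3` : a homomorphism from the order bound; `inj_of` : its injectivity;
`pgl_eq`, `psl_eq` : equality in the projective groups.
-/

set_option autoImplicit false

namespace Cfsg.Agent.BMx.Pres

open Subgroup Cfsg.Agent.Lib.CosetFacts

section general

variable {G : Type*} [Group G]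

/-- letters `1 = x, 2 = x⁻¹, 3 = y, 4 = y⁻¹, 5 = t` -/
def l5 (x y t : G) (s : ℕ) : G := [1, x, x⁻¹, y, y⁻¹, t].getD s 1

/-- letters `1 = x, 2 = x⁻¹, 3 = y, 4 = y⁻¹, 5 = t, 6 = t⁻¹` -/
def l6 (x y t : G) (s : ℕ) : G := [1, x, x⁻¹, y, y⁻¹, t, t⁻¹].getD s 1

theorem l5_1 (x y t : G) : l5 x y t 1 = x := rfl
theorem l5_2 (x y t : G) : l5 x y t 2 = x⁻¹ := rfl
theorem l5_3 (x y t : G) : l5 x y t 3 = y := rfl
theorem l5_4 (x y t : G) : l5 x y t 4 = y⁻¹ := rfl
theorem l5_5 (x y t : G) : l5 x y t 5 = t := rfl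
theorem l6_1 (x y t : G) : l6 x y t 1 = x := rfl
theorem l6_2 (x y t : G) : l6 x y t 2 = x⁻¹ := rfl
theorem l6_3 (x y t : G) : l6 x y t 3 = y := rfl
theorem l6_4 (x y t : G) : l6 x y t 4 = y⁻¹ := rfl
theorem l6_5 (x y t : G) : l6 x y t 5 = t := rfl
theorem l6_6 (x y t : G) : l6 x y t 6 = t⁻¹ := rfl

theorem inv5 {x y t : G} (ht : t * t = 1) (C : Cert) (hC : C.inv = [0, 2, 1, 4, 3, 5]) (s : ℕ) :
    l5 x y t (C.ι s) = (l5 x y t s)⁻¹ := by
  unfold Cert.ι
  rw [hC]
  match s with
  | 0 => exact inv_one.symm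
  | 1 => rfl
  | 2 => exact (inv_inv x).symm
  | 3 => rfl
  | 4 => exact (inv_inv y).symm
  | 5 => exact eq_inv_of_mul_eq_one_left ht
  | _ + 6 => exact inv_one.symm

theorem inv6 (x y t : G) (C : Cert) (hC : C.inv = [0, 2, 1, 4, 3, 6, 5]) (s : ℕ) :
    l6 x y t (C.ι s) = (l6 x y t s)⁻¹ := by
  unfold Cert.ι
  rw [hC]
  match s with
  | 0 => exact inv_one.symm
  | 1 => rfl
  | 2 => exact (inv_inv x).symm
  | 3 => rfl
  | 4 => exact (inv_inv y).symm
  | 5 => rfl
  | 6 => exact (inv_inv t).symm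
  | _ + 7 => exact inv_one.symm

theorem prodL_rep (g : ℕ → G) (n s : ℕ) : prodL g (List.replicate n s) = g s ^ n := by
  induction n with
  | zero => rw [List.replicate_zero, pow_zero]; rfl
  | succ n ih => rw [List.replicate_succ, prodL_cons, ih, pow_succ']

theorem card_zpowers_le {x : G} {p : ℕ} (hp : 0 < p) (hx : x ^ p = 1) :
    Finite (zpowers x) ∧ Nat.card (zpowers x) ≤ p := by
  have h1 : IsOfFinOrder x := isOfFinOrder_iff_pow_eq_one.2 ⟨p, hp, hx⟩
  refine ⟨h1.finite_zpowers, ?_⟩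
  rw [Nat.card_zpowers]
  exact Nat.le_of_dvd hp (orderOf_dvd_of_pow_eq_one hx)

theorem bound_of {g : ℕ → G} {x y t : G} {m : ℕ} (hm : 5 ≤ m) (h1 : g 1 = x) (h3 : g 3 = y) (h5 : g 5 = t)
    (h0 : g 0 = 1) (C : Cert) (rels : List (List ℕ)) (hC : C.check rels = true) {nl L D : ℕ}
    (hD : C.checkClose nl m L D = true) (hι : ∀ s, g (C.ι s) = (g s)⁻¹) (hsl : C.sl = [1])
    (hrel : ∀ r ∈ rels, prodL g r = 1) {p : ℕ} (hp : 0 < p) (hx : x ^ p = 1) :
    Finite (closure {x, y, t} : Subgroup G) ∧ Nat.card (closure {x, y, t} : Subgroup G) ≤ nl * p := by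
  obtain ⟨hf, hc⟩ := card_zpowers_le hp hx
  have h := card_le C rels hC nl m L D hD g hι h0 hrel (zpowers x) (by
    intro s hs
    rw [hsl, List.mem_singleton] at hs
    rw [hs, h1]
    exact mem_zpowers x) (closure {x, y, t}) (closure_mono (by
      rintro s (rfl | rfl | rfl)
      · exact ⟨1, ⟨le_rfl, by omega⟩, h1⟩
      · exact ⟨3, ⟨by omega, by omega⟩, h3⟩
      · exact ⟨5, ⟨by omega, hm⟩, h5⟩))
  exact ⟨h.1, h.2.trans (Nat.mul_le_mul_left _ hc)⟩

theorem bound5 {x y t : G} (ht : t * t = 1) (C : Cert) (rels : List (List ℕ)) (hC : C.check rels = true) {nl L D : ℕ}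
    (hD : C.checkClose nl 5 L D = true) (hi : C.inv = [0, 2, 1, 4, 3, 5]) (hsl : C.sl = [1])
    (hrel : ∀ r ∈ rels, prodL (l5 x y t) r = 1) {p : ℕ} (hp : 0 < p) (hx : x ^ p = 1) :
    Finite (closure {x, y, t} : Subgroup G) ∧ Nat.card (closure {x, y, t} : Subgroup G) ≤ nl * p :=
  bound_of le_rfl rfl rfl rfl rfl C rels hC hD (inv5 ht C hi) hsl hrel hp hx

theorem bound6 {x y t : G} (C : Cert) (rels : List (List ℕ)) (hC : C.check rels = true) {nl L D : ℕ}
    (hD : C.checkClose nl 6 L D = true) (hi : C.inv = [0, 2, 1, 4, 3, 6, 5]) (hsl : C.sl = [1])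
    (hrel : ∀ r ∈ rels, prodL (l6 x y t) r = 1) {p : ℕ} (hp : 0 < p) (hx : x ^ p = 1) :
    Finite (closure {x, y, t} : Subgroup G) ∧ Nat.card (closure {x, y, t} : Subgroup G) ≤ nl * p :=
  bound_of (by norm_num) rfl rfl rfl rfl C rels hC hD (inv6 x y t C hi) hsl hrel hp hx

theorem pow5 {x y t : G} (ht : t * t = 1) (C : Cert) (rels : List (List ℕ)) (hC : C.check rels = true)
    (hi : C.inv = [0, 2, 1, 4, 3, 5]) (hsl : C.sl = []) (hrel : ∀ r ∈ rels, prodL (l5 x y t) r = 1) {p D : ℕ}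
    (h : C.checkLoop 0 p D (List.replicate p 1) = true) : x ^ p = 1 := by
  have h1 := loop_eq_one C rels hC (l5 x y t) (inv5 ht C hi) rfl hrel hsl 0 p D _ h
  rwa [prodL_rep] at h1

theorem pow6 {x y t : G} (C : Cert) (rels : List (List ℕ)) (hC : C.check rels = true)
    (hi : C.inv = [0, 2, 1, 4, 3, 6, 5]) (hsl : C.sl = []) (hrel : ∀ r ∈ rels, prodL (l6 x y t) r = 1) {p D : ℕ}
    (h : C.checkLoop 0 p D (List.replicate p 1) = true) : x ^ p = 1 := by
  have h1 := loop_eq_one C rels hC (l6 x y t) (inv6 x y t C hi) rfl hrel hsl 0 p D _ h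
  rwa [prodL_rep] at h1

variable {P : Type*} [Group P]

theorem range_eq {X Y T : P} (hgen : closure {X, Y, T} = ⊤) (φ : P →* G) :
    φ.range = closure {φ X, φ Y, φ T} := by
  rw [MonoidHom.range_eq_map, ← hgen, MonoidHom.map_closure, Set.image_insert_eq, Set.image_pair]

/-- The homomorphism given by an order bound for the group generated by the pairs. -/
theorem exists_hom3 [Finite P] {X Y T : P} (hgen : closure {X, Y, T} = ⊤) {x y t : G}
    (h : Finite (closure {(X, x), (Y, y), (T, t)} : Subgroup (P × G)) ∧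
      Nat.card (closure {(X, x), (Y, y), (T, t)} : Subgroup (P × G)) ≤ Nat.card P) :
    ∃ φ : P →* G, φ X = x ∧ φ Y = y ∧ φ T = t := by
  obtain ⟨hfin, hcard⟩ := h
  set K : Subgroup (P × G) := closure {(X, x), (Y, y), (T, t)} with hK
  let p : K →* P := (MonoidHom.fst P G).comp K.subtype
  have hmap : K.map (MonoidHom.fst P G) = ⊤ := by
    rw [hK, MonoidHom.map_closure, Set.image_insert_eq, Set.image_pair]
    exact hgen
  have hsurj : Function.Surjective p := by
    intro a
    have ha : a ∈ K.map (MonoidHom.fst P G) := by rw [hmap]; trivial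
    obtain ⟨b, hb, rfl⟩ := ha
    exact ⟨⟨b, hb⟩, rfl⟩
  have hbij : Function.Bijective p := by
    have : Nat.card K = Nat.card P := le_antisymm hcard (Nat.card_le_card_of_surjective p hsurj)
    exact (Nat.bijective_iff_surjective_and_card p).2 ⟨hsurj, this⟩
  let e : K ≃* P := MulEquiv.ofBijective p hbij
  have key : ∀ (a : P) (b : G), (a, b) ∈ K →
      (((MonoidHom.snd P G).comp K.subtype).comp e.symm.toMonoidHom) a = b := by
    intro a b hab
    have : e.symm a = ⟨(a, b), hab⟩ := by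
      rw [MulEquiv.symm_apply_eq]; rfl
    show (e.symm a : P × G).2 = b
    rw [this]
  exact ⟨_, key X x (subset_closure (by simp)), key Y y (subset_closure (by simp)),
    key T t (subset_closure (by simp))⟩

/-- Injectivity, when every nontrivial normal subgroup has index at most two. -/
theorem inj_of (hQ : ∀ M : Subgroup P, M.Normal → M = ⊥ ∨ M.index ∣ 2) (φ : P →* G) {X : P} {k : ℕ}
    (hX : φ X ^ (2 * k + 1) = 1) (hx : φ X ≠ 1) : Function.Injective φ := by
  rw [← MonoidHom.ker_eq_bot_iff]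
  rcases hQ φ.ker inferInstance with h | h
  · exact h
  · exfalso
    apply hx
    obtain ⟨c, hc⟩ := h
    have h1 : X ^ 2 ∈ φ.ker := by
      rw [hc, pow_mul]
      exact pow_mem (pow_index_mem φ.ker X) c
    rw [MonoidHom.mem_ker, map_pow] at h1
    rwa [pow_succ, pow_mul, h1, one_pow, one_mul] at hX

theorem iso_of {X Y T : P} (hgen : closure {X, Y, T} = ⊤) (φ : P →* G) (hφ : Function.Injective φ) {x y t : G}
    (h1 : φ X = x) (h2 : φ Y = y) (h3 : φ T = t) : Nonempty ((closure {x, y, t} : Subgroup G) ≃* P) := by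
  have h := range_eq hgen φ
  rw [h1, h2, h3] at h
  exact ⟨(MulEquiv.subgroupCongr h.symm).trans (MonoidHom.ofInjective hφ).symm⟩

end general

/-! ### projective groups -/

section proj

open Matrix

variable {n R : Type*} [Fintype n] [DecidableEq n] [CommRing R]

theorem pgl_eq {A B : GL n R} (r : R) (h : (A : Matrix n n R) = r • (B : Matrix n n R)) :
    QuotientGroup.mk' (center (GL n R)) A = QuotientGroup.mk' (center (GL n R)) B := by
  rw [eq_comm, QuotientGroup.mk'_apply, QuotientGroup.mk'_apply, QuotientGroup.eq, mem_center_iff]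
  intro g
  have h1 : ((B⁻¹ * A : GL n R) : Matrix n n R) = r • (1 : Matrix n n R) := by
    rw [Units.val_mul, h, Matrix.mul_smul, ← Units.val_mul, inv_mul_cancel, Units.val_one]
  apply Units.ext
  rw [Units.val_mul g, Units.val_mul _ g, h1, Matrix.mul_smul, Matrix.smul_mul, mul_one, one_mul]

theorem psl_eq {A B : SpecialLinearGroup n R} (r : R) (h : (A : Matrix n n R) = r • (B : Matrix n n R)) :
    QuotientGroup.mk' (center (SpecialLinearGroup n R)) A = QuotientGroup.mk' (center (SpecialLinearGroup n R)) B := by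
  rw [eq_comm, QuotientGroup.mk'_apply, QuotientGroup.mk'_apply, QuotientGroup.eq, mem_center_iff]
  intro g
  have h1 : ((B⁻¹ * A : SpecialLinearGroup n R) : Matrix n n R) = r • (1 : Matrix n n R) := by
    rw [Matrix.SpecialLinearGroup.coe_mul, h, Matrix.mul_smul, ← Matrix.SpecialLinearGroup.coe_mul, inv_mul_cancel,
      Matrix.SpecialLinearGroup.coe_one]
  apply Subtype.ext
  show ((g * (B⁻¹ * A) : SpecialLinearGroup n R) : Matrix n n R) = ((B⁻¹ * A * g : SpecialLinearGroup n R) : Matrix n n R)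
  rw [Matrix.SpecialLinearGroup.coe_mul g, Matrix.SpecialLinearGroup.coe_mul _ g, h1, Matrix.mul_smul, Matrix.smul_mul, mul_one,
    one_mul]

/-- an element which does not commute with some element has a nontrivial image modulo the centre -/
theorem mk_ne_one {S : Type*} [Group S] {A B : S} (h : B * A ≠ A * B) : QuotientGroup.mk' (center S) A ≠ 1 := by
  intro h1
  rw [QuotientGroup.mk'_apply, QuotientGroup.eq_one_iff, mem_center_iff] at h1
  exact h (h1 B)

theorem top_of_comap {S : Type*} [Group S] {L : Subgroup (S ⧸ center S)}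
    (h : ∀ A : S, QuotientGroup.mk' (center S) A ∈ L) : L = ⊤ := by
  rw [eq_top_iff]
  rintro a -
  obtain ⟨A, rfl⟩ := QuotientGroup.mk'_surjective (center S) a
  exact h A

end proj

end Cfsg.Agent.BMx.Pres
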