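import Cfsg.Agent.BMx.PresLib
import Cfsg.Agent.BMx.PresCert
import Cfsg.Agent.BMx.AbsGrp
import Cfsg.Agent.H995.LB.PSL

/-!
# `PGL_2(11)` and `PGL_2(17)` by relators (helper78, for S5527)
-/

set_option autoImplicit false

namespace Cfsg.Agent.BMx.Pres

open Subgroup Matrix Cfsg.Agent.Lib.CosetFacts

/-- Generation of `GL_2` over a prime field. -/
theorem gl_gen {p : ℕ} [Fact p.Prime] (L : Subgroup (GL (Fin 2) (ZMod p))) {X Y T : GL (Fin 2) (ZMod p)}
    (hX : X ∈ L) (hY : Y ∈ L) (hT : T ∈ L) (eX : (X : Matrix (Fin 2) (Fin 2) (ZMod p)) = !![1, 1; 0, 1])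
    (eT : (T : Matrix (Fin 2) (Fin 2) (ZMod p)) = !![0, 1; -1, 0]) {k : ZMod p}
    (eY : (Y : Matrix (Fin 2) (Fin 2) (ZMod p)) = !![k, 0; 0, 1]) (hk : ∀ a : ZMod p, a ≠ 0 → ∃ j : ℕ, a * k ^ j = 1)
    (A : GL (Fin 2) (ZMod p)) : A ∈ L := by
  have h1 : Subgroup.closure {H995.LB.mx (ZMod p), H995.LB.mt (ZMod p)} = ⊤ :=
    H995.LB.closure_sl fun a => ⟨a.val, ZMod.natCast_zmod_val a⟩
  have h2 : Subgroup.closure {H995.LB.mx (ZMod p), H995.LB.mt (ZMod p)} ≤
      L.comap Matrix.SpecialLinearGroup.toGL := by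
    rw [closure_le]
    rintro s (rfl | rfl)
    · have e : Matrix.SpecialLinearGroup.toGL (H995.LB.mx (ZMod p)) = X := Units.ext eX.symm
      show Matrix.SpecialLinearGroup.toGL (H995.LB.mx (ZMod p)) ∈ L
      rwa [e]
    · have e : Matrix.SpecialLinearGroup.toGL (H995.LB.mt (ZMod p)) = T := Units.ext eT.symm
      show Matrix.SpecialLinearGroup.toGL (H995.LB.mt (ZMod p)) ∈ L
      rwa [e]
  rw [h1] at h2
  obtain ⟨j, hj⟩ := hk (A : Matrix (Fin 2) (Fin 2) (ZMod p)).det (Matrix.GeneralLinearGroup.det_ne_zero A)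
  have hd : ((A * Y ^ j : GL (Fin 2) (ZMod p)) : Matrix (Fin 2) (Fin 2) (ZMod p)).det = 1 := by
    rw [Units.val_mul, Units.val_pow_eq_pow_val, Matrix.det_mul, Matrix.det_pow, eY, Matrix.det_fin_two_of, mul_one,
      mul_zero, sub_zero, hj]
  have h3 : Matrix.SpecialLinearGroup.toGL (⟨_, hd⟩ : Matrix.SpecialLinearGroup (Fin 2) (ZMod p)) ∈ L := h2 (mem_top _)
  have h4 : Matrix.SpecialLinearGroup.toGL (⟨_, hd⟩ : Matrix.SpecialLinearGroup (Fin 2) (ZMod p)) = A * Y ^ j :=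
    Units.ext rfl
  rw [h4] at h3
  exact (mul_mem_cancel_right (pow_mem hY j)).1 h3

/-! ### `PGL_2(11)` -/

/-- The relations of `PGL_2(11)`. -/
structure Rel11 {G : Type*} [Group G] (x y t : G) : Prop where
  r1 : y * x = x ^ 2 * y
  r2 : y ^ 2 * x ^ 3 = x * y ^ 2
  r3 : t * t = 1
  r4 : (t * y) ^ 2 = 1
  r5 : (x * t) ^ 3 = 1

namespace Rel11

variable {G : Type*} [Group G] {x y t : G}

theorem prod {H : Type*} [Group H] {a b c : H} (k : Rel11 a b c) (h : Rel11 x y t) :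
    Rel11 ((a, x) : H × G) (b, y) (c, t) :=
  ⟨Prod.ext k.r1 h.r1, Prod.ext k.r2 h.r2, Prod.ext k.r3 h.r3, Prod.ext k.r4 h.r4, Prod.ext k.r5 h.r5⟩

theorem sat (h : Rel11 x y t) : ∀ r ∈ rels11, prodL (l5 x y t) r = 1 := by
  intro r hr
  simp only [rels11, List.mem_cons, List.not_mem_nil, or_false] at hr
  rcases hr with rfl | rfl | rfl | rfl | rfl | rfl | rfl <;>
    simp only [prodL, l5_1, l5_2, l5_3, l5_4, l5_5, mul_one]
  · rw [← mul_inv_eq_one.2 h.r1]; simp only [pow_succ, pow_zero, one_mul, mul_assoc, _root_.mul_inv_rev]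
  · rw [← mul_inv_eq_one.2 h.r2]; simp only [pow_succ, pow_zero, one_mul, mul_assoc, _root_.mul_inv_rev]
  · exact h.r3
  · rw [← h.r4]; simp only [pow_succ, pow_zero, one_mul, mul_assoc]
  · rw [← h.r5]; simp only [pow_succ, pow_zero, one_mul, mul_assoc]
  · exact mul_inv_cancel x
  · exact mul_inv_cancel y

theorem x_pow (h : Rel11 x y t) : x ^ 11 = 1 :=
  pow5 h.r3 cert11X rels11 cert11X_check rfl rfl h.sat cert11X_loop0

theorem bound (h : Rel11 x y t) :
    Finite (closure {x, y, t} : Subgroup G) ∧ Nat.card (closure {x, y, t} : Subgroup G) ≤ 120 * 11 :=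
  bound5 h.r3 cert11K rels11 cert11K_check cert11K_close rfl rfl h.sat (by norm_num) h.x_pow

end Rel11

abbrev S11 : Type := GL (Fin 2) (ZMod 11)

def xs11 : S11 := ⟨!![1, 1; 0, 1], !![1, -1; 0, 1], by decide +kernel, by decide +kernel⟩
def ys11 : S11 := ⟨!![2, 0; 0, 1], !![6, 0; 0, 1], by decide +kernel, by decide +kernel⟩
def ts11 : S11 := ⟨!![0, 1; -1, 0], !![0, -1; 1, 0], by decide +kernel, by decide +kernel⟩

/-- the projection -/
abbrev π11 : S11 →* PGL211 := QuotientGroup.mk' (center S11)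

def X11 : PGL211 := π11 xs11
def Y11 : PGL211 := π11 ys11
def T11 : PGL211 := π11 ts11

theorem rel11 : Rel11 X11 Y11 T11 := by
  unfold X11 Y11 T11
  refine ⟨?_, ?_, ?_, ?_, ?_⟩ <;> simp only [← map_pow, ← map_mul]
  · exact pgl_eq 1 (by decide +kernel)
  · exact pgl_eq 1 (by decide +kernel)
  · rw [← map_one π11]; exact pgl_eq (-1) (by decide +kernel)
  · rw [← map_one π11]; exact pgl_eq (-2) (by decide +kernel)
  · rw [← map_one π11]; exact pgl_eq 1 (by decide +kernel)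

theorem prim11 : ∀ a : ZMod 11, a ≠ 0 → ∃ j < 11, a * 2 ^ j = 1 := by decide +kernel

theorem gen11 : (closure {X11, Y11, T11} : Subgroup PGL211) = ⊤ := by
  have := Abs.f11
  apply top_of_comap
  intro A
  refine gl_gen ((Subgroup.closure {X11, Y11, T11}).comap π11) (X := xs11) (Y := ys11) (T := ts11)
    (Subgroup.subset_closure (k := {X11, Y11, T11}) (Or.inl rfl))
    (Subgroup.subset_closure (k := {X11, Y11, T11}) (Or.inr (Or.inl rfl)))
    (Subgroup.subset_closure (k := {X11, Y11, T11}) (Or.inr (Or.inr rfl))) rfl rfl (k := 2) rfl ?_ A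
  intro a ha
  obtain ⟨j, -, hj⟩ := prim11 a ha
  exact ⟨j, hj⟩

theorem X11_ne : X11 ≠ 1 := mk_ne_one (B := ts11) (by decide +kernel)

theorem orderOf_Y11 : orderOf Y11 = 10 := by
  refine orderOf_eq_of_pow_and_pow_div_prime (by norm_num) ?_ fun p hp hd => ?_
  · unfold Y11
    rw [← map_pow, ← map_one π11]
    exact pgl_eq 1 (by decide +kernel)
  have h1 : p = 2 ∨ p = 5 := by
    have h2 := Nat.le_of_dvd (by norm_num) hd
    interval_cases p <;> first | (exfalso; revert hp hd; decide) | simp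
  unfold Y11
  rw [← map_pow]
  rcases h1 with rfl | rfl
  · exact mk_ne_one (B := xs11) (by decide +kernel)
  · exact mk_ne_one (B := xs11) (by decide +kernel)

namespace Rel11

variable {G : Type*} [Group G] {x y t : G}

theorem hom (h : Rel11 x y t) : ∃ φ : PGL211 →* G, φ X11 = x ∧ φ Y11 = y ∧ φ T11 = t := by
  have : Finite PGL211 := Nat.finite_of_card_ne_zero (by rw [Abs.card_11]; norm_num)
  exact exists_hom3 gen11 (by rw [Abs.card_11]; exact (rel11.prod h).bound)

theorem emb (h : Rel11 x y t) (hx : x ≠ 1) :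
    ∃ φ : PGL211 →* G, Function.Injective φ ∧ φ X11 = x ∧ φ Y11 = y ∧ φ T11 = t := by
  obtain ⟨φ, h1, h2, h3⟩ := h.hom
  exact ⟨φ, inj_of Abs.q2_11 φ (X := X11) (k := 5) (by rw [h1]; exact h.x_pow) (by rwa [h1]), h1, h2, h3⟩

/-- **The presentation of `PGL_2(11)`.** -/
theorem iso (h : Rel11 x y t) (hx : x ≠ 1) : Nonempty ((closure {x, y, t} : Subgroup G) ≃* PGL211) := by
  obtain ⟨φ, h0, h1, h2, h3⟩ := h.emb hx
  exact iso_of gen11 φ h0 h1 h2 h3

theorem orderOf_x (h : Rel11 x y t) (hx : x ≠ 1) : orderOf x = 11 := by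
  have := Abs.f11
  exact orderOf_eq_prime h.x_pow hx

theorem orderOf_y (h : Rel11 x y t) (hx : x ≠ 1) : orderOf y = 10 := by
  obtain ⟨φ, h0, -, h2, -⟩ := h.emb hx
  rw [← h2, orderOf_injective φ h0, orderOf_Y11]

theorem orderOf_y2 (h : Rel11 x y t) (hx : x ≠ 1) : orderOf (y ^ 2) = 5 := by
  rw [orderOf_pow' y (by norm_num), h.orderOf_y hx]
  rfl

end Rel11

/-! ### `PGL_2(17)` -/

/-- The relations of `PGL_2(17)`. -/
structure Rel17 {G : Type*} [Group G] (x y t : G) : Prop where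
  r1 : y * x = x ^ 3 * y
  r2 : y ^ 2 * x ^ 2 = x * y ^ 2
  r3 : t * t = 1
  r4 : (t * y) ^ 2 = 1
  r5 : (x * t) ^ 3 = 1

namespace Rel17

variable {G : Type*} [Group G] {x y t : G}

theorem prod {H : Type*} [Group H] {a b c : H} (k : Rel17 a b c) (h : Rel17 x y t) :
    Rel17 ((a, x) : H × G) (b, y) (c, t) :=
  ⟨Prod.ext k.r1 h.r1, Prod.ext k.r2 h.r2, Prod.ext k.r3 h.r3, Prod.ext k.r4 h.r4, Prod.ext k.r5 h.r5⟩

theorem sat (h : Rel17 x y t) : ∀ r ∈ rels17, prodL (l5 x y t) r = 1 := by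
  intro r hr
  simp only [rels17, List.mem_cons, List.not_mem_nil, or_false] at hr
  rcases hr with rfl | rfl | rfl | rfl | rfl | rfl | rfl <;>
    simp only [prodL, l5_1, l5_2, l5_3, l5_4, l5_5, mul_one]
  · rw [← mul_inv_eq_one.2 h.r1]; simp only [pow_succ, pow_zero, one_mul, mul_assoc, _root_.mul_inv_rev]
  · rw [← mul_inv_eq_one.2 h.r2]; simp only [pow_succ, pow_zero, one_mul, mul_assoc, _root_.mul_inv_rev]
  · exact h.r3
  · rw [← h.r4]; simp only [pow_succ, pow_zero, one_mul, mul_assoc]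
  · rw [← h.r5]; simp only [pow_succ, pow_zero, one_mul, mul_assoc]
  · exact mul_inv_cancel x
  · exact mul_inv_cancel y

theorem x_pow (h : Rel17 x y t) : x ^ 17 = 1 :=
  pow5 h.r3 cert17X rels17 cert17X_check rfl rfl h.sat cert17X_loop0

theorem bound (h : Rel17 x y t) :
    Finite (closure {x, y, t} : Subgroup G) ∧ Nat.card (closure {x, y, t} : Subgroup G) ≤ 288 * 17 :=
  bound5 h.r3 cert17K rels17 cert17K_check cert17K_close rfl rfl h.sat (by norm_num) h.x_pow

end Rel17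

abbrev S17 : Type := GL (Fin 2) (ZMod 17)

def xs17 : S17 := ⟨!![1, 1; 0, 1], !![1, -1; 0, 1], by decide +kernel, by decide +kernel⟩
def ys17 : S17 := ⟨!![3, 0; 0, 1], !![6, 0; 0, 1], by decide +kernel, by decide +kernel⟩
def ts17 : S17 := ⟨!![0, 1; -1, 0], !![0, -1; 1, 0], by decide +kernel, by decide +kernel⟩

/-- the projection -/
abbrev π17 : S17 →* PGL217 := QuotientGroup.mk' (center S17)

def X17 : PGL217 := π17 xs17
def Y17 : PGL217 := π17 ys17
def T17 : PGL217 := π17 ts17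

theorem rel17 : Rel17 X17 Y17 T17 := by
  unfold X17 Y17 T17
  refine ⟨?_, ?_, ?_, ?_, ?_⟩ <;> simp only [← map_pow, ← map_mul]
  · exact pgl_eq 1 (by decide +kernel)
  · exact pgl_eq 1 (by decide +kernel)
  · rw [← map_one π17]; exact pgl_eq (-1) (by decide +kernel)
  · rw [← map_one π17]; exact pgl_eq (-3) (by decide +kernel)
  · rw [← map_one π17]; exact pgl_eq 1 (by decide +kernel)

theorem prim17 : ∀ a : ZMod 17, a ≠ 0 → ∃ j < 17, a * 3 ^ j = 1 := by decide +kernel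

theorem gen17 : (closure {X17, Y17, T17} : Subgroup PGL217) = ⊤ := by
  have := Abs.f17
  apply top_of_comap
  intro A
  refine gl_gen ((Subgroup.closure {X17, Y17, T17}).comap π17) (X := xs17) (Y := ys17) (T := ts17)
    (Subgroup.subset_closure (k := {X17, Y17, T17}) (Or.inl rfl))
    (Subgroup.subset_closure (k := {X17, Y17, T17}) (Or.inr (Or.inl rfl)))
    (Subgroup.subset_closure (k := {X17, Y17, T17}) (Or.inr (Or.inr rfl))) rfl rfl (k := 3) rfl ?_ A
  intro a ha
  obtain ⟨j, -, hj⟩ := prim17 a ha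
  exact ⟨j, hj⟩

theorem X17_ne : X17 ≠ 1 := mk_ne_one (B := ts17) (by decide +kernel)

theorem orderOf_Y17 : orderOf Y17 = 16 := by
  refine orderOf_eq_of_pow_and_pow_div_prime (by norm_num) ?_ fun p hp hd => ?_
  · unfold Y17
    rw [← map_pow, ← map_one π17]
    exact pgl_eq 1 (by decide +kernel)
  have h1 : p = 2 ∨ p = 2 := by
    have h2 := Nat.le_of_dvd (by norm_num) hd
    interval_cases p <;> first | (exfalso; revert hp hd; decide) | simp
  unfold Y17
  rw [← map_pow]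
  rcases h1 with rfl | rfl
  · exact mk_ne_one (B := xs17) (by decide +kernel)
  · exact mk_ne_one (B := xs17) (by decide +kernel)

namespace Rel17

variable {G : Type*} [Group G] {x y t : G}

theorem hom (h : Rel17 x y t) : ∃ φ : PGL217 →* G, φ X17 = x ∧ φ Y17 = y ∧ φ T17 = t := by
  have : Finite PGL217 := Nat.finite_of_card_ne_zero (by rw [Abs.card_17]; norm_num)
  exact exists_hom3 gen17 (by rw [Abs.card_17]; exact (rel17.prod h).bound)

theorem emb (h : Rel17 x y t) (hx : x ≠ 1) :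
    ∃ φ : PGL217 →* G, Function.Injective φ ∧ φ X17 = x ∧ φ Y17 = y ∧ φ T17 = t := by
  obtain ⟨φ, h1, h2, h3⟩ := h.hom
  exact ⟨φ, inj_of Abs.q2_17 φ (X := X17) (k := 8) (by rw [h1]; exact h.x_pow) (by rwa [h1]), h1, h2, h3⟩

/-- **The presentation of `PGL_2(17)`.** -/
theorem iso (h : Rel17 x y t) (hx : x ≠ 1) : Nonempty ((closure {x, y, t} : Subgroup G) ≃* PGL217) := by
  obtain ⟨φ, h0, h1, h2, h3⟩ := h.emb hx
  exact iso_of gen17 φ h0 h1 h2 h3

theorem orderOf_x (h : Rel17 x y t) (hx : x ≠ 1) : orderOf x = 17 := by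
  have := Abs.f17
  exact orderOf_eq_prime h.x_pow hx

theorem orderOf_y (h : Rel17 x y t) (hx : x ≠ 1) : orderOf y = 16 := by
  obtain ⟨φ, h0, -, h2, -⟩ := h.emb hx
  rw [← h2, orderOf_injective φ h0, orderOf_Y17]

/-- an element of order `18`, inverted by `t` -/
theorem u18 (h : Rel17 x y t) (hx : x ≠ 1) :
    orderOf (x * t * x * y * x) = 18 ∧ t * (x * t * x * y * x) * t * (x * t * x * y * x) = 1 := by
  obtain ⟨φ, h0, rfl, rfl, rfl⟩ := h.emb hx
  simp only [← map_mul]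
  constructor
  · rw [orderOf_injective φ h0]
    unfold X17 Y17 T17
    simp only [← map_mul]
    refine orderOf_eq_of_pow_and_pow_div_prime (by norm_num) ?_ fun p hp hd => ?_
    · rw [← map_pow, ← map_one π17]
      exact pgl_eq 3 (by decide +kernel)
    have h1 : p = 2 ∨ p = 3 := by
      have h2 := Nat.le_of_dvd (by norm_num) hd
      interval_cases p <;> first | (exfalso; revert hp hd; decide) | simp
    rw [← map_pow]
    rcases h1 with rfl | rfl
    · exact mk_ne_one (B := xs17) (by decide +kernel)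
    · exact mk_ne_one (B := xs17) (by decide +kernel)
  · rw [← map_one φ]
    congr 1
    unfold X17 Y17 T17
    simp only [← map_mul]
    rw [← map_one π17]
    exact pgl_eq 14 (by decide +kernel)

end Rel17

end Cfsg.Agent.BMx.Pres
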