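import Cfsg.Agent.BMx.Prim
import Cfsg.Agent.BMx.No46End
import Cfsg.Agent.BMx.Top
import Cfsg.Agent.BMx.AbsThEnd

/-!
# The tests in any group isomorphic to the Baby Monster, and the assembly (helper77, for S5527)

`quo11`, `quo13`, `cent17` : the inputs of the primary tests; `no46_*` ; `tst46`, `tst47`, `tst31` ; `main_G`.
-/

set_option autoImplicit false

namespace Cfsg.Agent.BMx.Prim

open Subgroup

section transfer

variable {G H : Type} [Group G] [Group H] (e : G ≃* H)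

theorem map_ne_top {X : Subgroup G} (hX : X ≠ ⊤) : X.map (e : G →* H) ≠ ⊤ := fun h =>
  hX (map_injective e.injective (h.trans (map_top_of_surjective _ e.surjective).symm))

theorem nt_map {K : Subgroup G} {n : ℕ} (h : NT K n) : NT (K.map (e : G →* H)) n := by
  obtain ⟨A, h1, h2, h3⟩ := h
  refine ⟨A.map (e : G →* H), map_mono h1, (card_map_of_injective e.injective).trans h2, fun X hKX hX y hy => ?_⟩
  obtain ⟨y, rfl⟩ := e.surjective y
  refine ⟨y, h3 (X.comap (e : G →* H)) (map_le_iff_le_comap.1 hKX) (fun h => hX ?_) ⟨hy.1, ?_⟩, rfl⟩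
  · rw [← map_comap_eq_self_of_surjective (f := (e : G →* H)) e.surjective X, h]
    exact map_top_of_surjective _ e.surjective
  · refine mem_normalizer_iff.2 fun a => ?_
    have h4 := mem_normalizer_iff.1 hy.2 (e a)
    rw [← map_inv, ← map_mul, ← map_mul] at h4
    exact ((mem_map_iff_mem (f := (e : G →* H)) e.injective).symm.trans h4).trans (mem_map_iff_mem (f := (e : G →* H)) e.injective)

theorem no46_of_map {K : Subgroup G} (h : No46 (K.map (e : G →* H))) : No46 K := fun X hKX hX g hg h46 =>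
  h _ (map_mono hKX) (map_ne_top e hX) (e g) ⟨g, hg, rfl⟩ (by rw [MulEquiv.orderOf_eq, h46])

theorem iso_map {K : Subgroup G} {L : Type} [Group L] (h : Nonempty (K ≃* L)) : Nonempty (K.map (e : G →* H) ≃* L) :=
  h.elim fun f => ⟨(e.subgroupMap K).symm.trans f⟩

/-- the centralisers correspond -/
def eC (x : G) : centralizer ({x} : Set G) ≃* centralizer ({e x} : Set H) where
  toFun g := ⟨e g, mem_centralizer_singleton_iff.2 (by rw [← map_mul, mem_centralizer_singleton_iff.1 g.2, map_mul])⟩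
  invFun g := ⟨e.symm g, mem_centralizer_singleton_iff.2 (e.injective (by
    rw [map_mul, map_mul, e.apply_symm_apply, mem_centralizer_singleton_iff.1 g.2]))⟩
  left_inv g := Subtype.ext (e.symm_apply_apply _)
  right_inv g := Subtype.ext (e.apply_symm_apply _)
  map_mul' a b := Subtype.ext (map_mul e _ _)

theorem quo_of_map {x : G} {S : Type} [Group S] (h : Quo (e x) S) : Quo x S := by
  obtain ⟨φ, h1, h2⟩ := h
  refine ⟨φ.comp (eC e x).toMonoidHom, h1.comp (eC e x).surjective, fun g => (h2 _).trans ?_⟩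
  show e g ∈ zpowers (e x) ↔ _
  rw [show zpowers (e x) = (zpowers x).map (e : G →* H) from (MonoidHom.map_zpowers (e : G →* H) x).symm]
  exact mem_map_iff_mem (f := (e : G →* H)) e.injective

end transfer

variable {G : Type} [Group G] (e : G ≃* BM)

include e

theorem finG : Finite G := by
  have := Loc.fin_BM
  exact Finite.of_equiv _ e.toEquiv.symm

theorem quo11 {x : G} (hx : orderOf x = 11) : Quo x S5 :=
  quo_of_map e (Loc.hom11 (by rw [MulEquiv.orderOf_eq, hx]))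

theorem quo13 {x : G} (hx : orderOf x = 13) : Quo x S4 := by
  have := Loc.fin_BM
  have hx' : orderOf (e x) = 13 := by rw [MulEquiv.orderOf_eq, hx]
  obtain ⟨L, h1, h2, ⟨f⟩⟩ := Loc.sub13 hx'
  exact quo_of_map e (quo_of_sub h1 f (by rw [Loc.cent13 hx', hx', h2]) (by rw [hx', h2]; norm_num))

theorem cent17 {x : G} (hx : orderOf x = 17) : Nat.card (centralizer ({x} : Set G)) = 68 :=
  (Nat.card_congr (eC e x).toEquiv).trans (Loc.cent17 (by rw [MulEquiv.orderOf_eq, hx]))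

theorem no46_11 {K : Subgroup G} (h : Nonempty (K ≃* PGL211)) (t : NT K 11) : No46 K :=
  no46_of_map e (N46.n11 _ (iso_map e h) (nt_map e t))

theorem no46_M11 {K : Subgroup G} (h : Nonempty (K ≃* ↥Cfsg.Spor.M11)) (t : NT K 11) : No46 K :=
  no46_of_map e (N46.nM11 _ (iso_map e h) (nt_map e t))

theorem no46_13 {K : Subgroup G} (h : 13 ∣ Nat.card K) : No46 K :=
  no46_of_map e (N46.n13 _ (by rwa [card_map_of_injective e.injective]))

theorem no46_17 {K : Subgroup G} (h : 17 ∣ Nat.card K) : No46 K :=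
  no46_of_map e (N46.n17 _ (by rwa [card_map_of_injective e.injective]))

omit e in
/-- a test by an element of order 46 -/
theorem tst46 {K : Subgroup G} (h : No46 K) {t g : G} (hg : g ∈ K ⊔ zpowers t) (h46 : orderOf g = 46) : Tst K t :=
  fun X hKX hX ht => h X hKX hX g (sup_le hKX (zpowers_le.2 ht) hg) h46

theorem dvd_map {X : Subgroup G} {g : G} (hg : g ∈ X) {r : ℕ} (hr : r ∣ orderOf g) :
    r ∣ Nat.card (X.map (e : G →* BM)) :=
  Top.dvd_of_mem (g := e g) (mem_map.2 ⟨g, hg, rfl⟩) (by rwa [MulEquiv.orderOf_eq])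

/-- a test by an element of order 47 -/
theorem tst47 {K : Subgroup G} {x : G} (hx : x ∈ K) {r : ℕ} (hr : r ∈ [5, 7, 11, 13, 17, 19, 31]) (h : r ∣ orderOf x)
    {t g : G} (hg : g ∈ K ⊔ zpowers t) (h47 : 47 ∣ orderOf g) : Tst K t := fun _ hKX hX ht =>
  map_ne_top e hX (Top.top47 (dvd_map e (sup_le hKX (zpowers_le.2 ht) hg) h47) hr (dvd_map e (hKX hx) h))

/-- a test by an element of order 31 -/
theorem tst31 {K : Subgroup G} {x : G} (hx : x ∈ K) {r : ℕ} (hr : r = 11 ∨ r = 17 ∨ r = 23) (h : r ∣ orderOf x)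
    {t g : G} (hg : g ∈ K ⊔ zpowers t) (h31 : 31 ∣ orderOf g) : Tst K t := fun _ hKX hX ht => by
  have h1 := dvd_map e (sup_le hKX (zpowers_le.2 ht) hg) h31
  have h2 := dvd_map e (hKX hx) h
  rcases hr with rfl | rfl | rfl
  exacts [map_ne_top e hX (Top.top31_11 h1 h2), map_ne_top e hX (Top.top31_17 h1 h2),
    map_ne_top e hX (Top.top31_23 h1 h2)]

/-- **The assembly in a model.** -/
theorem main_G {K1 K2 K3 K4 K5 : Subgroup G} (h1 : Nonempty (K1 ≃* L231))
    (h2 : Nonempty (K2 ≃* PGL211)) (t2 : NT K2 11) (t2' : NT K2 5)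
    (h3 : Nonempty (K3 ≃* ↥Cfsg.Spor.M11)) (t3 : NT K3 11) (t3' : NT K3 5)
    (h4 : Nonempty (K4 ≃* PGL217)) (t4 : NT K4 17) (t4' : NT K4 9)
    (h5 : Nonempty (K5 ≃* L33)) (t5 : NT K5 13) (t5' : NT K5 27) :
    (∃ M : Subgroup Cfsg.Spor.BabyMonster, IsCoatom M ∧ Nonempty (↥M ≃* Matrix.ProjectiveSpecialLinearGroup (Fin 2) (ZMod 31))) ∧
    (∃ M : Subgroup Cfsg.Spor.BabyMonster, IsCoatom M ∧ Nonempty (↥M ≃* GL (Fin 2) (ZMod 11) ⧸ Subgroup.center (GL (Fin 2) (ZMod 11)))) ∧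
    (∃ M : Subgroup Cfsg.Spor.BabyMonster, IsCoatom M ∧ Nonempty (↥M ≃* ↥Cfsg.Spor.M11)) ∧
    (∃ M : Subgroup Cfsg.Spor.BabyMonster, IsCoatom M ∧ Nonempty (↥M ≃* GL (Fin 2) (ZMod 17) ⧸ Subgroup.center (GL (Fin 2) (ZMod 17)))) ∧
    (∃ M : Subgroup Cfsg.Spor.BabyMonster, IsCoatom M ∧ Nonempty (↥M ≃* Matrix.ProjectiveSpecialLinearGroup (Fin 3) (ZMod 3))) :=
  Abs.main_of' ⟨_, iso_map e h1⟩ ⟨_, iso_map e h2, nt_map e t2, nt_map e t2'⟩ ⟨_, iso_map e h3, nt_map e t3, nt_map e t3'⟩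
    ⟨_, iso_map e h4, nt_map e t4, nt_map e t4'⟩ ⟨_, iso_map e h5, nt_map e t5, nt_map e t5'⟩

end Cfsg.Agent.BMx.Prim
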